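import Groth.Agent.Misc13.NumTriv.Uniform
import Groth.Agent.RelVA.PnData

/-!
# Uniform very ampleness and numerical invariance of bigness
-/

set_option autoImplicit false
set_option linter.unusedSectionVars false

universe u

open CategoryTheory CategoryTheory.Limits AlgebraicGeometry TopologicalSpace Opposite

namespace Groth.Misc13.NumTriv

open Groth.Inter Groth.PicAux Groth.HilbStab Groth.PropsBasic.Ample

variable (k : Type u) [Field k] {X : Scheme.{u}} [X.Over (Spec (CommRingCat.of k))]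
  [IsProper (X ↘ Spec (CommRingCat.of k))]

/-- A very ample module all whose numerically trivial twists are very ample. -/
theorem exists_veryAmple_twist {A₀ : X.Modules} (hA₀ : CohB1.IsAmple A₀) :
    ∃ A : X.Modules, PicF.IsInvertible A ∧
      ∀ N : X.Modules, NT k N →
        RelAmple.IsRelVeryAmplePn (X ↘ Spec (CommRingCat.of k)) (CohB1.tensorMod A N) := by
  have hN : IsNoetherian X := isNoetherian k
  let f := X ↘ Spec (CommRingCat.of k)
  obtain ⟨n₀, hn₀⟩ := Groth.Chow.exists_isRelVeryAmplePn f hA₀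
  obtain ⟨n, p, i, -, hi, hif, -⟩ := PnCoh.exists_closedImmersion_of_isAmple f hA₀
  have := hi
  have hO : Coh.IsCoh (Coh.structureModule X) :=
    isCoh_of_isInvertible (EulerDeg.isInvertible_structureModule X)
  obtain ⟨-, m, hm⟩ := goodNT k i hif hA₀ hO
  let V := CohB1.tensorPow A₀ n₀
  let T := (Scheme.Modules.pullback i).obj (Twist.twistProjSpace n k m)
  have hV : PicF.IsInvertible V := isInvertible_tensorPow hA₀.1 n₀
  have hT : PicF.IsInvertible T := isInvertible_tw k i m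
  refine ⟨CohB1.tensorMod V T, isInvertible_tensorMod hV hT, fun N hN' => ?_⟩
  have hL' : PicF.IsInvertible (CohB1.tensorMod T N) := isInvertible_tensorMod hT hN'.1
  have hc := RefRank.isCoh_tensorMod hO (isCoh_of_isInvertible hN'.1)
  haveI := hc.1
  have hdet : Variety2.Reg.DetByGlobal (Pic13.twistOn k i (CohB1.tensorMod (Coh.structureModule X) N) m) :=
    Variety2.Reg.detByGlobal_twistOn i _ m (Variety2.Reg.detByGlobal_of_mReg _
      (Variety2.Reg.isCoh_pF i _ hc) (Variety2.Reg.mReg_pF i _ (hm N hN')) le_rfl)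
  have hgg := (hdet.of_iso ((tensor_congr (tensor_one N) ⟨Iso.refl T⟩).some ≪≫
    (tensor_comm N T).some)).isGloballyGenerated
  choose t ht using fun x : X => VarietyBC.GGen.exists_mem_gloc hL' hgg x
  obtain ⟨s, hs⟩ := isCompact_univ.elim_finite_subcover (fun x : X => (gloc (t x) : Set X))
    (fun x => (gloc (t x)).isOpen) (fun x _ => Set.mem_iUnion.2 ⟨x, ht x⟩)
  have hd : RelVA.HasPnData f (CohB1.tensorMod V (CohB1.tensorMod T N)) :=
    RelVA.hasPnData_tensor hV hL' (RelVA.hasPnData_of_pn (hn₀ n₀ le_rfl)) (κ := s) (fun x => t x.1)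
      fun x => by
        obtain ⟨y, hy, hxy⟩ := Set.mem_iUnion₂.1 (hs (Set.mem_univ x))
        exact ⟨⟨y, hy⟩, hxy⟩
  obtain ⟨n', j, hj, hjf, ⟨e⟩⟩ := RelVA.isRelVeryAmplePn_of_hasPnData hd
  exact ⟨n', j, hj, hjf, ⟨(tensor_assoc V T N).some ≪≫ e⟩⟩

theorem veryAmple_of_twist {A : X.Modules}
    (h : ∀ N : X.Modules, NT k N →
      RelAmple.IsRelVeryAmplePn (X ↘ Spec (CommRingCat.of k)) (CohB1.tensorMod A N)) :
    RelAmple.IsRelVeryAmplePn (X ↘ Spec (CommRingCat.of k)) A := by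
  obtain ⟨n', j, hj, hjf, ⟨e⟩⟩ := h _ (nt_one k)
  exact ⟨n', j, hj, hjf, ⟨((tensor_comm A _).some ≪≫ (tensor_one A).some).symm ≪≫ e⟩⟩

variable [IsIntegral X]

/-- Bigness is numerical. -/
theorem hasAmpleSub_tensor_nt {L N : X.Modules} (hN' : NT k N)
    (h : HasAmpleSub L) : HasAmpleSub (CohB1.tensorMod L N) := by
  obtain ⟨ν, A, φ, hν, hA, hφ⟩ := h
  obtain ⟨M, -, hNM⟩ := exists_isInverseOf hN'.1
  have hnn : Nonneg k [M] := fun F hF hd =>
    ((nt_inverse k hN' hNM).2 F hF hd).ge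
  have hA' : CohB1.IsAmple (CohB1.tensorMod (CohB1.tensorPow N ν) A) :=
    isAmple_nef_tensor_ample k hA hN'.1 hNM hnn ν
  let g := (DCoh.tensorRightMod (CohB1.tensorPow N ν)).map φ
  have hg : Mono g :=
    (shortExact_tensorRightMod (isInvertible_tensorPow hN'.1 ν) (@CohTwo.cokerSeq_shortExact _ _ _ φ hφ)).mono_f
  let e₁ : CohB1.tensorMod (CohB1.tensorPow N ν) A ≅ CohB1.tensorMod A (CohB1.tensorPow N ν) :=
    (tensor_comm _ _).some
  let e₂ : CohB1.tensorPow (CohB1.tensorMod L N) ν ≅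
      CohB1.tensorMod (CohB1.tensorPow L ν) (CohB1.tensorPow N ν) := (tensorPow_tensorMod' L N ν).some
  have h1 : Mono e₁.hom := inferInstance
  have h2 : Mono e₂.inv := inferInstance
  exact ⟨ν, _, e₁.hom ≫ g ≫ e₂.inv, hν, hA',
    @mono_comp _ _ _ _ _ _ h1 _ (@mono_comp _ _ _ _ _ g hg _ h2)⟩

/-- Some power of a big module stays effective after every numerically trivial twist. -/
theorem exists_pow_effective {H L : X.Modules} (hH : CohB1.IsAmple H) (hL : PicF.IsInvertible L)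
    (hb : HasAmpleSub L) :
    ∃ a : ℕ, 0 < a ∧ ∀ j : ℕ, 0 < j → ∀ N : X.Modules, NT k N →
      0 < Module.finrank k (Coh.HH X (CohB1.tensorMod (CohB1.tensorPow L (a * j)) N) 0) := by
  have hN : IsNoetherian X := isNoetherian k
  obtain ⟨m₀, hm₀⟩ := exists_h0_eq k hH
  have hP : CohB1.IsAmple (CohB1.tensorPow H (m₀ + 1)) :=
    haveI := hH.2.1
    (Ega2Proj.isAmple_tensorPow_iff hH.1 (m₀ + 1) m₀.succ_pos).1 hH
  obtain ⟨a, φ, ha, hφ⟩ := BigNum.bigA_of_hasAmpleSub k hL hb _ hP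
  refine ⟨a, ha, fun j hj N hN' => ?_⟩
  obtain ⟨ψ, hψ⟩ := exists_mono_pow hP.1 (isInvertible_tensorPow hL a) φ j
  let χ := ψ ≫ (tensorPow_mul' L a j).some.hom
  have hχ : Mono χ := @mono_comp _ _ _ _ _ ψ hψ _ inferInstance
  let g := (DCoh.tensorRightMod N).map χ
  have hg : Mono g := (shortExact_tensorRightMod hN'.1 (@CohTwo.cokerSeq_shortExact _ _ _ χ hχ)).mono_f
  have hle := @finrank_h0_le_of_mono k _ X _ _ _ _ g hg
    (RefRank.isCoh_tensorMod (isCoh_of_isInvertible (isInvertible_tensorPow hL (a * j)))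
      (isCoh_of_isInvertible hN'.1))
  refine lt_of_lt_of_le ?_ hle
  change 0 < Module.finrank k
    (Coh.HH X (CohB1.tensorMod (CohB1.tensorPow (CohB1.tensorPow H (m₀ + 1)) j) N) 0)
  obtain ⟨h1, h2⟩ := hm₀ ((m₀ + 1) * j) (le_trans (Nat.le_succ m₀) (Nat.le_mul_of_pos_right _ hj)) N hN'
  rw [finrank_h0_congr k (tensor_congr (tensorPow_mul' H (m₀ + 1) j) ⟨Iso.refl N⟩).some, h1]
  exact h2

end Groth.Misc13.NumTriv
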