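import Groth.Agent.Misc13.NumTriv.Basic
import Groth.Agent.Misc13.SurfNef
import Groth.Agent.HilbStab.BC.Pull
import Groth.Agent.FBaseGeom.Dim
import Groth.Agent.QCohMod.SupportPullback
import Groth.Agent.Chow.General

/-!
# Nefness and numerical triviality under extension of the field
-/

set_option autoImplicit false
set_option linter.unusedSectionVars false

universe u

open CategoryTheory CategoryTheory.Limits AlgebraicGeometry TopologicalSpace Opposite

namespace Groth.Misc13.NumTriv

open Groth.Inter Groth.PicAux Groth.HilbStab.BC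
open Groth.CohBase (IsBC isAffineHom_of_bc)

section Nef

variable (k : Type u) [Field k] {X : Scheme.{u}} [X.Over (Spec (CommRingCat.of k))]
  [IsProper (X ↘ Spec (CommRingCat.of k))]

/-- Nef, through the differences of coherent modules in dimension one. -/
def Nef (L : X.Modules) : Prop :=
  ∀ F : X.Modules, Coh.IsCoh F → topologicalKrullDim (CohB1.support F) ≤ ((1 : ℕ) : WithBot ℕ∞) →
    delta k [L] F ≤ 0

theorem nef_iff_nonneg {L M : X.Modules} (hL : PicF.IsInvertible L) (hLM : ClSub.IsInverseOf L M) :
    Nef k L ↔ Nonneg k [M] := by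
  constructor
  · intro h F hF hd
    rw [delta_inverse_one k hL hLM hF (by simpa using hd)]
    exact neg_nonneg.2 (h F hF (by simpa using hd))
  · intro h F hF hd
    have h1 := h F hF (by simpa using hd)
    rw [delta_inverse_one k hL hLM hF hd] at h1
    omega

theorem nef_iff_curves {L : X.Modules} (hL : PicF.IsInvertible L) :
    Nef k L ↔ ∀ C : X.IdealSheafData, IsIntegral C.subscheme →
      topologicalKrullDim (C.support : Set X) = 1 →
        0 ≤ Curv2.euler k X (CohB1.tensorMod (ClSub.quotMod C) L) - Curv2.euler k X (ClSub.quotMod C) := by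
  constructor
  · intro h C _ hC
    obtain ⟨hQ, hs⟩ := support_quotMod k C
    have h1 := h _ hQ (by rw [hs, hC]; rfl)
    rw [SurfNef.delta_one] at h1
    omega
  · intro h
    obtain ⟨M, hM, hLM⟩ := exists_isInverseOf hL
    refine (nef_iff_nonneg k hL hLM).2 (SurfNef.nonneg_one k hM fun C hCi hC => ?_)
    obtain ⟨hQ, hs⟩ := support_quotMod k C
    have h1 := h C hCi hC
    have h2 := delta_inverse_one k hL hLM hQ (by rw [hs, hC]; rfl)
    rw [SurfNef.delta_one, SurfNef.delta_one] at h2
    omega

theorem nt_iff_nef {L M : X.Modules} (hL : PicF.IsInvertible L) (hLM : ClSub.IsInverseOf L M) :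
    NT k L ↔ Nef k L ∧ Nef k M := by
  constructor
  · exact fun h => ⟨fun F hF hd => (h.2 F hF (by simpa using hd)).le,
      fun F hF hd => ((nt_inverse k h hLM).2 F hF (by simpa using hd)).le⟩
  · rintro ⟨h1, h2⟩
    refine ⟨hL, fun F hF hd => ?_⟩
    have hd' : topologicalKrullDim (CohB1.support F) ≤ ((1 : ℕ) : WithBot ℕ∞) := by simpa using hd
    have a := h1 F hF hd'
    have b := h2 F hF hd'
    rw [delta_inverse_one k hL hLM hF hd'] at b
    omega

theorem nef_pullback {Z : Scheme.{u}} [Z.Over (Spec (CommRingCat.of k))]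
    [IsProper (Z ↘ Spec (CommRingCat.of k))] (π : Z ⟶ X)
    (hπ : π ≫ (X ↘ Spec (CommRingCat.of k)) = Z ↘ Spec (CommRingCat.of k)) {L : X.Modules}
    (hLi : PicF.IsInvertible L) (hL : Nef k L) : Nef k ((Scheme.Modules.pullback π).obj L) := by
  intro F hF hd
  have hN : IsNoetherian X := isNoetherian k
  have hN' : IsNoetherian Z := isNoetherian k
  have : IsProper π := by
    have : IsProper (π ≫ (X ↘ Spec (CommRingCat.of k))) := hπ ▸ inferInstance
    exact IsProper.of_comp π (X ↘ Spec (CommRingCat.of k))
  have hd' : topologicalKrullDim (CohB1.support F) ≤ (([L] : List X.Modules).length : ℕ) := by simpa using hd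
  have h := delta_pullback_eq k π hπ (l := [L]) (by simpa using hLi) hF hd'
  simp only [List.map_cons, List.map_nil] at h
  rw [h]
  exact hL _ (isCoh_push_proper π hF) ((dim_support_push_le π _ (CohTwo.isClosed_support _ hF)
    (CohTwo.isClosed_support _ (isCoh_push_proper π hF))).trans hd)

theorem pullback_inverse {X' : Scheme.{u}} (g : X' ⟶ X) {L M : X.Modules} (hLM : ClSub.IsInverseOf L M) :
    ClSub.IsInverseOf ((Scheme.Modules.pullback g).obj L) ((Scheme.Modules.pullback g).obj M) :=
  ⟨(exists_pullback_tensorMod g L M).choose.symm ≪≫ (Scheme.Modules.pullback g).mapIso hLM.some ≪≫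
    (pullback_structure_iso g).some⟩

theorem nef_of_surjective {Z : Scheme.{u}} [Z.Over (Spec (CommRingCat.of k))]
    [IsProper (Z ↘ Spec (CommRingCat.of k))] (π : Z ⟶ X)
    (hπ : π ≫ (X ↘ Spec (CommRingCat.of k)) = Z ↘ Spec (CommRingCat.of k)) [Surjective π] {L : X.Modules}
    (hLi : PicF.IsInvertible L) (hL : Nef k ((Scheme.Modules.pullback π).obj L)) : Nef k L := by
  obtain ⟨M, hM, hLM⟩ := exists_isInverseOf hLi
  refine (nef_iff_nonneg k hLi hLM).2 (nonneg_of_surjective k π hπ hM ?_)
  exact (nef_iff_nonneg k (PicAux.isInvertible_pullback π hLi) (pullback_inverse π hLM)).1 hL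

theorem nef_iso {L L' : X.Modules} (e : L ≅ L') (h : Nef k L) : Nef k L' := fun F hF hd =>
  (delta_congr_list k (List.Forall₂.cons ⟨e⟩ .nil) F).symm.trans_le (h F hF hd)

theorem delta_ample_le {A : X.Modules} (hA : CohB1.IsAmple A) {F : X.Modules} (hF : Coh.IsCoh F)
    (hd : topologicalKrullDim (CohB1.support F) ≤ ((1 : ℕ) : WithBot ℕ∞)) : delta k [A] F ≤ 0 := by
  obtain ⟨B, hB, hAB⟩ := exists_isInverseOf hA.1
  have h := delta_inverse_one k hA.1 hAB hF hd
  rcases hd.lt_or_eq with hlt | heq
  · rw [delta_eq_zero k [A] (by simpa using hA.1) F hF (by simpa using hlt)]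
  · have := delta_pos k [B] (fun N hN => (List.mem_singleton.1 hN).symm ▸ ⟨A, hA, hAB⟩) F hF
      (by simpa using heq)
    omega

end Nef

section BC

variable (k : Type u) [Field k] (X : Scheme.{u}) [X.Over (Spec (CommRingCat.of k))]
  (K : Type u) [Field K] [Algebra k K]

/-- The structure of the base change. -/
noncomputable local instance : (Curv2.bc k X K).Over (Spec (CommRingCat.of K)) := overBC k X K

variable [IsProper (X ↘ Spec (CommRingCat.of k))]

theorem isProper_bcK : IsProper (Curv2.bc k X K ↘ Spec (CommRingCat.of K)) := isProper_bc (isBC_bc k X K)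

/-- The base change does not raise the height. -/
theorem height_bc_le {z : Curv2.bc k X K} {x : X} (h : Curv2.bcFst k X K z ∈ closure ({x} : Set X)) :
    Order.height z ≤ Order.height x := by
  let f := X ↘ Spec (CommRingCat.of k)
  let D : Set (FBase.bc f K) := FBase.bcπ f K ⁻¹' closure {x}
  let z' : ↥D := ⟨z, h⟩
  have hdim := FBaseGeom.dim_component_preimage f K isClosed_closure
    isIrreducible_singleton.closure (irreducibleComponent_mem_irreducibleComponents z')
  rw [Variety2.Dim.dim_closure_singleton] at hdim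
  have hle : topologicalKrullDim (closure ({z'} : Set ↥D)) ≤
      topologicalKrullDim (irreducibleComponent z') := LocCohTransform.topologicalKrullDim_mono
    (closure_minimal (Set.singleton_subset_iff.2 mem_irreducibleComponent) isClosed_irreducibleComponent)
  have hcl : IsClosed D := isClosed_closure.preimage (FBase.bcπ f K).continuous
  have he : topologicalKrullDim (closure ({z'} : Set ↥D)) =
      topologicalKrullDim (closure ({z} : Set (Curv2.bc k X K))) := by
    rw [(hcl.isClosedEmbedding_subtypeVal.isEmbedding.homeomorphImage _).isHomeomorph.topologicalKrullDim_eq,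
      ← hcl.isClosedEmbedding_subtypeVal.closure_image_eq, Set.image_singleton]
    rfl
  rw [he, hdim, Variety2.Dim.dim_closure_singleton] at hle
  exact WithBot.coe_le_coe.1 hle

theorem dim_support_pullback_le {F : X.Modules} (hF : Coh.IsCoh F) {r : ℕ}
    (hd : topologicalKrullDim (CohB1.support F) ≤ (r : WithBot ℕ∞)) :
    topologicalKrullDim (CohB1.support ((Scheme.Modules.pullback (Curv2.bcFst k X K)).obj F)) ≤
      (r : WithBot ℕ∞) := by
  have := hF.1
  have hN : IsNoetherian X := isNoetherian k
  have := isProper_bcK k X K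
  have hN' : IsNoetherian (Curv2.bc k X K) := isNoetherian K
  rw [QCohMod.support_pullback _ F hF.2,
    Variety2.Dim.dim_closed ((CohTwo.isClosed_support F hF).preimage (Curv2.bcFst k X K).continuous)]
  refine iSup₂_le fun z hz => ?_
  have h1 : topologicalKrullDim (closure ({Curv2.bcFst k X K z} : Set X)) ≤ (r : WithBot ℕ∞) :=
    (LocCohTransform.topologicalKrullDim_mono
      (closure_minimal (Set.singleton_subset_iff.2 (show Curv2.bcFst k X K z ∈ CohB1.support F from hz))
        (CohTwo.isClosed_support F hF))).trans hd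
  rw [Variety2.Dim.dim_closure_singleton] at h1
  exact (WithBot.coe_le_coe.2 (height_bc_le k X K (subset_closure rfl))).trans h1

theorem delta_bc_one {L : X.Modules} (hL : PicF.IsInvertible L) {F : X.Modules} (hF : Coh.IsCoh F) :
    delta K [(Scheme.Modules.pullback (Curv2.bcFst k X K)).obj L]
      ((Scheme.Modules.pullback (Curv2.bcFst k X K)).obj F) = delta k [L] F := by
  have := hF.1
  have hN : IsNoetherian X := isNoetherian k
  have hLF := isCoh_twist hL hF
  have := hLF.1
  rw [delta_cons, delta_cons, delta_nil, delta_nil, delta_nil, delta_nil, euler_bc k X K F,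
    ← euler_bc k X K (CohB1.tensorMod L F),
    EulerDeg.euler_congr K (exists_pullback_tensorMod (Curv2.bcFst k X K) L F).choose.symm]

/-- Nefness descends along field extensions. -/
theorem nef_of_bc {L : X.Modules} (hL : PicF.IsInvertible L)
    (h : Nef K ((Scheme.Modules.pullback (Curv2.bcFst k X K)).obj L)) : Nef k L := fun F hF hd => by
  have := isProper_bcK k X K
  rw [← delta_bc_one k X K hL hF]
  exact h _ (HilbStab.BC.isCoh_pullback hF) (dim_support_pullback_le k X K hF hd)

/-- Nefness ascends along field extensions on a projective scheme. -/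
theorem nef_bc_of_ample {A : X.Modules} (hA : CohB1.IsAmple A) {L : X.Modules}
    (hL : PicF.IsInvertible L) (h : Nef k L) :
    Nef K ((Scheme.Modules.pullback (Curv2.bcFst k X K)).obj L) := by
  have := isProper_bcK k X K
  intro F hF hd
  let g := Curv2.bcFst k X K
  obtain ⟨M, hM, hLM⟩ := exists_isInverseOf hL
  have hnn := (nef_iff_nonneg k hL hLM).1 h
  have hgL : PicF.IsInvertible ((Scheme.Modules.pullback g).obj L) := PicAux.isInvertible_pullback g hL
  have hgA : PicF.IsInvertible ((Scheme.Modules.pullback g).obj A) := PicAux.isInvertible_pullback g hA.1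
  have key : ∀ ν : ℕ, (ν : ℤ) * delta K [(Scheme.Modules.pullback g).obj L] F +
      delta K [(Scheme.Modules.pullback g).obj A] F ≤ 0 := fun ν => by
    have hC := HilbStab.BC.isAmple_pullback (isBC_bc k X K) (isAmple_nef_tensor_ample k hA hL hLM hnn ν)
    refine le_of_eq_of_le ?_ (delta_ample_le K hC hF hd)
    rw [delta_congr_list K (List.Forall₂.cons ⟨(exists_pullback_tensorMod g _ A).choose ≪≫
        (tensor_congr ⟨(PicAux.pullback_tensorPow g L ν).some⟩ ⟨Iso.refl _⟩).some⟩ .nil) F,
      delta_tensor K (isInvertible_tensorPow hgL ν) hgA (l := []) (by simp) hF (by simpa using hd),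
      delta_pow_cons K hgL (l := []) (by simp) hF (by simpa using hd)]
  by_contra hneg
  have h1 := key ((delta K [(Scheme.Modules.pullback g).obj A] F).natAbs + 1)
  push_cast at h1
  nlinarith [abs_nonneg (delta K [(Scheme.Modules.pullback g).obj A] F),
    neg_abs_le (delta K [(Scheme.Modules.pullback g).obj A] F)]

end BC

section Proper

variable (k : Type u) [Field k] (X : Scheme.{u}) [X.Over (Spec (CommRingCat.of k))]
  (K : Type u) [Field K] [Algebra k K] [IsProper (X ↘ Spec (CommRingCat.of k))]

/-- Nefness is invariant under extension of the field. -/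
theorem nef_bc_iff {L : X.Modules} (hL : PicF.IsInvertible L) :
    @Nef K _ (Curv2.bc k X K) (overBC k X K) ((Scheme.Modules.pullback (Curv2.bcFst k X K)).obj L) ↔
      Nef k L := by
  letI := overBC k X K
  refine ⟨nef_of_bc k X K hL, fun h => ?_⟩
  have hN : IsNoetherian X := isNoetherian k
  let f := X ↘ Spec (CommRingCat.of k)
  have := quasiSeparatedSpace_of_quasiSeparated f
  obtain ⟨N, X', μ, j, hj, hje, hμ, hsurj⟩ := Groth.Chow.exists_chow_general f
  letI : X'.Over (Spec (CommRingCat.of k)) := ⟨μ ≫ f⟩
  have : IsProper (X' ↘ Spec (CommRingCat.of k)) := inferInstanceAs (IsProper (μ ≫ f))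
  letI := overBC k X' K
  have : QuasiCompact (μ ≫ f) := inferInstance
  let A := (Scheme.Modules.pullback j).obj (Twist.twistOver N (Spec (CommRingCat.of k)) 1)
  have hA : CohB1.IsAmple A := Chow.isAmple_of_immersion (μ ≫ f) _ N j (Iso.refl _)
  have := isProper_bcK k X K
  have := isProper_bcK k X' K
  let π : Curv2.bc k X' K ⟶ Curv2.bc k X K :=
    pullback.lift (Curv2.bcFst k X' K ≫ μ) (Curv2.bcSnd k X' K)
      ((Category.assoc _ _ _).trans pullback.condition)
  have hπ : π ≫ (Curv2.bc k X K ↘ Spec (CommRingCat.of K)) = Curv2.bc k X' K ↘ Spec (CommRingCat.of K) :=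
    pullback.lift_snd _ _ _
  have hsq : IsPullback (Curv2.bcFst k X' K) π μ (Curv2.bcFst k X K) :=
    IsPullback.of_bot (by
      rw [show π ≫ Curv2.bcSnd k X K = Curv2.bcSnd k X' K from pullback.lift_snd _ _ _]
      exact IsPullback.of_hasPullback (μ ≫ f) (Spec.map (CommRingCat.ofHom (algebraMap k K))))
      (pullback.lift_fst _ _ _).symm (IsPullback.of_hasPullback _ _)
  have : Surjective π := MorphismProperty.of_isPullback hsq hsurj
  refine nef_of_surjective K π hπ (PicAux.isInvertible_pullback _ hL) ?_
  have h1 := nef_bc_of_ample k X' K hA (PicAux.isInvertible_pullback μ hL) (nef_pullback k μ rfl hL h)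
  refine nef_iso K ?_ h1
  exact (Scheme.Modules.pullbackComp (Curv2.bcFst k X' K) μ).app L ≪≫
    (Scheme.Modules.pullbackCongr (pullback.lift_fst _ _ _).symm).app L ≪≫
    ((Scheme.Modules.pullbackComp π (Curv2.bcFst k X K)).app L).symm

/-- Numerical triviality is invariant under extension of the field. -/
theorem nt_bc_iff {L : X.Modules} (hL : PicF.IsInvertible L) :
    @NT K _ (Curv2.bc k X K) (overBC k X K) ((Scheme.Modules.pullback (Curv2.bcFst k X K)).obj L) ↔
      NT k L := by
  letI := overBC k X K
  have := isProper_bcK k X K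
  obtain ⟨M, hM, hLM⟩ := exists_isInverseOf hL
  rw [nt_iff_nef K (PicAux.isInvertible_pullback _ hL) (pullback_inverse (Curv2.bcFst k X K) hLM),
    nt_iff_nef k hL hLM, nef_bc_iff k X K hL, nef_bc_iff k X K hM]

end Proper

end Groth.Misc13.NumTriv
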