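import Groth.Agent.Misc13.NumTriv.Reg
import Groth.Agent.Inter.Growth3
import Groth.Agent.FibreDim.Constructible

/-!
# Uniform vanishing and constancy of Euler characteristics

The consequences for a projective scheme of uniform regularity, and the constancy of the Euler
characteristic under numerically trivial twists on any proper scheme.
-/

set_option autoImplicit false
set_option linter.unusedSectionVars false

universe u

open CategoryTheory CategoryTheory.Limits AlgebraicGeometry TopologicalSpace Opposite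

namespace Groth.Misc13.NumTriv

open Groth.Inter Groth.PicAux Groth.HilbStab Groth.PropsBasic.Ample

variable (k : Type u) [Field k] {X : Scheme.{u}} [X.Over (Spec (CommRingCat.of k))]
  [IsProper (X ↘ Spec (CommRingCat.of k))]

theorem pow_congr {A B : X.Modules} (e : A ≅ B) :
    ∀ n : ℕ, Nonempty (CohB1.tensorPow A n ≅ CohB1.tensorPow B n)
  | 0 => ⟨Iso.refl _⟩
  | n + 1 => tensor_congr (pow_congr e n) ⟨e⟩

/-- Uniform Serre vanishing. -/
theorem exists_vanishing {A : X.Modules} (hA : CohB1.IsAmple A) {F : X.Modules} (hF : Coh.IsCoh F) :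
    ∃ m₀ : ℕ, ∀ m : ℕ, m₀ ≤ m → ∀ L : X.Modules, NT k L → ∀ q : ℕ, 1 ≤ q →
      Subsingleton (Coh.HH X (CohB1.tensorMod (CohB1.tensorMod F L) (CohB1.tensorPow A m)) q) := by
  have hN : IsNoetherian X := isNoetherian k
  obtain ⟨n, p, i, hp, hi, hif, ⟨e⟩⟩ :=
    PnCoh.exists_closedImmersion_of_isAmple (X ↘ Spec (CommRingCat.of k)) hA
  have := hi
  have hgood : ∀ j : ℕ, GoodNT k i (CohB1.tensorMod F (CohB1.tensorPow A j)) := fun j =>
    goodNT k i hif hA (RefRank.isCoh_tensorMod hF (isCoh_of_isInvertible (isInvertible_tensorPow hA.1 j)))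
  choose _ M hM using hgood
  let a₀ := (Finset.range p).sup fun j => (M j).toNat
  refine ⟨p * (a₀ + 1), fun m hm L hL q hq => ?_⟩
  let a := m / p
  let j := m % p
  have hj : j < p := Nat.mod_lt _ hp
  have ha : a₀ ≤ a := le_trans (Nat.le_succ _)
    ((Nat.le_div_iff_mul_le hp).2 (by rw [mul_comm]; exact hm))
  have hMa : M j ≤ (a : ℤ) := by
    have h1 : (M j).toNat ≤ a₀ :=
      Finset.le_sup (f := fun j => (M j).toNat) (Finset.mem_range.2 hj)
    omega
  have hreg := mReg_mono k i
    (RefRank.isCoh_tensorMod (RefRank.isCoh_tensorMod hF (isCoh_of_isInvertible (isInvertible_tensorPow hA.1 j)))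
      (isCoh_of_isInvertible hL.1))
    (hM j L hL) (show M j ≤ (a : ℤ) + q by omega) q hq
  rw [add_sub_cancel_right] at hreg
  obtain ⟨et⟩ := PnCoh.nonempty_twist_pow (CohB1.polyGrading n k) (Variety2.Reg.gen_one n k) a
  have e1 : CohB1.tensorPow A (p * a) ≅
      (Scheme.Modules.pullback i).obj (Twist.twistProjSpace n k (a : ℤ)) :=
    (tensorPow_mul' A p a).some.symm ≪≫ (pow_congr e a).some ≪≫
      (pullback_tensorPow i _ a).some.symm ≪≫ (Scheme.Modules.pullback i).mapIso et
  have e2 : CohB1.tensorPow A m ≅ CohB1.tensorMod (CohB1.tensorPow A j)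
      ((Scheme.Modules.pullback i).obj (Twist.twistProjSpace n k (a : ℤ))) :=
    eqToIso (congrArg (CohB1.tensorPow A) (Nat.mod_add_div m p).symm) ≪≫
      (PicAux.tensorPow_add A j (p * a)).some ≪≫ (tensor_congr ⟨Iso.refl _⟩ ⟨e1⟩).some
  refine Inter.subsingleton_HH_of_iso k ?_ hreg
  exact (tensor_congr ⟨(tensor_assoc F _ L).some ≪≫ (tensor_congr ⟨Iso.refl F⟩ (tensor_comm _ L)).some ≪≫
      (tensor_assoc F L _).some.symm⟩ ⟨Iso.refl _⟩).some ≪≫ (tensor_assoc _ _ _).some ≪≫
    (tensor_congr ⟨Iso.refl _⟩ ⟨e2.symm⟩).some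

/-- The Euler characteristic on a projective scheme ignores numerically trivial twists. -/
theorem delta_eq_zero_of_ample {A : X.Modules} (hA : CohB1.IsAmple A) {L : X.Modules} (hL : NT k L)
    {F : X.Modules} (hF : Coh.IsCoh F) : delta k [L] F = 0 := by
  obtain ⟨n, p, i, -, hi, hif, -⟩ :=
    PnCoh.exists_closedImmersion_of_isAmple (X ↘ Spec (CommRingCat.of k)) hA
  have := hi
  exact (goodNT k i hif hA hF).1 L hL

theorem nt_pullback_proper {Z : Scheme.{u}} [Z.Over (Spec (CommRingCat.of k))]
    [IsProper (Z ↘ Spec (CommRingCat.of k))] (π : Z ⟶ X)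
    (hπ : π ≫ (X ↘ Spec (CommRingCat.of k)) = Z ↘ Spec (CommRingCat.of k)) {L : X.Modules}
    (hL : NT k L) : NT k ((Scheme.Modules.pullback π).obj L) := by
  have hN : IsNoetherian X := isNoetherian k
  refine ⟨PicAux.isInvertible_pullback π hL.1, fun F hF hd => ?_⟩
  have hd' : topologicalKrullDim (CohB1.support F) ≤ (([L] : List X.Modules).length : ℕ) := by
    simpa using hd
  have hN' : IsNoetherian Z := isNoetherian k
  have : IsProper π := by
    have : IsProper (π ≫ (X ↘ Spec (CommRingCat.of k))) := hπ ▸ inferInstance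
    exact IsProper.of_comp π (X ↘ Spec (CommRingCat.of k))
  have h := delta_pullback_eq k π hπ (l := [L]) (by simpa using hL.1) hF hd'
  simp only [List.map_cons, List.map_nil] at h
  rw [h]
  exact hL.2 _ (isCoh_push_proper π hF) ((dim_support_push_le π _ (CohTwo.isClosed_support _ hF)
    (CohTwo.isClosed_support _ (isCoh_push_proper π hF))).trans hd')

/-- The Euler characteristic on a proper scheme ignores numerically trivial twists. -/
theorem delta_eq_zero_of_nt {L : X.Modules} (hL : NT k L) {F : X.Modules} (hF : Coh.IsCoh F) :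
    delta k [L] F = 0 := by
  have hN : IsNoetherian X := isNoetherian k
  have hl : ∀ M ∈ [L], PicF.IsInvertible M := by simpa using hL.1
  have hadd : ∀ S : ShortComplex X.Modules, S.ShortExact → Coh.IsCoh S.X₁ → Coh.IsCoh S.X₂ →
      Coh.IsCoh S.X₃ → delta k [L] S.X₂ = delta k [L] S.X₁ + delta k [L] S.X₃ :=
    fun S hS c₁ _ c₃ => delta_add k hl hS c₁ c₃
  suffices h : ∀ (d : ℕ) (η : X), topologicalKrullDim (closure ({η} : Set X)) = (d : WithBot ℕ∞) →
      delta k [L] (Cyc.closureStructureSheaf η) = 0 by
    refine additive_eq_zero_of_support (delta k [L]) isClosed_univ (fun S hS a b c _ _ _ => hadd S hS a b c)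
      (fun y _ => ?_) hF (Set.subset_univ _)
    obtain ⟨d, hd⟩ := Variety2.Dim.exists_height_eq (X ↘ Spec (CommRingCat.of k)) y
    exact h d y (by rw [Variety2.Dim.dim_closure_singleton, hd]; rfl)
  intro d
  induction d using Nat.strong_induction_on with
  | _ d ih =>
  intro η heq
  obtain ⟨Z, instZ, hZp, ρ, A, hρp, hρ, hA, hZd, hT⟩ := exists_cover_point k η
  have hO : Coh.IsCoh (Coh.structureModule Z) :=
    isCoh_of_isInvertible (EulerDeg.isInvertible_structureModule Z)
  obtain ⟨j₀, hj₀⟩ := exists_delta_pullback_eq k ρ hρ hA [L] hl _ hO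
  obtain ⟨hmem, hsub⟩ := hT j₀
  let T := CohB1.tensorMod (CohB1.tensorPow A j₀) (Coh.structureModule Z)
  let G := (Coh.push ρ).obj T
  have hTc : Coh.IsCoh T := isCoh_twist (PicAux.isInvertible_tensorPow hA.1 _) hO
  have hG : Coh.IsCoh G := by
    have : IsLocallyNoetherian Z := LocallyOfFiniteType.isLocallyNoetherian ρ
    exact isCoh_push_proper ρ hTc
  have hGzero : delta k [L] G = 0 := by
    rw [← hj₀ j₀ le_rfl]
    exact delta_eq_zero_of_ample k hA (nt_pullback_proper k ρ hρ hL) hTc
  let χ : X.Modules → ℤ := fun H =>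
    delta k [L] H - ((Module.length (X.presheaf.stalk η) (H.presheaf.stalk η)).toNat : ℤ) *
      delta k [L] (Cyc.closureStructureSheaf η)
  have hne : ∀ H : X.Modules, Coh.IsCoh H → CohB1.support H ⊆ closure {η} →
      Module.length (X.presheaf.stalk η) (H.presheaf.stalk η) ≠ ⊤ := fun H hH hHs =>
    KTheory.Devissage.length_stalk_ne_top hH η fun z hz hzη =>
      (eq_of_dim_closure (specializes_iff_mem_closure.1 hzη)
        ((LocCohTransform.topologicalKrullDim_mono (closure_minimal
          (Set.singleton_subset_iff.2 (hHs hz)) isClosed_closure)).trans heq.le) heq.ge).symm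
  have hχ : χ G = 0 := by
    refine additive_eq_zero_of_support χ isClosed_closure (fun S hS c₁ c₂ c₃ s₁ s₂ s₃ => ?_)
      (fun y hy => ?_) hG hsub
    · simp only [χ]
      rw [hadd S hS c₁ c₂ c₃, length_stalk_add hS η,
        ENat.toNat_add (hne _ c₁ s₁) (hne _ c₃ s₃)]
      push_cast
      ring
    · simp only [χ]
      by_cases hyη : η ∈ closure ({y} : Set X)
      · obtain rfl : η = y := eq_of_dim_closure hyη ((LocCohTransform.topologicalKrullDim_mono hy).trans
          heq.le) heq.ge
        rw [KTheory.Devissage.length_closureStructureSheaf η]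
        simp
      · have h0 : Module.length (X.presheaf.stalk η) ((Cyc.closureStructureSheaf y).presheaf.stalk η) = 0 :=
          Module.length_eq_zero_iff.2 (not_not.1 fun h =>
            hyη (KTheory.Devissage.support_closureStructureSheaf_subset y h))
        obtain ⟨d', hd'⟩ := Variety2.Dim.exists_height_eq (X ↘ Spec (CommRingCat.of k)) y
        have hy' : topologicalKrullDim (closure ({y} : Set X)) = (d' : WithBot ℕ∞) := by
          rw [Variety2.Dim.dim_closure_singleton, hd']; rfl
        have hlt : topologicalKrullDim (closure ({y} : Set X)) < topologicalKrullDim (closure ({η} : Set X)) :=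
          LocCohTransform.topologicalKrullDim_lt_of_ssubset hy
            (fun h => hyη (h (subset_closure rfl))) isClosed_closure isClosed_closure
            isIrreducible_singleton.closure (heq ▸ WithBot.coe_lt_coe.2 (ENat.natCast_lt_top _))
        rw [hy', heq] at hlt
        rw [h0, ih d' (by exact_mod_cast hlt) y hy']
        simp
  have hpos : 0 < (Module.length (X.presheaf.stalk η) (G.presheaf.stalk η)).toNat :=
    Nat.pos_of_ne_zero fun h => by
      rcases ENat.toNat_eq_zero.1 h with h' | h'
      · exact hmem (Module.length_eq_zero_iff.1 h')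
      · exact hne G hG hsub h'
  simp only [χ, hGzero, zero_sub, neg_eq_zero, mul_eq_zero] at hχ
  rcases hχ with h | h
  · omega
  · exact h

include k in
/-- A proper scheme over a field has finite dimension. -/
theorem exists_dim_le : ∃ d : ℕ, topologicalKrullDim X ≤ (d : WithBot ℕ∞) := by
  let f := X ↘ Spec (CommRingCat.of k)
  let p : Spec (CommRingCat.of k) := IsLocalRing.closedPoint k
  haveI : Subsingleton ↥(Spec (CommRingCat.of k)) := inferInstanceAs (Subsingleton (PrimeSpectrum k))
  have hs : Function.Surjective (f.fiberι p).base := fun v =>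
    (f.range_fiberι p).ge (Subsingleton.elim _ _)
  have e := ((f.fiberι p).isEmbedding.toHomeomorphOfSurjective hs).isHomeomorph.topologicalKrullDim_eq
  have hne := Groth.FibreDim.dim_fiber_ne_top f p
  rw [e] at hne
  rcases hb : topologicalKrullDim X with _ | _ | d
  · exact ⟨0, bot_le⟩
  · exact absurd hb hne
  · exact ⟨d, le_rfl⟩

/-- The Euler characteristic form. -/
theorem euler_tensor {L : X.Modules} (hL : NT k L) {F : X.Modules} (hF : Coh.IsCoh F) :
    Curv2.euler k X (CohB1.tensorMod F L) = Curv2.euler k X F := by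
  have h := delta_eq_zero_of_nt k hL hF
  rw [delta_cons, delta_nil, delta_nil] at h
  rw [EulerDeg.euler_congr k (tensor_comm F L).some]
  omega

/-- Sections of high twists do not see numerically trivial twists. -/
theorem exists_h0_eq [IsIntegral X] {A : X.Modules} (hA : CohB1.IsAmple A) :
    ∃ m₀ : ℕ, ∀ m : ℕ, m₀ ≤ m → ∀ N : X.Modules, NT k N →
      Module.finrank k (Coh.HH X (CohB1.tensorMod (CohB1.tensorPow A m) N) 0) =
          Module.finrank k (Coh.HH X (CohB1.tensorPow A m) 0) ∧
        0 < Module.finrank k (Coh.HH X (CohB1.tensorPow A m) 0) := by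
  have hN : IsNoetherian X := isNoetherian k
  have hO : Coh.IsCoh (Coh.structureModule X) :=
    isCoh_of_isInvertible (EulerDeg.isInvertible_structureModule X)
  obtain ⟨m₁, hm₁⟩ := exists_vanishing k hA hO
  obtain ⟨p, hp⟩ := exists_section_twist k hA (EulerDeg.isInvertible_structureModule X)
  refine ⟨max m₁ p, fun m hm N hN' => ?_⟩
  have hAm := isInvertible_tensorPow hA.1 m
  have e : ∀ L : X.Modules, CohB1.tensorMod (CohB1.tensorMod (Coh.structureModule X) L) (CohB1.tensorPow A m) ≅
      CohB1.tensorMod (CohB1.tensorPow A m) L :=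
    fun L => (tensor_congr (tensor_one L) ⟨Iso.refl _⟩).some ≪≫ (tensor_comm _ _).some
  have hχ : ∀ L : X.Modules, NT k L → Curv2.euler k X (CohB1.tensorMod (CohB1.tensorPow A m) L) =
      (Module.finrank k (Coh.HH X (CohB1.tensorMod (CohB1.tensorPow A m) L) 0) : ℤ) := fun L hL => by
    rw [EulerDeg.euler_eq_sum (k := k) (N := 1) fun q hq =>
      Inter.subsingleton_HH_of_iso k (e L) (hm₁ m ((le_max_left _ _).trans hm) L hL q hq)]
    simp
  have e1 : CohB1.tensorMod (CohB1.tensorPow A m) (Coh.structureModule X) ≅ CohB1.tensorPow A m :=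
    (tensor_comm _ _).some ≪≫ (tensor_one _).some
  constructor
  · have h1 := hχ N hN'
    rw [euler_tensor k hN' (isCoh_of_isInvertible hAm), ← EulerDeg.euler_congr k e1,
      hχ _ (nt_one k), finrank_h0_congr k e1] at h1
    exact_mod_cast h1.symm
  · obtain ⟨s, hs⟩ := hp m ((le_max_right _ _).trans hm)
    have : Nontrivial Γ(CohB1.tensorMod (Coh.structureModule X) (CohB1.tensorPow A m), (⊤ : X.Opens)) :=
      ⟨s, 0, hs⟩
    have : Nontrivial (Coh.HH X (CohB1.tensorMod (Coh.structureModule X) (CohB1.tensorPow A m)) 0) :=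
      (EulerDeg.h0Equiv k _).toEquiv.nontrivial_congr.2 inferInstance
    have := (finCoh k (RefRank.isCoh_tensorMod hO (isCoh_of_isInvertible hAm))).finite 0
    rw [← finrank_h0_congr k (tensor_one (CohB1.tensorPow A m)).some]
    exact Module.finrank_pos

end Groth.Misc13.NumTriv
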