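import Groth.Agent.Misc13.NumTriv.ProperTau
import Groth.Agent.AlgGrp1.Geom

/-!
# Modules algebraically equivalent to zero form a group
-/

set_option autoImplicit false
set_option linter.style.haveILetI false

universe u

open CategoryTheory Limits AlgebraicGeometry TopologicalSpace

namespace Groth.Misc13.NumTriv

open Groth.Inter Groth.PicAux

variable (k : Type u) [Field k] {X : Scheme.{u}} [X.Over (Spec (CommRingCat.of k))]

/-- Fibres of a tensor product of families. -/
theorem nonempty_fibre_tensor {T : Scheme.{u}} (q : T ⟶ Spec (CommRingCat.of k))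
    (t : Spec (CommRingCat.of k) ⟶ T) (ht : t ≫ q = 𝟙 _) (M N : (Pic13.prodK k X q).Modules)
    {A B : X.Modules} (eA : Pic13.fibreMod k X q t ht M ≅ A) (eB : Pic13.fibreMod k X q t ht N ≅ B) :
    Nonempty (Pic13.fibreMod k X q t ht (CohB1.tensorMod M N) ≅ CohB1.tensorMod A B) :=
  ⟨(PicAux.exists_pullback_tensorMod _ _ _).choose ≪≫ PicGrp.tensorModIso eA eB⟩

/-- Inverses of modules algebraically equivalent to zero. -/
theorem isAlgEquivZero_inverse {L L' : X.Modules} (h : Pic13.IsAlgEquivZero k X L)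
    (hLL' : ClSub.IsInverseOf L L') : Pic13.IsAlgEquivZero k X L' := by
  obtain ⟨T, q, hc, hlft, hqc, M, hM, t, t₀, ht, ht₀, ⟨e⟩, ⟨e₀⟩⟩ := h
  obtain ⟨M', hM', hMM'⟩ := exists_isInverseOf hM
  have key : ∀ (s : Spec (CommRingCat.of k) ⟶ T) (hs : s ≫ q = 𝟙 _) (A : X.Modules),
      (Pic13.fibreMod k X q s hs M ≅ A) → ClSub.IsInverseOf A (Pic13.fibreMod k X q s hs M') :=
    fun s hs A eA => ⟨PicGrp.tensorModIso eA.symm (Iso.refl _) ≪≫
      (PicAux.isInverseOf_pullback (Pic13.sliceAt k X q s hs) hMM').some⟩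
  exact ⟨T, q, hc, hlft, hqc, M', hM', t, t₀, ht, ht₀, isInverseOf_unique (key t ht _ e) hLL',
    isInverseOf_unique (key t₀ ht₀ _ e₀) ⟨SecTwist.unitorR _⟩⟩

/-- Tensor products of modules algebraically equivalent to zero. -/
theorem isAlgEquivZero_tensor {L L' : X.Modules} (h : Pic13.IsAlgEquivZero k X L)
    (h' : Pic13.IsAlgEquivZero k X L') : Pic13.IsAlgEquivZero k X (CohB1.tensorMod L L') := by
  obtain ⟨T, q, hc, hlft, hqc, M, hM, t, t₀, ht, ht₀, ⟨e⟩, ⟨e₀⟩⟩ := h
  obtain ⟨T', q', hc', hlft', hqc', M', hM', t', t₀', ht', ht₀', ⟨e'⟩, ⟨e₀'⟩⟩ := h'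
  have := AlgGrp1.geometricallyConnected_of_point q t ht
  have : Flat q := Misc3Fib.flat_of_field q
  have : IsLocallyNoetherian T := LocallyOfFiniteType.isLocallyNoetherian q
  have : LocallyOfFinitePresentation q := inferInstance
  let W := pullback q q'
  let r : W ⟶ Spec (CommRingCat.of k) := pullback.fst q q' ≫ q
  have hr : pullback.snd q q' ≫ q' = r := pullback.condition.symm
  have : ConnectedSpace W := inferInstance
  have : LocallyOfFiniteType r := inferInstance
  have : QuasiCompact r := inferInstance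
  let P := Pic13.prodK k X r
  let m : P ⟶ Pic13.prodK k X q := prodMap k X (pullback.fst q q') rfl
  let m' : P ⟶ Pic13.prodK k X q' := prodMap k X (pullback.snd q q') hr
  have key : ∀ (s : Spec (CommRingCat.of k) ⟶ T) (hs : s ≫ q = 𝟙 _)
      (s' : Spec (CommRingCat.of k) ⟶ T') (hs' : s' ≫ q' = 𝟙 _) (A B : X.Modules),
      (Pic13.fibreMod k X q s hs M ≅ A) → (Pic13.fibreMod k X q' s' hs' M' ≅ B) →
      ∃ (w : Spec (CommRingCat.of k) ⟶ W) (hw : w ≫ r = 𝟙 _),
        Nonempty (Pic13.fibreMod k X r w hw (CohB1.tensorMod ((Scheme.Modules.pullback m).obj M)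
          ((Scheme.Modules.pullback m').obj M')) ≅ CohB1.tensorMod A B) := by
    intro s hs s' hs' A B eA eB
    refine ⟨pullback.lift s s' (hs.trans hs'.symm), by rw [pullback.lift_fst_assoc, hs],
      nonempty_fibre_tensor k r _ _ _ _ ?_ ?_⟩
    · exact fibreProdMapIso k (pullback.fst q q') rfl hs _ (pullback.lift_fst _ _ _) M ≪≫ eA
    · exact fibreProdMapIso k (pullback.snd q q') hr hs' _ (pullback.lift_snd _ _ _) M' ≪≫ eB
  obtain ⟨w, hw, hwe⟩ := key t ht t' ht' _ _ e e'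
  obtain ⟨w₀, hw₀, ⟨hwe₀⟩⟩ := key t₀ ht₀ t₀' ht₀' _ _ e₀ e₀'
  exact ⟨W, r, inferInstance, inferInstance, inferInstance, _,
    isInvertible_tensorMod (PicAux.isInvertible_pullback _ hM) (PicAux.isInvertible_pullback _ hM'),
    w, w₀, hw, hw₀, hwe, ⟨hwe₀ ≪≫ SecTwist.unitorR _⟩⟩

end Groth.Misc13.NumTriv
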