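import Groth.Agent.Misc13.NumTriv.ProperTau

/-!
# Bounded families modulo numerically trivial modules

A family of invertible modules meeting only finitely many classes modulo numerical triviality is
bounded, and a bounded family of invertible modules lies in finitely many pieces.
-/

set_option autoImplicit false
set_option linter.style.haveILetI false

universe u

open CategoryTheory Limits AlgebraicGeometry TopologicalSpace

namespace Groth.Misc13.NumTriv

open Groth.Inter Groth.PicAux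

variable (k : Type u) [Field k] {X : Scheme.{u}} [X.Over (Spec (CommRingCat.of k))]

variable {k} in
/-- Twist a piece by an invertible module. -/
noncomputable def Piece.twist (P : Piece k X) {N : X.Modules} (hN : PicF.IsInvertible N) : Piece k X where
  W := P.W
  q := P.q
  conn := P.conn
  lft := P.lft
  qc := P.qc
  M := CohB1.tensorMod P.M ((Scheme.Modules.pullback (pullback.fst _ _)).obj N)
  inv := isInvertible_tensorMod P.inv (PicAux.isInvertible_pullback _ hN)

variable {k} in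
theorem Piece.has_twist {P : Piece k X} {L N L' : X.Modules} (h : P.Has L) (hN : PicF.IsInvertible N)
    (e : CohB1.tensorMod L N ≅ L') : (P.twist hN).Has L' := by
  obtain ⟨t, ht, ⟨el⟩⟩ := h
  exact ⟨t, ht, ⟨(PicAux.exists_pullback_tensorMod (Pic13.sliceAt k X P.q t ht) _ _).choose ≪≫
    PicGrp.tensorModIso el ((Scheme.Modules.pullbackComp _ _).app N ≪≫
      (Scheme.Modules.pullbackCongr (show Pic13.sliceAt k X P.q t ht ≫ pullback.fst _ _ = 𝟙 X from
        pullback.lift_fst _ _ _)).app N ≪≫ (Scheme.Modules.pullbackId _).app N) ≪≫ e⟩⟩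

/-- `(L ⊗ N') ⊗ N ≅ L` for mutually inverse `N`, `N'`. -/
theorem tensor_cancel {L N N' : X.Modules} (h : ClSub.IsInverseOf N N') :
    Nonempty (CohB1.tensorMod (CohB1.tensorMod L N') N ≅ L) :=
  ⟨(exists_associator _ _ _).choose ≪≫ PicGrp.tensorModIso (Iso.refl L) (isInverseOf_symm h).some ≪≫
    SecTwist.unitorR L⟩

variable [IsProper (X ↘ Spec (CommRingCat.of k))]

/-- On a proper scheme, the invertible members of a bounded family lie in finitely many pieces. -/
theorem exists_pieces_of_bounded {P : X.Modules → Prop} (hb : Pic13.IsBounded k X P) :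
    ∃ s : Set (Piece k X), s.Finite ∧
      ∀ L, P L → PicF.IsInvertible L → ∃ Q ∈ s, Q.Has L := by
  obtain ⟨T, q, hq, hqc, F, hF, hfam⟩ := hb
  obtain ⟨S, hS, hfl, hcov⟩ := exists_flat_cover k q F hF
  have hp : ∀ c : S, ∃ s : Set (Piece k X), s.Finite ∧
      ∀ (t : Spec (CommRingCat.of k) ⟶ Spec c.1.R) (ht : t ≫ c.1.e ≫ q = 𝟙 _),
        PicF.IsInvertible (Pic13.fibreMod k X (c.1.e ≫ q) t ht
            ((Scheme.Modules.pullback (bcMap k X q c.1.e)).obj F)) →
          ∃ P ∈ s, Piece.Has P (Pic13.fibreMod k X (c.1.e ≫ q) t ht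
            ((Scheme.Modules.pullback (bcMap k X q c.1.e)).obj F)) := fun c => by
    have := c.1.lft
    exact exists_pieces_flat k _ _ (FlatStrata.isCoh_pullback _ hF) (hfl c c.2)
  choose s hs hmem using hp
  have := hS.to_subtype
  refine ⟨⋃ c, s c, Set.finite_iUnion hs, fun L hL hinv => ?_⟩
  obtain ⟨t, ht, ⟨e⟩⟩ := hfam L hL
  obtain ⟨c, hc, t', ht'⟩ := hcov t ht
  have ht'q : t' ≫ c.e ≫ q = 𝟙 _ := by rw [reassoc_of% ht', ht]
  let ei := fibreProdMapIso k c.e rfl ht ht'q ht' F ≪≫ e
  obtain ⟨Q, hQ, t'', ht'', ⟨e''⟩⟩ := hmem ⟨c, hc⟩ t' ht'q (PicAux.isInvertible_of_iso hinv ei.symm)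
  exact ⟨Q, Set.mem_iUnion.2 ⟨_, hQ⟩, t'', ht'', ⟨e'' ≪≫ ei⟩⟩

variable [IsAlgClosed k]

/-- A family meeting finitely many classes modulo numerically trivial modules is bounded. -/
theorem isBounded_of_nt_classes {κ : Type*} [Finite κ] (M₀ : κ → X.Modules)
    (h₀ : ∀ i, PicF.IsInvertible (M₀ i)) (P : X.Modules → Prop)
    (hP : ∀ L, P L → ∃ i M', ClSub.IsInverseOf (M₀ i) M' ∧ NT k (CohB1.tensorMod L M')) :
    Pic13.IsBounded k X P := by
  obtain ⟨s, hs, hmem⟩ := exists_pieces_nt k (X := X)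
  refine isBounded_of_pieces k (⋃ i, (fun Q : Piece k X => Q.twist (h₀ i)) '' s)
    (Set.finite_iUnion fun i => hs.image _) P fun L hL => ?_
  obtain ⟨i, M', hM', hnt⟩ := hP L hL
  obtain ⟨Q, hQ, hQL⟩ := hmem _ hnt
  exact ⟨_, Set.mem_iUnion.2 ⟨i, Q, hQ, rfl⟩, Piece.has_twist hQL (h₀ i) (tensor_cancel hM').some⟩

/-- If modules with algebraically equivalent images differ by numerically trivial ones, the preimage of
a bounded family is bounded. -/
theorem isBounded_preimage {X' : Scheme.{u}} [X'.Over (Spec (CommRingCat.of k))]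
    [IsProper (X' ↘ Spec (CommRingCat.of k))] (Φ : X.Modules → X'.Modules)
    (hΦ : ∀ M, PicF.IsInvertible M → PicF.IsInvertible (Φ M))
    (hdiff : ∀ M N N', PicF.IsInvertible M → PicF.IsInvertible N → ClSub.IsInverseOf N N' →
      ∀ K, ClSub.IsInverseOf (Φ N) K → Pic13.IsAlgEquivZero k X' (CohB1.tensorMod (Φ M) K) →
        NT k (CohB1.tensorMod M N'))
    {P : X'.Modules → Prop} (hb : Pic13.IsBounded k X' P) :
    Pic13.IsBounded k X (fun M => PicF.IsInvertible M ∧ ∃ L, P L ∧ Nonempty (Φ M ≅ L)) := by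
  obtain ⟨s, hs, hmem⟩ := exists_pieces_of_bounded k hb
  let good : Set (Piece k X') := {Q ∈ s | ∃ M, PicF.IsInvertible M ∧ Q.Has (Φ M)}
  have := (hs.subset fun Q (h : Q ∈ good) => h.1).to_subtype
  choose M₀ h₀ hM₀ using fun Q : good => Q.2.2
  refine isBounded_of_nt_classes k M₀ h₀ _ fun M ⟨hM, L, hL, ⟨e⟩⟩ => ?_
  obtain ⟨Q, hQ, t, ht, ⟨eL⟩⟩ := hmem L hL (PicAux.isInvertible_of_iso (hΦ M hM) e)
  have hQM : Q.Has (Φ M) := ⟨t, ht, ⟨eL ≪≫ e.symm⟩⟩
  let i : good := ⟨Q, hQ, M, hM, hQM⟩
  obtain ⟨M', -, hM'⟩ := exists_isInverseOf (h₀ i)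
  obtain ⟨K, hKi, hK⟩ := exists_isInverseOf (hΦ _ (h₀ i))
  exact ⟨i, M', hM', hdiff M _ M' hM (h₀ i) hM' K hK (isAlgEquivZero_of_has k hQM (hM₀ i) hKi hK)⟩

/-- Roots of the members of a bounded family form a bounded family. -/
theorem isBounded_roots {n : ℕ} (hn : 0 < n) {P : X.Modules → Prop} (hb : Pic13.IsBounded k X P) :
    Pic13.IsBounded k X (fun M => PicF.IsInvertible M ∧ ∃ L, P L ∧ Nonempty (CohB1.tensorPow M n ≅ L)) :=
  isBounded_preimage k (fun M => CohB1.tensorPow M n) (fun _ h => PicAux.isInvertible_tensorPow h n)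
    (fun M _ N' hM hN hN' _ hK h => nt_of_tau k
      (isInvertible_tensorMod hM (isInvertible_of_isInverseOf hN hN'))
      ⟨n, hn, isAlgEquivZero_iso k (PicGrp.tensorModIso (Iso.refl _)
        (isInverseOf_unique hK (isInverseOf_tensorPow hN' n)).some ≪≫
          (tensorPow_tensorMod M N' n).some.symm) h⟩) hb

/-- Invertible modules with pullbacks in a bounded family form a bounded family. -/
theorem isBounded_pullback {X' : Scheme.{u}} [X'.Over (Spec (CommRingCat.of k))]
    [IsProper (X' ↘ Spec (CommRingCat.of k))] (f : X' ⟶ X)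
    (hf : f ≫ (X ↘ Spec (CommRingCat.of k)) = X' ↘ Spec (CommRingCat.of k)) [Surjective f]
    {P : X'.Modules → Prop} (hb : Pic13.IsBounded k X' P) :
    Pic13.IsBounded k X
      (fun M => PicF.IsInvertible M ∧ ∃ L, P L ∧ Nonempty ((Scheme.Modules.pullback f).obj M ≅ L)) :=
  isBounded_preimage k (fun M => (Scheme.Modules.pullback f).obj M)
    (fun _ h => PicAux.isInvertible_pullback f h)
    (fun M N N' hM hN hN' K hK h => by
      have hMN := isInvertible_tensorMod hM (isInvertible_of_isInverseOf hN hN')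
      refine nt_of_pullback_surjective k f hf hMN (nt_of_tau k (PicAux.isInvertible_pullback f hMN)
        ⟨1, one_pos, isAlgEquivZero_iso k ?_ h⟩)
      exact PicGrp.tensorModIso (Iso.refl _)
        (isInverseOf_unique hK (PicAux.isInverseOf_pullback f hN')).some ≪≫
        (exists_pullback_tensorMod f M N').choose.symm ≪≫ (tensorPow_one _).some.symm) hb

end Groth.Misc13.NumTriv
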