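import Groth.Agent.Misc13.NumTriv.RootFamily
import Groth.Agent.Misc13.NumTriv.AlgGroup
import Groth.Agent.Misc13.NumTriv.Bounded
import Groth.Agent.Abvar.Dual.PicZero

/-!
# Modules algebraically equivalent to zero are divisible prime to the characteristic
-/

set_option autoImplicit false
set_option linter.style.haveILetI false

universe u

open CategoryTheory Limits AlgebraicGeometry TopologicalSpace

namespace Groth.Misc13.NumTriv

open Groth.Inter Groth.PicAux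
open scoped Groth.Abvar.PicCalc

variable (k : Type u) [Field k] [IsAlgClosed k] {X : Scheme.{u}} [X.Over (Spec (CommRingCat.of k))]
  [IsProper (X ↘ Spec (CommRingCat.of k))]

/-- An `n`-th root algebraically equivalent to zero, `n` invertible in `k`. -/
theorem exists_root_alg {n : ℕ} (hn : (n : k) ≠ 0) {L : X.Modules}
    (h : Pic13.IsAlgEquivZero k X L) :
    ∃ N : X.Modules, PicF.IsInvertible N ∧ Pic13.IsAlgEquivZero k X N ∧
      Nonempty (CohB1.tensorPow N n ≅ L) := by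
  obtain ⟨T, q, hconn, hlft, hqc, M, hM, t₁, t₀, ht₁, ht₀, ⟨e₁⟩, ⟨e₀⟩⟩ := h
  let Pt := {t : Spec (CommRingCat.of k) ⟶ T // t ≫ q = 𝟙 _}
  let Mt : Pt → X.Modules := fun t => Pic13.fibreMod k X q t.1 t.2 M
  let Rel : Pt → Pt → Prop := fun s t => ∃ N : X.Modules, PicF.IsInvertible N ∧
    Pic13.IsAlgEquivZero k X N ∧ Nonempty (Mt s ≅ CohB1.tensorMod (Mt t) (CohB1.tensorPow N n))
  have hrefl : ∀ t, Rel t t := fun t => ⟨Coh.structureModule X, EulerDeg.isInvertible_structureModule X,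
    Abvar.Dual.isAlgEquivZero_structureModule (X ↘ Spec (CommRingCat.of k)),
    ⟨(SecTwist.unitorR _).symm ≪≫ PicGrp.tensorModIso (Iso.refl _) (tensorPow_structure n).some.symm⟩⟩
  have hsymm : ∀ {s t}, Rel s t → Rel t s := fun {s t} ⟨N, hN, ha, ⟨e⟩⟩ => by
    obtain ⟨N', hN', hNN'⟩ := exists_isInverseOf hN
    exact ⟨N', hN', isAlgEquivZero_inverse k ha hNN', ⟨(SecTwist.unitorR _).symm ≪≫
      PicGrp.tensorModIso (Iso.refl _) (isInverseOf_tensorPow hNN' n).some.symm ≪≫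
      (exists_associator _ _ _).choose.symm ≪≫ PicGrp.tensorModIso e.symm (Iso.refl _)⟩⟩
  have htrans : ∀ {r s t}, Rel r s → Rel s t → Rel r t :=
    fun {r s t} ⟨N, hN, ha, ⟨e⟩⟩ ⟨N', hN', ha', ⟨e'⟩⟩ =>
      ⟨CohB1.tensorMod N' N, isInvertible_tensorMod hN' hN, isAlgEquivZero_tensor k ha' ha,
        ⟨e ≪≫ PicGrp.tensorModIso e' (Iso.refl _) ≪≫ (exists_associator _ _ _).choose ≪≫
          PicGrp.tensorModIso (Iso.refl _) (tensorPow_tensorMod N' N n).some.symm⟩⟩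
  have key : ∀ t : Pt, ∃ U : T.Opens, t.1 (IsLocalRing.closedPoint k) ∈ U ∧
      ∀ s : Pt, s.1 (IsLocalRing.closedPoint k) ∈ U → Rel s t := by
    intro t
    obtain ⟨_, ⟨V, hV, rfl⟩, htV, -⟩ := T.isBasis_affineOpens.exists_subset_of_mem_open
      (Set.mem_univ (t.1 (IsLocalRing.closedPoint k))) isOpen_univ
    let V' : T.affineOpens := ⟨V, hV⟩
    let j := V'.2.fromSpec
    have : IsOpenImmersion j := V'.2.isOpenImmersion_fromSpec
    have hlift : ∀ s : Pt, s.1 (IsLocalRing.closedPoint k) ∈ (V : Set T) →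
        ∃ s' : Spec (CommRingCat.of k) ⟶ Spec Γ(T, V), s' ≫ j = s.1 := fun s hsV =>
      ⟨IsOpenImmersion.lift j s.1 (by
        rintro _ ⟨z, rfl⟩
        have : Subsingleton ↥(Spec (CommRingCat.of k)) := inferInstanceAs (Subsingleton (PrimeSpectrum k))
        rw [V'.2.range_fromSpec, Subsingleton.elim z (IsLocalRing.closedPoint k)]
        exact hsV), IsOpenImmersion.lift_fac _ _ _⟩
    obtain ⟨t', ht'⟩ := hlift t htV
    have ht'q : t' ≫ j ≫ q = 𝟙 _ := by rw [reassoc_of% ht', t.2]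
    obtain ⟨K, hK, hKt⟩ := exists_isInverseOf (PicAux.isInvertible_pullback (Pic13.sliceAt k X q t.1 t.2) hM)
    let E := CohB1.tensorMod ((Scheme.Modules.pullback (bcMap k X q j)).obj M)
      ((Scheme.Modules.pullback (pullback.fst _ _)).obj K)
    have hE : PicF.IsInvertible E :=
      isInvertible_tensorMod (PicAux.isInvertible_pullback _ hM) (PicAux.isInvertible_pullback _ hK)
    have hfib : ∀ (s : Pt) (s' : Spec (CommRingCat.of k) ⟶ Spec Γ(T, V)) (hs' : s' ≫ j ≫ q = 𝟙 _),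
        s' ≫ j = s.1 → Nonempty (Pic13.fibreMod k X (j ≫ q) s' hs' E ≅ CohB1.tensorMod (Mt s) K) :=
      fun s s' hs' hjs => nonempty_fibre_tensor k _ _ _ _ _ (fibreProdMapIso k j rfl s.2 hs' hjs M)
        ((Scheme.Modules.pullbackComp _ _).app K ≪≫
          (Scheme.Modules.pullbackCongr (show Pic13.sliceAt k X (j ≫ q) s' hs' ≫ pullback.fst _ _ = 𝟙 X from
            pullback.lift_fst _ _ _)).app K ≪≫ (Scheme.Modules.pullbackId _).app K)
    have htriv : Abvar.PicCalc.pull (Pic13.sliceAt k X (j ≫ q) t' ht'q) (Abvar.PicCalc.cls hE) = 1 := by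
      rw [Abvar.PicCalc.pull_cls]
      exact (Abvar.PicCalc.nonempty_iso_structure_iff _).1 ⟨(hfib t t' ht'q ht').some ≪≫ hKt.some⟩
    obtain ⟨U, hU, hUs⟩ := exists_nhd_root k (j ≫ q) E hE t' ht'q htriv hn
    refine ⟨j ''ᵁ U, ⟨_, hU, ?_⟩, fun s hs => ?_⟩
    · exact congr($(ht') (IsLocalRing.closedPoint k))
    · obtain ⟨z, hz, hzs⟩ := hs
      obtain ⟨s', hs'⟩ := hlift s (by
        have hz' : j z ∈ Set.range j := ⟨z, rfl⟩
        rw [V'.2.range_fromSpec] at hz'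
        exact hzs ▸ hz')
      have hs'q : s' ≫ j ≫ q = 𝟙 _ := by rw [reassoc_of% hs', s.2]
      have hsU : s' (IsLocalRing.closedPoint k) ∈ U := by
        have h : j (s' (IsLocalRing.closedPoint k)) = j z :=
          (congr($(hs') (IsLocalRing.closedPoint k))).trans hzs.symm
        exact (j.isOpenEmbedding.injective h) ▸ hz
      obtain ⟨N, hN, ha, ⟨e⟩⟩ := hUs s' hs'q hsU
      refine ⟨N, hN, ha, ⟨(tensor_cancel hKt).some.symm ≪≫ ?_⟩⟩
      refine (tensor_comm _ _).some ≪≫ PicGrp.tensorModIso (Iso.refl (Mt t)) ?_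
      exact (e ≪≫ (hfib s s' hs'q hs').some).symm
  choose U hU hUrel using key
  have hjac : JacobsonSpace T := LocallyOfFiniteType.jacobsonSpace q
  have hpt : ∀ z : T, IsClosed ({z} : Set T) → ∃ t : Pt, t.1 (IsLocalRing.closedPoint k) = z :=
    fun z hz => ⟨⟨pointOfClosedPoint q z hz, pointOfClosedPoint_comp q z hz⟩, by simp⟩
  let t₀' : Pt := ⟨t₀, ht₀⟩
  let A : Set T := ⋃ (t : Pt) (_ : Rel t t₀'), (U t : Set T)
  let B : Set T := ⋃ (t : Pt) (_ : ¬ Rel t t₀'), (U t : Set T)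
  have hA : IsOpen A := isOpen_biUnion fun t _ => (U t).2
  have hB : IsOpen B := isOpen_biUnion fun t _ => (U t).2
  have hAB : ∀ z, z ∈ A → z ∈ B → False := fun z hzA hzB => by
    obtain ⟨t, ht, hzt⟩ := Set.mem_iUnion₂.1 hzA
    obtain ⟨s, hs, hzs⟩ := Set.mem_iUnion₂.1 hzB
    obtain ⟨w, hw, hwc⟩ := nonempty_inter_closedPoints (Z := (U t : Set T) ∩ (U s : Set T))
      ⟨z, hzt, hzs⟩ ((U t).2.inter (U s).2).isLocallyClosed
    obtain ⟨r, hr⟩ := hpt w hwc
    exact hs (htrans (htrans (hsymm (hUrel s r (hr ▸ hw.2))) (hUrel t r (hr ▸ hw.1))) ht)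
  have hcov : A ∪ B = Set.univ := by
    by_contra hne
    obtain ⟨z, hz, hzc⟩ := nonempty_inter_closedPoints (Set.nonempty_compl.2 hne)
      (hA.union hB).isClosed_compl.isLocallyClosed
    obtain ⟨r, hr⟩ := hpt z hzc
    refine hz ?_
    by_cases h : Rel r t₀'
    · exact Or.inl (Set.mem_iUnion₂.2 ⟨r, h, hr ▸ hU r⟩)
    · exact Or.inr (Set.mem_iUnion₂.2 ⟨r, h, hr ▸ hU r⟩)
  have h1 : Rel ⟨t₁, ht₁⟩ t₀' := by
    by_contra hL
    obtain ⟨z, -, hz⟩ := isPreconnected_univ A B hA hB hcov.ge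
      ⟨_, trivial, Set.mem_iUnion₂.2 ⟨t₀', hrefl _, hU t₀'⟩⟩
      ⟨_, trivial, Set.mem_iUnion₂.2 ⟨⟨t₁, ht₁⟩, hL, hU _⟩⟩
    exact hAB z hz.1 hz.2
  obtain ⟨N, hN, ha, ⟨e⟩⟩ := h1
  exact ⟨N, hN, ha, ⟨(tensor_one _).some.symm ≪≫ PicGrp.tensorModIso e₀.symm (Iso.refl _) ≪≫ e.symm ≪≫ e₁⟩⟩

end Groth.Misc13.NumTriv
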