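import Groth.Agent.Inter.Growth2
import Groth.Agent.Misc13.NumPairing

/-!
# Numerically trivial modules and their sections

`NT k L`: `L` is invertible and has degree zero in dimension one. Twists of a coherent module on a
projective scheme by such modules have boundedly many sections.
-/

set_option autoImplicit false
set_option linter.unusedSectionVars false

universe u

open CategoryTheory CategoryTheory.Limits AlgebraicGeometry TopologicalSpace Opposite

namespace Groth.Misc13.NumTriv

open Groth.Inter Groth.PicAux Groth.HilbStab Groth.PropsBasic.Ample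

variable (k : Type u) [Field k] {X : Scheme.{u}} [X.Over (Spec (CommRingCat.of k))]
  [IsProper (X ↘ Spec (CommRingCat.of k))]

/-- Invertible of degree zero in dimension one. -/
def NT (L : X.Modules) : Prop :=
  PicF.IsInvertible L ∧ Vanishes k [L]

theorem nt_iff {L : X.Modules} (hL : PicF.IsInvertible L) :
    NT k L ↔ Pic13.IsNumEquivZero k X L :=
  ⟨fun h => NumPairing.isNumEquivZero_of_delta k hL fun F hF hd => h.2 F hF (by simpa using hd),
    fun h => ⟨hL, fun F hF hd =>
      NumPairing.delta_cons_of_numEquivZero k hL h (l := []) (by simp) hF (by simpa using hd)⟩⟩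

theorem nt_of_numEquivZero {L : X.Modules} (hL : PicF.IsInvertible L)
    (h : Pic13.IsNumEquivZero k X L) : NT k L := (nt_iff k hL).2 h

theorem nt_inverse {L M : X.Modules} (h : NT k L) (hLM : ClSub.IsInverseOf L M) : NT k M :=
  ⟨PicAux.isInvertible_of_isInverseOf h.1 hLM, fun F hF hd => by
    rw [delta_inverse_one k h.1 hLM hF (by simpa using hd), h.2 F hF hd, neg_zero]⟩

theorem nt_tensor {L M : X.Modules} (hL : NT k L) (hM : NT k M) : NT k (CohB1.tensorMod L M) :=
  ⟨isInvertible_tensorMod hL.1 hM.1, fun F hF hd => by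
    rw [delta_tensor k hL.1 hM.1 (l := []) (by simp) hF (by simpa using hd), hL.2 F hF hd, hM.2 F hF hd,
      add_zero]⟩

theorem nt_one : NT k (Coh.structureModule X) :=
  ⟨EulerDeg.isInvertible_structureModule X, fun F _ _ => by
    rw [delta_cons, delta_congr k [] (tensor_one F), sub_self]⟩

theorem nt_pow {L : X.Modules} (hL : NT k L) : ∀ n : ℕ, NT k (CohB1.tensorPow L n)
  | 0 => nt_one k
  | n + 1 => nt_tensor k (nt_pow hL n) hL

theorem nt_pullback {Z : Scheme.{u}} [Z.Over (Spec (CommRingCat.of k))]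
    [IsProper (Z ↘ Spec (CommRingCat.of k))] (i : Z ⟶ X) [IsClosedImmersion i]
    (hi : i ≫ (X ↘ Spec (CommRingCat.of k)) = Z ↘ Spec (CommRingCat.of k)) {L : X.Modules}
    (hL : NT k L) : NT k ((Scheme.Modules.pullback i).obj L) :=
  ⟨PicAux.isInvertible_pullback i hL.1, fun G hG hd => by
    simpa using delta_push_cond k i hi (l := [L]) (by simpa using hL.1) (fun a => a = 0) hL.2 G hG
      (by simpa using hd)⟩

omit [IsProper (X ↘ Spec (CommRingCat.of k))] in
theorem h0_push {Z : Scheme.{u}} [Z.Over (Spec (CommRingCat.of k))] (i : Z ⟶ X) [IsClosedImmersion i]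
    (hi : i ≫ (X ↘ Spec (CommRingCat.of k)) = Z ↘ Spec (CommRingCat.of k)) {L : X.Modules}
    (hL : PicF.IsInvertible L) (G : Z.Modules) :
    Module.finrank k (Coh.HH X (CohB1.tensorMod ((Coh.push i).obj G) L) 0) =
      Module.finrank k (Coh.HH Z (CohB1.tensorMod G ((Scheme.Modules.pullback i).obj L)) 0) :=
  (finrank_h0_congr k (tensor_congr ⟨Iso.refl _⟩ (tensor_one L)).some).symm.trans
    ((finrank_h0_push k i hi hL G 1).trans (finrank_h0_congr k (tensor_congr ⟨Iso.refl _⟩ (tensor_one _)).some))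

/-- On an integral scheme of dimension zero numerically trivial modules have the sections of `O`. -/
theorem h0_eq_of_dim_zero (hd : topologicalKrullDim X ≤ ((0 : ℕ) : WithBot ℕ∞)) {F L : X.Modules}
    (hF : Coh.IsCoh F) (hL : PicF.IsInvertible L) :
    Module.finrank k (Coh.HH X (CohB1.tensorMod F L) 0) = Module.finrank k (Coh.HH X F 0) := by
  have hN : IsNoetherian X := isNoetherian k
  have t : TopologicalSpace.NoetherianSpace X := inferInstance
  have he : ∀ G : X.Modules, Curv2.euler k X G = (Module.finrank k (Coh.HH X G 0) : ℤ) := fun G => by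
    rw [EulerDeg.euler_eq_sum (k := k) (N := 1) fun n hn =>
      @Vanishing.subsingleton_H_of_dim_le X.toTopCat t 0 hd (Coh.toAb G) n (by omega)]
    simp
  have h0 := delta_eq_zero k [L] (by simpa using hL) F hF
    (lt_of_le_of_lt ((topologicalKrullDim_subspace_le X _).trans hd)
      (WithBot.coe_lt_coe.2 (by simp)))
  simp only [delta_cons, delta_nil] at h0
  rw [EulerDeg.euler_congr k (tensor_comm L F).some, he, he] at h0
  omega

/-- On an integral scheme of positive dimension negative twists of numerically trivial modules have no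
sections. -/
theorem no_section [IsIntegral X] {n : ℕ} (hn : topologicalKrullDim X = ((n + 1 : ℕ) : WithBot ℕ∞))
    {A B : X.Modules} (hA : CohB1.IsAmple A) (hAB : ClSub.IsInverseOf A B) {L : X.Modules} (hL : NT k L)
    (p : ℕ) : Module.finrank k (Coh.HH X (CohB1.tensorMod L (CohB1.tensorPow B (p + 1))) 0) = 0 := by
  obtain ⟨M, -, hLM⟩ := exists_isInverseOf hL.1
  have hM := (nt_inverse k hL hLM).2
  rw [← finrank_h0_congr k ((tensor_congr ⟨Iso.refl _⟩ (tensor_one L)).some ≪≫ (tensor_comm _ L).some)]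
  exact no_section_of_vanishes k hA hAB hL.1 hLM (fun F hF hd => (hM F hF hd).ge) (m := 0)
    (Nat.le_add_left 1 n) hn (by simpa using hM) p 1

/-- Boundedly many sections after any numerically trivial twist. -/
def BndNT (F : X.Modules) : Prop :=
  ∃ C : ℕ, ∀ L : X.Modules, NT k L → Module.finrank k (Coh.HH X (CohB1.tensorMod F L) 0) ≤ C

theorem bndNT_iso {F G : X.Modules} (e : F ≅ G) (h : BndNT k F) : BndNT k G := by
  obtain ⟨C, hC⟩ := h
  exact ⟨C, fun L hL => (finrank_h0_congr k (tensor_congr ⟨e⟩ ⟨Iso.refl _⟩).some).symm.trans_le (hC L hL)⟩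

theorem bndNT_isZero {F : X.Modules} (h : IsZero F) : BndNT k F := by
  refine ⟨0, fun L _ => ?_⟩
  have : Subsingleton (Coh.HH X (CohB1.tensorMod F L) 0) :=
    Sheaf.subsingleton_H_of_isZero
      ((SheafOfModules.toSheaf X.ringCatSheaf).map_isZero ((DCoh.tensorRightMod L).map_isZero h)) 0
  rw [Module.finrank_zero_of_subsingleton]

theorem bndNT_ext {S : ShortComplex X.Modules} (hS : S.ShortExact) (h₁ : Coh.IsCoh S.X₁)
    (h₂ : Coh.IsCoh S.X₂) (h₃ : Coh.IsCoh S.X₃) (b₁ : BndNT k S.X₁) (b₃ : BndNT k S.X₃) :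
    BndNT k S.X₂ := by
  obtain ⟨C₁, hC₁⟩ := b₁
  obtain ⟨C₃, hC₃⟩ := b₃
  refine ⟨C₁ + C₃, fun L hL => ?_⟩
  have hc : ∀ {F : X.Modules}, Coh.IsCoh F → Coh.IsCoh (CohB1.tensorMod F L) :=
    fun hF => RefRank.isCoh_tensorMod hF (isCoh_of_isInvertible hL.1)
  exact (finrank_h0_le_add k (shortExact_tensorRightMod hL.1 hS) (hc h₁) (hc h₂) (hc h₃)).trans
    (Nat.add_le_add (hC₁ L hL) (hC₃ L hL))

theorem bndNT_sub {A B : X.Modules} (f : A ⟶ B) [Mono f] (hB : Coh.IsCoh B) (b : BndNT k B) :
    BndNT k A := by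
  obtain ⟨C, hC⟩ := b
  refine ⟨C, fun L hL => le_trans ?_ (hC L hL)⟩
  have : Mono ((DCoh.tensorRightMod L).map f) :=
    (shortExact_tensorRightMod hL.1 (CohTwo.cokerSeq_shortExact f)).mono_f
  exact @finrank_h0_le_of_mono k _ X _ _ _ _ ((DCoh.tensorRightMod L).map f) this
    (RefRank.isCoh_tensorMod hB (isCoh_of_isInvertible hL.1))

/-- Numerically trivial twists of a coherent module have boundedly many sections. -/
theorem bndNT {A : X.Modules} (hA : CohB1.IsAmple A) {F : X.Modules} (hF : Coh.IsCoh F) : BndNT k F := by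
  have hN : IsNoetherian X := isNoetherian k
  refine CohTwo.coh_induction (BndNT k) (fun _ _ e h => bndNT_iso k e.some h) (fun _ h => bndNT_isZero k h)
    (fun S hS a b c p q => bndNT_ext k hS a b c p q) (CohB1.support F) ?_
    (CohTwo.isClosed_support F hF) F hF subset_rfl
  intro Y ξ hY _ G hG hkill hsmall
  obtain rfl : Y = ⟨closure {ξ}, isClosed_closure⟩ := Closeds.ext hY
  have hne : Nontrivial ↑((Cyc.closureStructureSheaf ξ).presheaf.stalk ξ) :=
    not_subsingleton_iff_nontrivial.1 (show ξ ∈ CohB1.support (Cyc.closureStructureSheaf ξ) from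
      (support_closureStructureSheaf_eq k ξ) ▸ subset_closure rfl)
  have := hG.1
  have := (isCoh_of_isInvertible (EulerDeg.isInvertible_structureModule (IntMult.ptIdeal ξ).subscheme)).1
  refine CohTwo.step_two (BndNT k) (fun _ h => bndNT_isZero k h)
    (fun S hS a b c => ⟨fun p _ => ?_, fun p q => bndNT_ext k hS a b c p q⟩) (fun F' d hd hF' hP => ?_)
    (Y := closure ({ξ} : Set X)) hsmall (KTheory.Devissage.isCoh_closureStructureSheaf ξ) ?_
    (KTheory.Devissage.support_closureStructureSheaf_subset ξ) ?_ hG ?_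
    (fun a ha m => hkill.stalk_maximalIdeal (Y := ⟨closure {ξ}, isClosed_closure⟩) rfl a ha m)
  · have := hS.mono_f
    exact bndNT_sub k S.f b p
  · have : Mono (Sigma.ι (fun _ : Fin d => F') ⟨0, hd⟩) := inferInstance
    exact bndNT_sub k (Sigma.ι (fun _ : Fin d => F') ⟨0, hd⟩) (CohTwo.isCoh_powMod hF' d) hP
  rotate_left
  · exact fun a ha m => (CohTwo.killed_push_subschemeι (IntMult.ptIdeal ξ)
      (Coh.structureModule (IntMult.ptIdeal ξ).subscheme)).stalk_maximalIdeal
        (Y := ⟨closure {ξ}, isClosed_closure⟩) rfl a ha m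
  · exact hkill.support_subset.trans (by
      rw [Scheme.IdealSheafData.coe_support_vanishingIdeal]; rfl)
  let Z := (IntMult.ptIdeal ξ).subscheme
  let i := (IntMult.ptIdeal ξ).subschemeι
  letI : Z.Over (Spec (CommRingCat.of k)) := ⟨i ≫ (X ↘ Spec (CommRingCat.of k))⟩
  have : IsProper (Z ↘ Spec (CommRingCat.of k)) :=
    inferInstanceAs (IsProper (i ≫ (X ↘ Spec (CommRingCat.of k))))
  have : IsIntegral Z := CohTwo.isIntegral_closure_subscheme rfl
  have hZN : IsNoetherian Z := isNoetherian k
  let O := Coh.structureModule Z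
  have hOi : PicF.IsInvertible O := EulerDeg.isInvertible_structureModule Z
  have hOc : Coh.IsCoh O := isCoh_of_isInvertible hOi
  obtain ⟨n, hn⟩ := Variety2.Dim.exists_height_eq (X ↘ Spec (CommRingCat.of k)) ξ
  have hdimZ : topologicalKrullDim Z = (n : WithBot ℕ∞) :=
    (dim_ptIdeal_subscheme ξ).trans (by rw [Variety2.Dim.dim_closure_singleton, hn]; rfl)
  change BndNT k ((Coh.push i).obj O)
  cases n with
  | zero =>
    refine ⟨Module.finrank k (Coh.HH Z O 0), fun L hL => ?_⟩
    rw [h0_push k i rfl hL.1 O, h0_eq_of_dim_zero k hdimZ.le hOc (PicAux.isInvertible_pullback i hL.1)]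
  | succ n =>
  have hAZ : CohB1.IsAmple ((Scheme.Modules.pullback i).obj A) :=
    Ega2Proj.isAmple_pullback i i.isClosedEmbedding.isInducing hA
  obtain ⟨BZ, hBZ, hAB⟩ := exists_isInverseOf hAZ.1
  obtain ⟨p, t, hgt, -, -⟩ := exists_affine_gloc_finite hAZ {genericPoint Z} (Set.finite_singleton _) ⊤
    (fun _ _ => trivial)
  let AZ := (Scheme.Modules.pullback i).obj A
  let P := CohB1.tensorPow AZ (p + 1)
  let P' := CohB1.tensorPow BZ (p + 1)
  have hP : PicF.IsInvertible P := isInvertible_tensorPow hAZ.1 _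
  have hP' : PicF.IsInvertible P' := isInvertible_tensorPow hBZ _
  let f := mulSec t O
  have ht : t ≠ 0 := by
    intro h
    have hb := mulSec_stalk_bijective t O (hgt rfl)
    have hz : mulSec t O = 0 := by
      ext V a
      change (mulSec t O).app V a = 0
      rw [mulSec_app, h, res_zero]
      exact tmulSec_zero_right a
    rw [hz, Functor.map_zero] at hb
    have : Nontrivial (O.presheaf.stalk (genericPoint Z)) :=
      (RefRank.oneEquiv (genericPoint Z)).toEquiv.nontrivial_congr.1 inferInstance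
    obtain ⟨a, ha⟩ := exists_ne (0 : O.presheaf.stalk (genericPoint Z))
    exact ha (hb.1 rfl)
  have : Mono f := mono_mulSec_of_ne_zero hP ht hOi
  have hOP : Coh.IsCoh (CohB1.tensorMod O P) := RefRank.isCoh_tensorMod hOc (isCoh_of_isInvertible hP)
  have := hOc.1
  have := hOP.1
  let Q := CohB1.tensorMod (cokernel f) P'
  have hQ : Coh.IsCoh Q :=
    RefRank.isCoh_tensorMod (QCohMod.isCoh_cokernel f hOP) (isCoh_of_isInvertible hP')
  have hQs : genericPoint Z ∉ CohB1.support Q := fun h =>
    support_cokernel_mulSec_subset t O (HilbStab.support_tensorMod_subset hP' _ h) (hgt rfl)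
  have hr : Set.range i = closure ({ξ} : Set X) :=
    Groth.PropsBasic2.range_vanishingIdeal_subschemeι ⟨closure {ξ}, isClosed_closure⟩
  obtain ⟨C, hC⟩ := hsmall _ (CohTwo.isCoh_push i hQ) ((CohTwo.support_push_subset i Q).trans hr.le)
    (fun h => hQs (fun hs => by
      have h' : i (genericPoint Z) ∈ CohB1.support ((Scheme.Modules.pushforward i).obj Q) := by
        rw [CohTwo.apply_genericPoint_eq i hr]; exact h
      exact h'  (@Equiv.subsingleton _ _ (Equiv.ofBijective _
        (CohTwo.bijective_pushStalk i Q (genericPoint Z))) hs)))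
  refine ⟨C, fun L hL => ?_⟩
  have hLZ := nt_pullback k i rfl hL
  have hC' := hC L hL
  rw [show (Scheme.Modules.pushforward i).obj Q = (Coh.push i).obj Q from rfl, h0_push k i rfl hL.1 Q] at hC'
  rw [h0_push k i rfl hL.1 O]
  let LZ := (Scheme.Modules.pullback i).obj L
  let T := CohB1.tensorMod P' LZ
  have hT : PicF.IsInvertible T := isInvertible_tensorMod hP' hLZ.1
  have hle := finrank_h0_le_add k (shortExact_tensorRightMod hT (CohTwo.cokerSeq_shortExact f))
    (RefRank.isCoh_tensorMod hOc (isCoh_of_isInvertible hT))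
    (RefRank.isCoh_tensorMod hOP (isCoh_of_isInvertible hT))
    (RefRank.isCoh_tensorMod (QCohMod.isCoh_cokernel f hOP) (isCoh_of_isInvertible hT))
  change Module.finrank k (Coh.HH Z (CohB1.tensorMod (CohB1.tensorMod O P) T) 0) ≤
    Module.finrank k (Coh.HH Z (CohB1.tensorMod O T) 0) +
      Module.finrank k (Coh.HH Z (CohB1.tensorMod (cokernel f) T) 0) at hle
  rw [finrank_h0_congr k ((tensor_assoc O P T).some ≪≫ (tensor_congr ⟨Iso.refl O⟩
      ⟨(tensor_assoc P P' _).some.symm ≪≫
        (tensor_congr (PicAux.isInverseOf_tensorPow hAB (p + 1)) ⟨Iso.refl _⟩).some ≪≫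
        (tensor_one _).some⟩).some),
    finrank_h0_congr k ((tensor_one T).some ≪≫ (tensor_comm P' LZ).some),
    no_section k hdimZ hAZ hAB hLZ p, zero_add,
    ← finrank_h0_congr k (tensor_assoc (cokernel f) P' LZ).some] at hle
  exact hle.trans hC'

end Groth.Misc13.NumTriv
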