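import Groth.Agent.Calg1.Completion
import Mathlib.RingTheory.AdicCompletion.LocalRing
import Mathlib.RingTheory.Flat.FaithfullyFlat.Algebra
import Mathlib.RingTheory.AdicCompletion.AsTensorProduct
import Mathlib.FieldTheory.IsAlgClosed.Basic

/-!
# The completion of a Noetherian algebra at a rational point
-/

set_option autoImplicit false
set_option linter.style.haveILetI false

universe u

open IsLocalRing

namespace Groth.Misc13.NumTriv

/-- The completed local ring of a Noetherian ring at a rational point. -/
theorem exists_complete_nbhd {k : Type u} [Field k] [IsAlgClosed k] {R : Type u} [CommRing R]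
    [IsNoetherianRing R] (j : k →+* R) (φ : R →+* k) (hφ : φ.comp j = RingHom.id k)
    {n : ℕ} (hn : (n : k) ≠ 0) :
    ∃ (A : Type u) (_ : CommRing A) (_ : IsLocalRing A) (_ : IsNoetherianRing A)
      (_ : IsAdicComplete (maximalIdeal A) A) (_ : IsAlgClosed (ResidueField A))
      (ι : R →+* A) (ψ : A →+* k),
      ψ.comp ι = φ ∧ RingHom.ker ψ = maximalIdeal A ∧ IsUnit (n : A) ∧
      ∀ p : PrimeSpectrum R, p.asIdeal ≤ RingHom.ker φ → p ∈ Set.range (PrimeSpectrum.comap ι) := by
  have hsurj : Function.Surjective φ := fun x => ⟨j x, RingHom.congr_fun hφ x⟩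
  have : (RingHom.ker φ).IsMaximal := RingHom.ker_isMaximal_of_surjective φ hsurj
  let m := RingHom.ker φ
  let Rm := Localization.AtPrime m
  have : IsNoetherianRing Rm := IsLocalization.isNoetherianRing m.primeCompl Rm inferInstance
  let A := AdicCompletion (maximalIdeal Rm) Rm
  have : IsNoetherianRing A :=
    Calg1.isNoetherianRing_adicCompletion _ (IsNoetherian.noetherian (maximalIdeal Rm))
  let ι : R →+* A := (algebraMap Rm A).comp (algebraMap R Rm)
  let c : k →+* ResidueField A := (residue A).comp (ι.comp j)
  have key : ∀ r : R, residue A (ι r) = c (φ r) := fun r => by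
    rw [← sub_eq_zero, show c (φ r) = residue A (ι (j (φ r))) from rfl, ← map_sub, residue_eq_zero_iff,
      ← map_sub ι, AdicCompletion.maximalIdeal_eq_map]
    refine Ideal.mem_map_of_mem _ ?_
    rw [IsLocalization.AtPrime.to_map_mem_maximal_iff Rm m, RingHom.mem_ker, map_sub,
      show φ (j (φ r)) = φ r from RingHom.congr_fun hφ (φ r), sub_self]
  have hc : Function.Surjective c := fun z => by
    obtain ⟨w, rfl⟩ := (AdicCompletion.residueField_map_bijective_of_fg
      (maximalIdeal Rm).fg_of_isNoetherianRing).2 z
    obtain ⟨u, rfl⟩ := residue_surjective w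
    rw [ResidueField.map_residue]
    obtain ⟨⟨a, s⟩, hu⟩ := IsLocalization.surj m.primeCompl u
    refine ⟨φ a / φ s, ?_⟩
    have hs : φ (s : R) ≠ 0 := s.2
    have h := congrArg (fun v => residue A (algebraMap Rm A v)) hu
    simp only [map_mul] at h
    change residue A (algebraMap Rm A u) * residue A (ι s) = residue A (ι a) at h
    rw [key, key] at h
    rw [map_div₀, ← h, mul_div_assoc, div_self ((map_ne_zero c).2 hs), mul_one]
  let e : k ≃+* ResidueField A := RingEquiv.ofBijective c ⟨c.injective, hc⟩
  let ψ : A →+* k := (e.symm : ResidueField A →+* k).comp (residue A)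
  have : Module.FaithfullyFlat Rm A := Module.FaithfullyFlat.of_flat_of_isLocalHom
  refine ⟨A, inferInstance, inferInstance, inferInstance, inferInstance, IsAlgClosed.of_ringEquiv k _ e,
    ι, ψ, ?_, ?_, ?_, ?_⟩
  · ext r
    change e.symm (residue A (ι r)) = φ r
    rw [key]
    exact e.symm_apply_apply _
  · ext x
    rw [RingHom.mem_ker, ← residue_eq_zero_iff]
    exact map_eq_zero_iff (e.symm : ResidueField A ≃+* k) e.symm.injective
  · rw [← IsLocalRing.notMem_maximalIdeal, ← residue_eq_zero_iff]
    rw [map_natCast, ← map_natCast c n, map_eq_zero_iff c c.injective]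
    exact hn
  · intro p hp
    have hdisj : Disjoint (m.primeCompl : Set R) p.asIdeal :=
      Set.disjoint_left.2 fun x hx hxp => hx (hp hxp)
    obtain ⟨P, hP⟩ := PrimeSpectrum.comap_surjective_of_faithfullyFlat (A := Rm) (B := A)
      ⟨p.asIdeal.map (algebraMap R Rm), IsLocalization.isPrime_of_isPrime_disjoint m.primeCompl Rm _ p.2 hdisj⟩
    refine ⟨P, PrimeSpectrum.ext ?_⟩
    change Ideal.comap ((algebraMap Rm A).comp (algebraMap R Rm)) P.asIdeal = p.asIdeal
    rw [← Ideal.comap_comap, show Ideal.comap (algebraMap Rm A) P.asIdeal =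
      p.asIdeal.map (algebraMap R Rm) from congrArg PrimeSpectrum.asIdeal hP]
    exact IsLocalization.comap_map_of_isPrime_disjoint m.primeCompl Rm p.2 hdisj

end Groth.Misc13.NumTriv
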