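import Groth.Agent.ModelsGraphs.PicKernel

/-!
# Roots of classes trivial on the closed fibre

Over a complete Noetherian local ring with algebraically closed residue field, a class on a proper
scheme which is trivial on the closed fibre has a `q`-th root trivial on the closed fibre, `q`
invertible in the ring; no bound on the dimension.
-/

set_option autoImplicit false
set_option backward.isDefEq.respectTransparency.types false
set_option linter.style.haveILetI false

universe u

open CategoryTheory Limits AlgebraicGeometry Opposite TopologicalSpace IsLocalRing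

noncomputable section

namespace Groth.Misc13.NumTriv

open Groth.Abvar.PicCalc Groth.ModelsGraphs Groth.ModelsGraphs.InvAlg

/-- A class extends over a square zero thickening if an invertible power of it does. -/
theorem exists_lift_of_pow {Y Z : Scheme.{u}} (t : Y ⟶ Z) [IsClosedImmersion t]
    (hI : t.ker * t.ker = ⊥) {q : ℕ} (hq : IsUnit (q : Γ(Z, ⊤))) (x : PicLoc.PicSet Y)
    (b : PicLoc.PicSet Z) (hb : pull t b = x ^ q) : ∃ d, pull t d = x := by
  obtain ⟨e, he⟩ := PicKernel.exists_pull_bijective t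
  obtain ⟨x', rfl⟩ := (PicKernel.pull_iso_bijective e).2 x
  have hdec : ∀ d, pull t d = pull e.hom (pull t.ker.subschemeι d) := fun d =>
    (congrArg (fun s => pull s d) he.symm).trans (pull_comp _ _ d)
  rw [hdec, ← map_pow] at hb
  replace hb := (PicKernel.pull_iso_bijective e).1 hb
  obtain ⟨ε, δ₀, α, δ₁, -, -, -, -, -, h⟩ :=
    Groth.PicAux.PicExpSeq.exists_sequence (pullMulCl t.ker.subschemeι) hI
  have h0 : δ₁ x' ^ q = 1 := by
    rw [← map_pow, ← MonoidHom.mem_ker, h]
    exact ⟨b, hb⟩
  have h1 : δ₁ x' = 1 := by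
    refine Multiplicative.toAdd.injective ((PicStep.nsmul_bijective (ClSub.idealMod t.ker) 2 q hq).1 ?_)
    change q • Multiplicative.toAdd (δ₁ x') = q • Multiplicative.toAdd 1
    rw [← toAdd_pow, h0, toAdd_one, smul_zero]
  rw [← MonoidHom.mem_ker, h] at h1
  obtain ⟨d, hd⟩ := h1
  exact ⟨d, (hdec d).trans (congrArg _ hd)⟩

variable (R : Type u) [CommRing R] [IsLocalRing R] [IsNoetherianRing R]
  [IsAdicComplete (maximalIdeal R) R] [IsAlgClosed (ResidueField R)]
  (X : Scheme.{u}) [X.Over (Spec (CommRingCat.of R))] [IsProper (X ↘ Spec (CommRingCat.of R))]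

/-- The root. -/
theorem exists_root_of_closedFibre {q : ℕ} (hq : IsUnit (q : R)) {c : PicLoc.PicSet X}
    (hc : pull (inc (maximalIdeal R) X 0) c = 1) :
    ∃ d : PicLoc.PicSet X, pull (inc (maximalIdeal R) X 0) d = 1 ∧ d ^ q = c := by
  have hu : ∀ n, IsUnit (q : Γ(lvl (maximalIdeal R) X n, ⊤)) := fun n => by
    letI : Algebra R Γ(lvl (maximalIdeal R) X n, ⊤) :=
      (show R →+* Γ(lvl (maximalIdeal R) X n, ⊤) from
        Coh.toGlobal (lvl (maximalIdeal R) X n ↘ Spec (CommRingCat.of R))).toAlgebra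
    have := hq.map (algebraMap R Γ(lvl (maximalIdeal R) X n, ⊤))
    rwa [map_natCast] at this
  have hstep : ∀ (n : ℕ) (x : PicLoc.PicSet (lvl (maximalIdeal R) X n)),
      x ^ q = pull (inc (maximalIdeal R) X n) c → ∃ y : PicLoc.PicSet (lvl (maximalIdeal R) X (n + 1)),
        pull (tr (maximalIdeal R) X n) y = x ∧ y ^ q = pull (inc (maximalIdeal R) X (n + 1)) c := by
    intro n x hx
    haveI := PicKernel.isClosedImmersion_tr R X n
    have hsq := PicKernel.ker_tr_sq R X n
    obtain ⟨y', rfl⟩ := exists_lift_of_pow _ hsq (hu (n + 1)) x (pull (inc (maximalIdeal R) X (n + 1)) c)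
      (by rw [hx, PicKernel.pull_tr_inc])
    obtain ⟨e, ⟨he, heq⟩, -⟩ := PicKernel.steps_root R X q hq n
      ( pull (inc (maximalIdeal R) X (n + 1)) c / y' ^ q)
      (by rw [map_div, map_pow, hx, PicKernel.pull_tr_inc, div_self'])
    exact ⟨y' * e, by rw [map_mul, he, mul_one], by rw [mul_pow, heq, mul_div_cancel]⟩
  choose σ hσ₁ hσ₂ using hstep
  let s : ∀ n, {x : PicLoc.PicSet (lvl (maximalIdeal R) X n) // x ^ q = pull (inc (maximalIdeal R) X n) c} :=
    fun n => Nat.rec
      (motive := fun n => {x : PicLoc.PicSet (lvl (maximalIdeal R) X n) //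
        x ^ q = pull (inc (maximalIdeal R) X n) c})
      ⟨1, by rw [one_pow, hc]⟩ (fun n x => ⟨σ n x.1 x.2, hσ₂ n x.1 x.2⟩) n
  obtain ⟨d, hd⟩ := PicKernel.exists_of_compatible (maximalIdeal R) X (fun n => (s n).1) (fun n => hσ₁ n _ _)
  refine ⟨d, hd 0, div_eq_one.1 (PicKernel.eq_one_of_forall (maximalIdeal R) X _ fun n => ?_)⟩
  rw [map_div, map_pow, hd n, (s n).2, div_self']

end Groth.Misc13.NumTriv
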