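import Groth.Agent.Misc13.NumTriv.ProperTau
import Groth.Agent.CohBase.InvNearFibre
import Groth.Agent.HilbStab.BC.CurvBC
import Groth.Agent.Abvar.Seesaw.Core
import Groth.Agent.CurveDiv.DescGen
import Groth.Agent.PicAux.H0Universal
import Groth.Agent.EulerDeg.FiniteSupport

/-!
# Proper schemes with `H¹(O) = 0`: algebraically trivial invertible modules are trivial, and triviality
descends along field extensions
-/

set_option autoImplicit false
set_option linter.style.haveILetI false

universe u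

open CategoryTheory Limits AlgebraicGeometry TopologicalSpace

namespace Groth.Misc13.NumTriv

attribute [local instance] EulerDeg.secModule

open Groth.Inter Groth.PicAux

variable (k : Type u) [Field k] {X : Scheme.{u}} [X.Over (Spec (CommRingCat.of k))]
  [IsProper (X ↘ Spec (CommRingCat.of k))]

/-- A fibre over a rational point has no first cohomology. -/
theorem subsingleton_H1_fibre (h1 : Subsingleton (Coh.HH X (Coh.structureModule X) 1))
    {T : Scheme.{u}} (q : T ⟶ Spec (CommRingCat.of k)) (y : T) :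
    Subsingleton (Coh.HH ((pullback.snd _ _ : Pic13.prodK k X q ⟶ T).fiber y)
      (Coh.structureModule ((pullback.snd _ _ : Pic13.prodK k X q ⟶ T).fiber y)) 1) := by
  let π : Pic13.prodK k X q ⟶ T := pullback.snd _ _
  have : CompactSpace X := QuasiCompact.compactSpace_of_compactSpace (X ↘ Spec (CommRingCat.of k))
  have := HilbStab.BC.isSeparated_of_proper k X
  letI : Algebra k (T.residueField y) :=
    (Spec.preimage (T.fromSpecResidueField y ≫ q)).hom.toAlgebra
  have hK : Spec.map (CommRingCat.ofHom (algebraMap k (T.residueField y))) = T.fromSpecResidueField y ≫ q :=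
    Spec.map_preimage _
  letI : (π.fiber y).Over (Spec (CommRingCat.of (T.residueField y))) := ⟨π.fiberToSpecResidueField y⟩
  have hsq : CohBase.IsBC (A := k) (A' := (T.residueField y))
      (π.fiberι y ≫ pullback.fst _ _ : π.fiber y ⟶ X) := by
    have h := (IsPullback.of_hasPullback π (T.fromSpecResidueField y)).paste_horiz
      (IsPullback.of_hasPullback (X ↘ Spec (CommRingCat.of k)) q)
    rw [← hK] at h
    exact h
  have := (isCoh_of_isInvertible (EulerDeg.isInvertible_structureModule X)).1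
  have h := (HilbStab.BC.subsingleton_HH_baseChange_iff hsq (Coh.structureModule X) 1).2 h1
  exact PnCoh.subsingleton_HH_of_iso (A := T.residueField y) (π.fiberToSpecResidueField y)
    (PicAux.pullback_structure_iso _).some h

/-- Near a trivial rational fibre of a family of invertible modules all rational fibres are trivial. -/
theorem exists_nhd_trivial (h1 : Subsingleton (Coh.HH X (Coh.structureModule X) 1))
    {T : Scheme.{u}} (q : T ⟶ Spec (CommRingCat.of k)) [LocallyOfFiniteType q]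
    (E : (Pic13.prodK k X q).Modules) (hE : PicF.IsInvertible E)
    (t : Spec (CommRingCat.of k) ⟶ T) (ht : t ≫ q = 𝟙 _)
    (e : Pic13.fibreMod k X q t ht E ≅ Coh.structureModule X) :
    ∃ U : T.Opens, t (IsLocalRing.closedPoint k) ∈ U ∧
      ∀ (s : Spec (CommRingCat.of k) ⟶ T) (hs : s ≫ q = 𝟙 _), s (IsLocalRing.closedPoint k) ∈ U →
        Nonempty (Pic13.fibreMod k X q s hs E ≅ Coh.structureModule X) := by
  let π : Pic13.prodK k X q ⟶ T := pullback.snd _ _
  let y := t (IsLocalRing.closedPoint k)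
  have hsqπ : IsPullback (pullback.fst _ _ : Pic13.prodK k X q ⟶ X) π (X ↘ Spec (CommRingCat.of k)) q :=
    IsPullback.of_hasPullback _ _
  have : IsProper π := MorphismProperty.of_isPullback hsqπ inferInstance
  have : Flat π := MorphismProperty.of_isPullback hsqπ (Misc3Fib.flat_of_field _)
  have : IsLocallyNoetherian T := LocallyOfFiniteType.isLocallyNoetherian q
  have hfib : π.fiberι y ≫ π = π.fiberToSpecResidueField y ≫ T.fromSpecResidueField y :=
    pullback.condition
  let φ : π.fiber y ⟶ X := π.fiberι y ≫ pullback.fst _ _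
  have hφ : φ ≫ Pic13.sliceAt k X q t ht = π.fiberι y := by
    apply pullback.hom_ext
    · rw [Category.assoc, Pic13.sliceAt]
      erw [pullback.lift_fst, Category.comp_id]
    · rw [Category.assoc, Pic13.sliceAt]
      erw [pullback.lift_snd]
      change (π.fiberι y ≫ pullback.fst _ _) ≫ (X ↘ Spec (CommRingCat.of k)) ≫ t = π.fiberι y ≫ π
      rw [Category.assoc, pullback.condition_assoc]
      change π.fiberι y ≫ π ≫ q ≫ t = _
      rw [reassoc_of% hfib, fromSpecResidueField_comp k q t ht, hfib]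
  let e' : (Scheme.Modules.pullback (π.fiberι y)).obj E ≅ Coh.structureModule (π.fiber y) :=
    (Scheme.Modules.pullbackCongr hφ.symm).app E ≪≫ ((Scheme.Modules.pullbackComp φ _).app E).symm ≪≫
      (Scheme.Modules.pullback φ).mapIso e ≪≫ (PicAux.pullback_structure_iso φ).some
  obtain ⟨U, hy, σ, hσ⟩ := CohBase.exists_gen_near_fibre π E hE
    (CohBase.isFlatOver_of_isInvertible π hE) y (subsingleton_H1_fibre k h1 q y) e'
  refine ⟨U, hy, fun s hs hsU => PicAux.nonempty_iso_structure_iff.2 ?_⟩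
  have hle : (⊤ : X.Opens) ≤ Pic13.sliceAt k X q s hs ⁻¹ᵁ (π ⁻¹ᵁ U) := fun x _ => by
    change π (Pic13.sliceAt k X q s hs x) ∈ U
    rw [← Scheme.Hom.comp_apply, Pic13.sliceAt, show pullback.lift _ _ _ ≫ π = _ from pullback.lift_snd _ _ _,
      Scheme.Hom.comp_apply]
    have : Subsingleton ↥(Spec (CommRingCat.of k)) := inferInstanceAs (Subsingleton (PrimeSpectrum k))
    convert! hsU using 2
  exact ⟨_, (hσ.pull (Pic13.sliceAt k X q s hs)).res hle⟩

/-- With `H¹(O) = 0` a module algebraically equivalent to zero is trivial. -/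
theorem nonempty_iso_of_isAlgEquivZero [IsAlgClosed k]
    (h1 : Subsingleton (Coh.HH X (Coh.structureModule X) 1)) {L : X.Modules}
    (h : Pic13.IsAlgEquivZero k X L) : Nonempty (L ≅ Coh.structureModule X) := by
  obtain ⟨T, q, hconn, hlft, hqc, M, hM, t₁, t₀, ht₁, ht₀, ⟨e₁⟩, ⟨e₀⟩⟩ := h
  have : CompactSpace T := QuasiCompact.compactSpace_of_compactSpace q
  let Pt := {t : Spec (CommRingCat.of k) ⟶ T // t ≫ q = 𝟙 _}
  let Mt : Pt → X.Modules := fun t => Pic13.fibreMod k X q t.1 t.2 M
  have key : ∀ t : Pt, ∃ U : T.Opens, t.1 (IsLocalRing.closedPoint k) ∈ U ∧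
      ∀ s : Pt, s.1 (IsLocalRing.closedPoint k) ∈ U → Nonempty (Mt s ≅ Mt t) := by
    intro t
    have ht : PicF.IsInvertible (Mt t) := PicAux.isInvertible_pullback _ hM
    obtain ⟨N, hN, hNt⟩ := exists_isInverseOf ht
    let E := CohB1.tensorMod M ((Scheme.Modules.pullback (pullback.fst _ _)).obj N)
    have hfib : ∀ s : Pt, Nonempty (Pic13.fibreMod k X q s.1 s.2 E ≅ CohB1.tensorMod (Mt s) N) := fun s =>
      ⟨(PicAux.exists_pullback_tensorMod (Pic13.sliceAt k X q s.1 s.2) _ _).choose ≪≫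
        PicGrp.tensorModIso (Iso.refl _) ((Scheme.Modules.pullbackComp _ _).app N ≪≫
          (Scheme.Modules.pullbackCongr (show Pic13.sliceAt k X q s.1 s.2 ≫ pullback.fst _ _ = 𝟙 X from
            pullback.lift_fst _ _ _)).app N ≪≫ (Scheme.Modules.pullbackId _).app N)⟩
    obtain ⟨U, hU, hUs⟩ := exists_nhd_trivial k h1 q E
      (PicAux.isInvertible_tensorMod hM (PicAux.isInvertible_pullback _ hN)) t.1 t.2
      ((hfib t).some ≪≫ hNt.some)
    refine ⟨U, hU, fun s hs => ?_⟩
    have hsN : ClSub.IsInverseOf (Mt s) N := ⟨(hfib s).some.symm ≪≫ (hUs s.1 s.2 hs).some⟩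
    exact isInverseOf_unique (isInverseOf_symm hsN) (isInverseOf_symm hNt)
  choose U hU hUiso using key
  have hjac : JacobsonSpace T := LocallyOfFiniteType.jacobsonSpace q
  have hpt : ∀ z : T, IsClosed ({z} : Set T) → ∃ t : Pt, t.1 (IsLocalRing.closedPoint k) = z :=
    fun z hz => ⟨⟨pointOfClosedPoint q z hz, pointOfClosedPoint_comp q z hz⟩, by simp⟩
  have hmeet : ∀ t s : Pt, ((U t : Set T) ∩ (U s : Set T)).Nonempty → Nonempty (Mt t ≅ Mt s) := by
    intro t s hne
    obtain ⟨z, hz, hzc⟩ := nonempty_inter_closedPoints hne ((U t).2.inter (U s).2).isLocallyClosed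
    obtain ⟨r, hr⟩ := hpt z hzc
    exact ⟨(hUiso t r (hr ▸ hz.1)).some.symm ≪≫ (hUiso s r (hr ▸ hz.2)).some⟩
  let t₀' : Pt := ⟨t₀, ht₀⟩
  let A : Set T := ⋃ (t : Pt) (_ : Nonempty (Mt t ≅ Mt t₀')), (U t : Set T)
  let B : Set T := ⋃ (t : Pt) (_ : ¬ Nonempty (Mt t ≅ Mt t₀')), (U t : Set T)
  have hA : IsOpen A := isOpen_biUnion fun t _ => (U t).2
  have hB : IsOpen B := isOpen_biUnion fun t _ => (U t).2
  have hAB : ∀ z, z ∈ A → z ∈ B → False := fun z hzA hzB => by
    obtain ⟨t, ht, hzt⟩ := Set.mem_iUnion₂.1 hzA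
    obtain ⟨s, hs, hzs⟩ := Set.mem_iUnion₂.1 hzB
    exact hs ⟨(hmeet t s ⟨z, hzt, hzs⟩).some.symm ≪≫ ht.some⟩
  have hcov : A ∪ B = Set.univ := by
    by_contra hne
    obtain ⟨z, hz, hzc⟩ := nonempty_inter_closedPoints (Set.nonempty_compl.2 hne)
      (hA.union hB).isClosed_compl.isLocallyClosed
    obtain ⟨r, hr⟩ := hpt z hzc
    refine hz ?_
    by_cases h : Nonempty (Mt r ≅ Mt t₀')
    · exact Or.inl (Set.mem_iUnion₂.2 ⟨r, h, hr ▸ hU r⟩)
    · exact Or.inr (Set.mem_iUnion₂.2 ⟨r, h, hr ▸ hU r⟩)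
  by_contra hL
  have h1B : t₁ (IsLocalRing.closedPoint k) ∈ B :=
    Set.mem_iUnion₂.2 ⟨⟨t₁, ht₁⟩, fun ⟨e⟩ => hL ⟨e₁.symm ≪≫ e ≪≫ e₀⟩, hU ⟨t₁, ht₁⟩⟩
  have h0A : t₀ (IsLocalRing.closedPoint k) ∈ A :=
    Set.mem_iUnion₂.2 ⟨t₀', ⟨Iso.refl _⟩, hU t₀'⟩
  obtain ⟨z, -, hz⟩ := isPreconnected_univ A B hA hB hcov.ge ⟨_, trivial, h0A⟩ ⟨_, trivial, h1B⟩
  exact hAB z hz.1 hz.2

/-- Global functions are finite-dimensional. -/
theorem finite_sections :
    letI : Algebra k Γ(X, ⊤) :=
      RingHom.toAlgebra (show k →+* Γ(X, ⊤) from Coh.toGlobal (X ↘ Spec (CommRingCat.of k)))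
    Module.Finite k Γ(X, ⊤) := by
  letI : Algebra k Γ(X, ⊤) :=
    RingHom.toAlgebra (show k →+* Γ(X, ⊤) from Coh.toGlobal (X ↘ Spec (CommRingCat.of k)))
  have := EulerDeg.finite_HH k X (isCoh_of_isInvertible (EulerDeg.isInvertible_structureModule X)) 0
  have := Module.Finite.equiv (EulerDeg.h0Equiv k (Coh.structureModule X))
  exact Module.Finite.equiv
    ({ (Equiv.refl _ : Γ(X, ⊤) ≃ Γ(X, ⊤)) with
      toFun := fun x => toFun x
      invFun := fun x => x
      map_add' := fun _ _ => rfl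
      map_smul' := fun a x => by
        show toFun (a • x) = _
        rw [EulerDeg.smul_sec, toFun_smul]
        exact congrArg (· * toFun x) (resX_self _ _) } :
      Γ(Coh.structureModule X, (⊤ : X.Opens)) ≃ₗ[k] Γ(X, ⊤))

omit [IsProper (X ↘ Spec (CommRingCat.of k))] [X.Over (Spec (CommRingCat.of k))] in
/-- The functions on a quasi-compact quasi-separated scheme are those of its affine hull. -/
theorem toSpecΓ_app_bijective [CompactSpace X] [QuasiSeparatedSpace X]
    (V : (Spec Γ(X, ⊤)).Opens) : Function.Bijective (X.toSpecΓ.app V) := by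
  refine PicAux.Seesaw.app_bijective_of_basis X.toSpecΓ (fun W => ∃ r, W = PrimeSpectrum.basicOpen r)
    ?_ ?_ V
  · rintro W ⟨r, rfl⟩
    have : IsIso (X.toSpecΓ.app (PrimeSpectrum.basicOpen r)) :=
      isIso_ΓSpec_adjunction_unit_app_basicOpen r
    exact ConcreteCategory.bijective_of_isIso _
  · intro V t ht
    obtain ⟨_, ⟨r, rfl⟩, hr, hrV⟩ :=
      (PrimeSpectrum.isTopologicalBasis_basic_opens (R := Γ(X, ⊤))).exists_subset_of_mem_open
        (show (t : PrimeSpectrum Γ(X, ⊤)) ∈ (SetLike.coe V : Set (PrimeSpectrum Γ(X, ⊤))) from ht) V.2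
    exact ⟨_, ⟨_, rfl⟩, hr, hrV⟩

/-- Triviality of an invertible module descends along field extensions. -/
theorem nonempty_iso_of_bc (K : Type u) [Field K] [Algebra k K] {L : X.Modules}
    (hL : PicF.IsInvertible L)
    (h : Nonempty ((Scheme.Modules.pullback (Curv2.bcFst k X K)).obj L ≅
      Coh.structureModule (Curv2.bc k X K))) :
    Nonempty (L ≅ Coh.structureModule X) := by
  let p := X ↘ Spec (CommRingCat.of k)
  have : CompactSpace X := QuasiCompact.compactSpace_of_compactSpace p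
  have : QuasiSeparatedSpace X := quasiSeparatedSpace_of_quasiSeparated p
  let f := X.toSpecΓ
  have : QuasiCompact f := by
    rw [HasAffineProperty.iff_of_isAffine (P := @QuasiCompact)]
    infer_instance
  let S := Spec Γ(X, ⊤)
  let g0 : S ⟶ Spec (CommRingCat.of k) := Spec.map p.appTop ≫ (Spec (CommRingCat.of k)).isoSpec.inv
  have hfg : f ≫ g0 = p := by
    rw [← Category.assoc, ← Scheme.toSpecΓ_naturality, Category.assoc, ← Scheme.isoSpec_hom,
      Iso.hom_inv_id, Category.comp_id]
  let ρ := Spec.map (CommRingCat.ofHom (algebraMap k K))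
  have hρ : Flat ρ := Misc3Fib.flat_of_field ρ
  have : Surjective ρ := ⟨fun z => ⟨IsLocalRing.closedPoint K, by
    have : Subsingleton ↥(Spec (CommRingCat.of k)) := inferInstanceAs (Subsingleton (PrimeSpectrum k))
    exact Subsingleton.elim _ _⟩⟩
  let f' : Curv2.bc k X K ⟶ pullback g0 ρ :=
    pullback.lift (pullback.fst p ρ ≫ f) (pullback.snd p ρ)
      (by rw [Category.assoc, hfg, pullback.condition])
  have hsq : IsPullback (Curv2.bcFst k X K) f' f (pullback.fst g0 ρ) := by
    refine IsPullback.of_bot ?_ (pullback.lift_fst _ _ _).symm (IsPullback.of_hasPullback g0 ρ)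
    rw [show f' ≫ pullback.snd g0 ρ = pullback.snd p ρ from pullback.lift_snd _ _ _, hfg]
    exact IsPullback.of_hasPullback p ρ
  have : Flat (pullback.fst g0 ρ) :=
    MorphismProperty.of_isPullback (IsPullback.of_hasPullback g0 ρ).flip hρ
  have : Surjective (pullback.fst g0 ρ) :=
    MorphismProperty.of_isPullback (IsPullback.of_hasPullback g0 ρ).flip ‹Surjective ρ›
  have hgen := CurveDiv.DescGen.exists_gen_of_flat_family (toSpecΓ_app_bijective (X := X)) hL fun s =>
    ⟨pullback g0 ρ, Curv2.bc k X K, pullback.fst g0 ρ, Curv2.bcFst k X K, f', hsq, inferInstance,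
      (pullback.fst g0 ρ).surjective s, _, EulerDeg.isInvertible_structureModule _,
      ⟨h.some ≪≫ (PicAux.pullback_structure_iso f').some.symm⟩⟩
  have hart : IsArtinianRing Γ(X, ⊤) := by
    letI : Algebra k Γ(X, ⊤) := RingHom.toAlgebra (show k →+* Γ(X, ⊤) from Coh.toGlobal p)
    haveI : Module.Finite k Γ(X, ⊤) := finite_sections k
    exact IsArtinianRing.of_finite k _
  have : DiscreteTopology S := inferInstanceAs (DiscreteTopology (PrimeSpectrum Γ(X, ⊤)))
  choose U hU e he using hgen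
  let W : S → X.Opens := fun s => f ⁻¹ᵁ ⟨{s}, isOpen_discrete _⟩
  have hW : ∀ s, W s ≤ f ⁻¹ᵁ U s := fun s x (hx : f x = s) => show f x ∈ U s from hx ▸ hU s
  have hcover : iSup W = ⊤ := top_le_iff.1 fun x _ => Opens.mem_iSup.2 ⟨f x, rfl⟩
  obtain ⟨i, -⟩ := PicAux.exists_iso_of_gen (L := L) (M := Coh.structureModule X) hcover
    (fun s => res L (hW s) (e s)) (fun s => (he s).res (hW s))
    (fun s => oneSec X (W s)) (fun s => gen_oneSec _) fun a b r hr => by
      rw [res_oneSec, res_oneSec]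
      rcases eq_or_ne a b with rfl | hne
      · have hle : W a ⊓ W a ≤ f ⁻¹ᵁ U a := inf_le_left.trans (hW a)
        have h' : res L hle (e a) = r • res L hle (e a) := by
          simpa only [res_res] using hr
        have : r = 1 := (he a).smul_inj hle (h'.symm.trans (one_smul _ _).symm)
        rw [this, one_smul]
      · have hbot : W a ⊓ W b ≤ ⊥ := fun x hx => hne (hx.1.symm.trans hx.2)
        exact res_ext (fun z : PEmpty.{1} => z.elim) (fun z => z.elim) (hbot.trans bot_le) fun z => z.elim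
  exact ⟨i⟩

end Groth.Misc13.NumTriv
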