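import Groth.Agent.Misc13.NumTriv.TwCalc
import Groth.Agent.FlatStrata.Vanish
import Groth.Agent.FlatTwist.Relative
import Groth.Agent.Inter.Twist
import Groth.Agent.PnCoh.AmpleVanishing
import Groth.Agent.PnCoh.Finite
import Mathlib.RingTheory.Flat.EquationalCriterion
import Mathlib.RingTheory.Finiteness.Projective

/-!
# The morphisms between two coherent families, parametrised by an affine scheme of finite type
-/

set_option autoImplicit false
set_option linter.style.haveILetI false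

universe u

open CategoryTheory Limits AlgebraicGeometry TopologicalSpace
open scoped TensorProduct
open Groth.CohBase hiding res res_res
open Groth.PicAux (pullSec homOfSection oneSec)
open Groth.ThetaAlg (smulEnd smulEnd_comm pullback_map_smulEnd)

namespace Groth.Misc13.NumTriv

open Groth.Quot (twSec pullTensorNat)

/-- A coherent module is generated by finitely many maps from one inverse of a high power of an
ample module. -/
theorem exists_twist_epi {X : Scheme.{u}} [CompactSpace X] {Amp : X.Modules}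
    (hAmp : CohB1.IsAmple Amp) {M : X.Modules} (hM : Coh.IsCoh M) (n : ℕ) :
    ∃ (d : ℕ) (E : X.Modules)
      (_ : (DCoh.tensorRightMod (CohB1.tensorPow Amp d)).obj E ≅ Coh.structureModule X)
      (N : ℕ) (p : Fin N → (E ⟶ M)), n ≤ d ∧ PicF.IsInvertible E ∧ Epi (Sigma.desc p) := by
  have := hM.1
  obtain ⟨n₀, hn₀⟩ := Ega2Proj.exists_spans_twist hAmp M hM.2
  let d := max n₀ n
  have hP := PicAux.isInvertible_tensorPow hAmp.1 d
  have := PicAux.isQCoh_of_isInvertible hP
  have : (FlatStrata.tw M Amp d).IsQuasicoherent := FlatStrata.isQCoh_tw hAmp.1 d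
  obtain ⟨N, p, hp⟩ := Ega2Proj.exists_epi_freeMod_of_spans (FlatStrata.tw M Amp d)
    (Groth.QCohMod.isFT_tensorMod hM.2 (Ega2Proj.isFT_of_isInvertible hP))
    (hn₀ d (le_max_left _ _))
  obtain ⟨R, hR, ⟨ε⟩⟩ := PicAux.exists_inverse hP
  have := PicAux.isEquivalence_tensorRightMod_of_isInvertible hR
  let T := DCoh.tensorRightMod R
  let e : T.obj (FlatStrata.tw M Amp d) ≅ M :=
    (PicAux.exists_associator M _ R).choose ≪≫ PicGrp.tensorModIso (Iso.refl M)
      ((PicAux.exists_braiding _ R).choose ≪≫ ε) ≪≫ SecTwist.unitorR M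
  let u : R ≅ T.obj (Coh.structureModule X) :=
    (SecTwist.unitorR R).symm ≪≫ (PicAux.exists_braiding _ _).choose
  refine ⟨d, R, ε, N,
    fun i => u.hom ≫ T.map (Sigma.ι (fun _ : Fin N => Coh.structureModule X) i ≫ p) ≫ e.hom,
    le_max_right _ _, hR, ⟨fun {Z} a b hab => ?_⟩⟩
  have h : ∀ i, T.map (Sigma.ι (fun _ : Fin N => Coh.structureModule X) i) ≫ T.map p ≫ e.hom ≫ a =
      T.map (Sigma.ι (fun _ : Fin N => Coh.structureModule X) i) ≫ T.map p ≫ e.hom ≫ b := fun i => by
    have := congrArg (fun m => Sigma.ι (fun _ : Fin N => R) i ≫ m) hab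
    simp only [Sigma.ι_desc_assoc, Category.assoc, cancel_epi, Functor.map_comp] at this
    exact this
  have h2 := Cofan.IsColimit.hom_ext (isColimitOfHasCoproductOfPreservesColimit T _) _ _ h
  exact (cancel_epi e.hom).1 ((cancel_epi (T.map p)).1 h2)

section Point

variable {A : Type u} [CommRing A] {B : Type u} [CommRing B] [Algebra A B] {Y Y' : Scheme.{u}}
  [Y.Over (Spec (CommRingCat.of A))] [Y'.Over (Spec (CommRingCat.of B))] {g : Y' ⟶ Y}
  (hsq : IsBC (A := A) (A' := B) g) {L E F : Y.Modules} (hL : PicF.IsInvertible L)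
  (ε : (DCoh.tensorRightMod L).obj E ≅ Coh.structureModule Y)

include hsq in
theorem appTop_toSec (a : A) :
    g.appTop (toSec A (⊤ : Y.Opens) a) = toSec B (⊤ : Y'.Opens) (algebraMap A B a) := by
  change g.appTop (QCohMod.resFun _ le_rfl (Coh.toGlobal (Y ↘ Spec (CommRingCat.of A)) a)) =
    QCohMod.resFun _ le_rfl (Coh.toGlobal (Y' ↘ Spec (CommRingCat.of B)) _)
  refine (congrArg g.appTop (QCohMod.resFun_self _)).trans (Eq.trans ?_ (QCohMod.resFun_self _).symm)
  change ((Y ↘ Spec (CommRingCat.of A)).appTop ≫ g.appTop) ((Scheme.ΓSpecIso _).inv a) =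
    (Y' ↘ Spec (CommRingCat.of B)).appTop ((Scheme.ΓSpecIso _).inv (algebraMap A B a))
  rw [← Scheme.Hom.comp_appTop, hsq.w, Scheme.Hom.comp_appTop]
  refine congrArg (fun z => (Y' ↘ Spec (CommRingCat.of B)).appTop z) ?_
  exact congr(($(Scheme.ΓSpecIso_inv_naturality (CommRingCat.ofHom (algebraMap A B)))).hom a).symm

include hsq hL ε in
/-- Morphisms on the special fibre lift. -/
theorem exists_pullback_map_eq (hs : Function.Surjective (algebraMap A B))
    (hb : FlatStrata.BCBij hsq ((DCoh.tensorRightMod L).obj F))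
    (z : (Scheme.Modules.pullback g).obj E ⟶ (Scheme.Modules.pullback g).obj F) :
    ∃ w : E ⟶ F, (Scheme.Modules.pullback g).map w = z := by
  let θ := (pullTensorNat g L).app F
  let t : Γ((Scheme.Modules.pullback g).obj ((DCoh.tensorRightMod L).obj F), (⊤ : Y'.Opens)) :=
    θ.inv.app ⊤ (twSec (pullEps ε g) z)
  obtain ⟨x, hx⟩ := hb.2 (show secA B _ (g ⁻¹ᵁ (⊤ : Y.Opens)) from t)
  obtain ⟨s, rfl⟩ := TensorProduct.mk_surjective A (secA A _ ⊤) B hs x
  have hx' : pullSec g _ (show Γ((DCoh.tensorRightMod L).obj F, (⊤ : Y.Opens)) from s) = t :=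
    (FlatStrata.bcLin_one_tmul hsq _ ⊤ s).symm.trans hx
  obtain ⟨w, hw⟩ := twSec_surjective ε hL (show Γ((DCoh.tensorRightMod L).obj F, (⊤ : Y.Opens)) from s)
  refine ⟨w, twSec_injective (pullEps ε g) (PicAux.isInvertible_pullback g hL) ?_⟩
  change twSec (pullEps ε g) ((Scheme.Modules.pullback g).map w) = twSec (pullEps ε g) z
  rw [twSec_map, hw]
  refine (congrArg (fun y => θ.hom.app ⊤ y) hx').trans ?_
  exact congr(($(θ.inv_hom_id)).app ⊤ (twSec (pullEps ε g) z))

include hsq hL ε in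
/-- A morphism vanishing on the special fibre has twisted section vanishing there. -/
theorem one_tmul_twSec_eq_zero (hb : FlatStrata.BCBij hsq ((DCoh.tensorRightMod L).obj F))
    (w : E ⟶ F) (hw : (Scheme.Modules.pullback g).map w = 0) :
    (1 : B) ⊗ₜ[A] (show secA A ((DCoh.tensorRightMod L).obj F) ⊤ from twSec ε w) = 0 := by
  let θ := (pullTensorNat g L).app F
  refine hb.1 (Eq.trans ?_ (map_zero _).symm)
  refine (FlatStrata.bcLin_one_tmul hsq _ ⊤ _).trans ?_
  let t : Γ((Scheme.Modules.pullback g).obj ((DCoh.tensorRightMod L).obj F), (⊤ : Y'.Opens)) :=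
    pullSec g _ (twSec ε w)
  have : (DCoh.tensorRightMod ((Scheme.Modules.pullback g).obj L)).Additive :=
    DCoh.additive_tensorRightMod _
  have h0 : θ.hom.app ⊤ t = 0 := by
    refine (twSec_map ε g w).symm.trans ?_
    rw [hw, twSec, Functor.map_zero, comp_zero]
    rfl
  change t = 0
  exact (congr(($(θ.hom_inv_id)).app ⊤ t)).symm.trans ((congrArg (θ.inv.app ⊤) h0).trans (map_zero _))

end Point

section Combine

variable {X' : Scheme.{u}} {X : Scheme.{u}} {n : ℕ} {E : X.Modules}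

/-- A morphism into a finite power decomposes along the factors. -/
theorem map_comp_eq_sum (g : X' ⟶ X) {E₂ : X.Modules} {C : X'.Modules}
    (k : E₂ ⟶ ∐ fun _ : Fin n => E)
    (D : (Scheme.Modules.pullback g).obj (∐ fun _ : Fin n => E) ⟶ C) :
    (Scheme.Modules.pullback g).map k ≫ D =
      ∑ i, (Scheme.Modules.pullback g).map (k ≫ Sigma.desc fun i' => if i' = i then 𝟙 E else 0) ≫
        (Scheme.Modules.pullback g).map (Sigma.ι (fun _ : Fin n => E) i) ≫ D := by
  have := FlatStrata.additive_pullback g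
  have hproj : ∑ i, (Sigma.desc fun i' => if i' = i then 𝟙 E else 0) ≫
      Sigma.ι (fun _ : Fin n => E) i = 𝟙 _ := by
    refine Sigma.hom_ext _ _ fun i' => ?_
    rw [Preadditive.comp_sum, Finset.sum_eq_single i']
    · simp
    · intro b _ hb
      simp [Ne.symm hb]
    · simp
  conv_lhs => rw [← Category.comp_id k, ← hproj, Preadditive.comp_sum, Functor.map_sum,
    Preadditive.sum_comp]
  refine Finset.sum_congr rfl fun i _ => ?_
  rw [← Category.assoc, Functor.map_comp, Category.assoc]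

variable {X₀ : Scheme.{u}} {M C : X.Modules} {m : ℕ} (p : Fin n → (E ⟶ M)) [Epi (Sigma.desc p)]

/-- The fibre of a morphism given by combinations. -/
theorem pullback_map_eq_of_comb (g : X' ⟶ X) (σ' : X₀ ⟶ X') (σ : X₀ ⟶ X) (h : σ' ≫ g = σ)
    (w : Fin m → (E ⟶ C)) (b : Fin n → Fin m → Γ(X', ⊤)) (a : Fin n → Fin m → Γ(X, ⊤))
    (hab : ∀ i j, σ'.appTop (b i j) = σ.appTop (a i j))
    (v : (Scheme.Modules.pullback g).obj M ⟶ (Scheme.Modules.pullback g).obj C)
    (hv : ∀ i, (Scheme.Modules.pullback g).map (p i) ≫ v =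
      ∑ j, smulEnd _ (b i j) ≫ (Scheme.Modules.pullback g).map (w j))
    (z : (Scheme.Modules.pullback σ).obj M ⟶ (Scheme.Modules.pullback σ).obj C)
    (hz : ∀ i, (Scheme.Modules.pullback σ).map (p i) ≫ z =
      (Scheme.Modules.pullback σ).map (∑ j, smulEnd _ (a i j) ≫ w j)) :
    (Scheme.Modules.pullback σ').map v ≫
        (Scheme.Modules.pullbackComp σ' g ≪≫ Scheme.Modules.pullbackCongr h).hom.app C =
      (Scheme.Modules.pullbackComp σ' g ≪≫ Scheme.Modules.pullbackCongr h).hom.app M ≫ z := by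
  let β := Scheme.Modules.pullbackComp σ' g ≪≫ Scheme.Modules.pullbackCongr h
  let G' := Scheme.Modules.pullback σ'
  let G := Scheme.Modules.pullback g
  let Gσ := Scheme.Modules.pullback σ
  have : Gσ.Additive := FlatStrata.additive_pullback σ
  have : G'.Additive := FlatStrata.additive_pullback σ'
  have : PreservesColimitsOfSize.{0, 0} Gσ :=
    (Scheme.Modules.pullbackPushforwardAdjunction σ).leftAdjoint_preservesColimits
  change G'.map v ≫ β.hom.app C = β.hom.app M ≫ z
  rw [← cancel_epi (β.inv.app M), Iso.inv_hom_id_app_assoc]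
  refine (cancel_epi (Gσ.map (Sigma.desc p))).1
    (Cofan.IsColimit.hom_ext (isColimitOfHasCoproductOfPreservesColimit Gσ fun _ : Fin n => E)
      _ _ fun i => ?_)
  change Gσ.map (Sigma.ι (fun _ : Fin n => E) i) ≫ Gσ.map (Sigma.desc p) ≫ _ =
    Gσ.map (Sigma.ι (fun _ : Fin n => E) i) ≫ Gσ.map (Sigma.desc p) ≫ z
  simp only [← Category.assoc, ← Functor.map_comp, Sigma.ι_desc]
  simp only [Category.assoc]
  refine Eq.trans ?_ (hz i).symm
  have n1 : Gσ.map (p i) ≫ β.inv.app M = β.inv.app E ≫ G'.map (G.map (p i)) := β.inv.naturality _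
  rw [reassoc_of% n1, ← Category.assoc (G'.map _), ← Functor.map_comp, hv, Functor.map_sum,
    Functor.map_sum, Preadditive.sum_comp, Preadditive.comp_sum]
  refine Finset.sum_congr rfl fun j _ => ?_
  have n2 : G'.map (G.map (w j)) ≫ β.hom.app C = β.hom.app E ≫ Gσ.map (w j) := β.hom.naturality _
  rw [Functor.map_comp, Functor.map_comp, pullback_map_smulEnd, pullback_map_smulEnd, hab,
    Category.assoc, n2, ← Category.assoc (smulEnd _ _), smulEnd_comm, Category.assoc,
    Iso.inv_hom_id_app_assoc]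

end Combine

set_option maxHeartbeats 400000 in
/-- The morphisms between two coherent families are parametrised by an affine scheme of finite type
over the base. -/
theorem exists_hom_param {A : CommRingCat.{u}} [IsNoetherianRing A] {Y : Scheme.{u}}
    (π : Y ⟶ Spec A) [IsProper π] {Amp : Y.Modules} (hAmp : CohB1.IsAmple Amp) {M C : Y.Modules}
    (hM : Coh.IsCoh M) (hC : Coh.IsCoh C) (hfl : FlatMod.IsFlatOver π C) :
    ∃ (R : CommRingCat.{u}) (φ : A ⟶ R), φ.hom.FiniteType ∧
      ∀ {Y' : Scheme.{u}} (g : Y' ⟶ Y) (π' : Y' ⟶ Spec R), IsPullback g π' π (Spec.map φ) →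
        ∃ v : (Scheme.Modules.pullback g).obj M ⟶ (Scheme.Modules.pullback g).obj C,
          ∀ {K : Type u} [Field K] (ψ : A ⟶ CommRingCat.of K), Function.Surjective ψ →
          ∀ {Y₀ : Scheme.{u}} (σ : Y₀ ⟶ Y) (π₀ : Y₀ ⟶ Spec (CommRingCat.of K)),
            IsPullback σ π₀ π (Spec.map ψ) →
          ∀ z : (Scheme.Modules.pullback σ).obj M ⟶ (Scheme.Modules.pullback σ).obj C,
            ∃ χ : R ⟶ CommRingCat.of K, φ ≫ χ = ψ ∧
              ∀ (σ' : Y₀ ⟶ Y') (h : σ' ≫ g = σ), σ' ≫ π' = π₀ ≫ Spec.map χ →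
                (Scheme.Modules.pullback σ').map v ≫
                    (Scheme.Modules.pullbackComp σ' g ≪≫ Scheme.Modules.pullbackCongr h).hom.app C =
                  (Scheme.Modules.pullbackComp σ' g ≪≫ Scheme.Modules.pullbackCongr h).hom.app M ≫ z := by
  classical
  let instY : Y.Over (Spec (CommRingCat.of A)) := ⟨π⟩
  have : IsProper (Y ↘ Spec (CommRingCat.of A)) := ‹IsProper π›
  have := CohFin.compactSpace_of_proper π
  have := CohFin.isSeparated_of_proper π
  have : IsLocallyNoetherian Y := LocallyOfFiniteType.isLocallyNoetherian π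
  have := hC.1
  obtain ⟨n₀, hn₀⟩ := PnCoh.exists_subsingleton_of_isAmple (R := A) π hAmp C hC
  obtain ⟨d, E, ε, N, p, hd, hE, hp⟩ := exists_twist_epi hAmp hM n₀
  have hEc : Coh.IsCoh (∐ fun _ : Fin N => E) :=
    PnCoh.isCoh_sigma _ fun _ => Inter.isCoh_of_isInvertible hE
  have := hM.1
  have hKc : Coh.IsCoh (kernel (Sigma.desc p)) := QCohMod.isCoh_kernel _ hEc
  obtain ⟨d₂, E₂, ε₂, N₂, k', hd₂, hE₂, hk⟩ := exists_twist_epi hAmp hKc n₀
  let L := CohB1.tensorPow Amp d
  let L₂ := CohB1.tensorPow Amp d₂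
  have hL : PicF.IsInvertible L := PicAux.isInvertible_tensorPow hAmp.1 d
  have hL₂ : PicF.IsInvertible L₂ := PicAux.isInvertible_tensorPow hAmp.1 d₂
  have : (FlatStrata.tw C Amp d).IsQuasicoherent := FlatStrata.isQCoh_tw hAmp.1 d
  have : (FlatStrata.tw C Amp d₂).IsQuasicoherent := FlatStrata.isQCoh_tw hAmp.1 d₂
  have : ((DCoh.tensorRightMod L₂).obj C).IsQuasicoherent := ‹(FlatStrata.tw C Amp d₂).IsQuasicoherent›
  have : ((DCoh.tensorRightMod L).obj C).IsQuasicoherent := ‹(FlatStrata.tw C Amp d).IsQuasicoherent›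
  have hflL : FlatMod.IsFlatOver (Y ↘ Spec (CommRingCat.of A)) ((DCoh.tensorRightMod L).obj C) :=
    FlatTwist.isFlatOver_tensorMod hL hfl
  have hflL₂ : FlatMod.IsFlatOver (Y ↘ Spec (CommRingCat.of A)) ((DCoh.tensorRightMod L₂).obj C) :=
    FlatTwist.isFlatOver_tensorMod hL₂ hfl
  let P := secA A ((DCoh.tensorRightMod L).obj C) (⊤ : Y.Opens)
  let P₂ := secA A ((DCoh.tensorRightMod L₂).obj C) (⊤ : Y.Opens)
  have hcoh : ∀ {L : Y.Modules}, PicF.IsInvertible L → Coh.IsCoh ((DCoh.tensorRightMod L).obj C) :=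
    fun hL => RefRank.isCoh_tensorMod hC (Inter.isCoh_of_isInvertible hL)
  have : Module.Finite A P := FlatStrata.finite_secA_top _ (hcoh hL)
  have : Module.Finite A P₂ := FlatStrata.finite_secA_top _ (hcoh hL₂)
  have : Module.Flat A P₂ := FlatStrata.flat_secA_top_of_vanish _ hflL₂ fun q hq => hn₀ d₂ hd₂ q hq
  have : Module.FinitePresentation A P₂ := Module.finitePresentation_of_finite A P₂
  have : Module.Projective A P₂ := Module.Flat.projective_of_finitePresentation
  obtain ⟨r, sπ, si, hsπ, -, hcomp⟩ := Module.Finite.exists_comp_eq_id_of_projective A P₂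
  obtain ⟨m, gen, hgen⟩ := Module.Finite.exists_fin (R := A) (M := P)
  choose w hw using fun j => twSec_surjective ε hL
    (show Γ((DCoh.tensorRightMod L).obj C, (⊤ : Y.Opens)) from gen j)
  let cproj : ∀ i : Fin N, (∐ fun _ : Fin N => E) ⟶ E := fun i =>
    Sigma.desc fun i' => if i' = i then 𝟙 E else 0
  let k : Fin N₂ → (E₂ ⟶ ∐ fun _ : Fin N => E) := fun l => k' l ≫ kernel.ι (Sigma.desc p)
  have hk0 : ∀ l, k l ≫ Sigma.desc p = 0 := fun l => by simp [k]
  let kc : Fin N₂ → Fin N → (E₂ ⟶ E) := fun l i => k l ≫ cproj i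
  let Qs : Fin N₂ → Fin N × Fin m → P₂ := fun l ij => twSec ε₂ (kc l ij.1 ≫ w ij.2)
  let rel : Fin N₂ × Fin r → MvPolynomial (Fin N × Fin m) A := fun lr =>
    ∑ ij, MvPolynomial.C (si (Qs lr.1 ij) lr.2) * MvPolynomial.X ij
  let I := Ideal.span (Set.range rel)
  let R := MvPolynomial (Fin N × Fin m) A ⧸ I
  let φ : A ⟶ CommRingCat.of R := CommRingCat.ofHom (algebraMap A R)
  refine ⟨CommRingCat.of R, φ, RingHom.finiteType_algebraMap.2 inferInstance, ?_⟩
  intro Y' g π' H
  let instY' : Y'.Over (Spec (CommRingCat.of R)) := ⟨π'⟩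
  have hsq : IsBC (A := A) (A' := R) g := H
  let x : Fin N × Fin m → R := fun ij => Ideal.Quotient.mk I (MvPolynomial.X ij)
  let G := Scheme.Modules.pullback g
  have : G.Additive := FlatStrata.additive_pullback g
  have : PreservesColimitsOfSize.{0, 0} G :=
    (Scheme.Modules.pullbackPushforwardAdjunction g).leftAdjoint_preservesColimits
  let W : Fin N → (G.obj E ⟶ G.obj C) := fun i =>
    ∑ j, smulEnd _ (toSec R (⊤ : Y'.Opens) (x (i, j))) ≫ G.map (w j)
  let hcol := isColimitOfHasCoproductOfPreservesColimit G (fun _ : Fin N => E)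
  let D : G.obj (∐ fun _ : Fin N => E) ⟶ G.obj C := Cofan.IsColimit.desc hcol W
  have hD : ∀ i, G.map (Sigma.ι (fun _ : Fin N => E) i) ≫ D = W i := fun i =>
    Cofan.IsColimit.fac hcol W i
  have hkD : ∀ l, G.map (k l) ≫ D = 0 := by
    intro l
    have h1 : G.map (k l) ≫ D = ∑ ij : Fin N × Fin m,
        smulEnd _ (toSec R (⊤ : Y'.Opens) (x ij)) ≫ G.map (kc l ij.1 ≫ w ij.2) := by
      rw [map_comp_eq_sum g (k l) D, Fintype.sum_prod_type]
      refine Finset.sum_congr rfl fun i _ => ?_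
      rw [hD, Preadditive.comp_sum]
      refine Finset.sum_congr rfl fun j _ => ?_
      rw [← Category.assoc, ← smulEnd_comm, Category.assoc, ← Functor.map_comp]
    refine h1.trans (twSec_injective (pullEps ε₂ g) (PicAux.isInvertible_pullback g hL₂) ?_)
    change twSec (pullEps ε₂ g) _ = twSec (pullEps ε₂ g) 0
    have hz : twSec (pullEps ε₂ g) (0 : G.obj E₂ ⟶ G.obj C) = 0 := by
      have : (DCoh.tensorRightMod (G.obj L₂)).Additive := DCoh.additive_tensorRightMod _
      rw [twSec, Functor.map_zero, comp_zero]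
      rfl
    rw [hz, twSec_comb]
    refine (Finset.sum_congr rfl fun ij _ =>
      congrArg (fun y => toSec R (⊤ : Y'.Opens) (x ij) • y) (twSec_map ε₂ g _)).trans ?_
    let θ := (pullTensorNat g L₂).hom.app C
    have hzero : ∑ ij, (x ij) ⊗ₜ[A] Qs l ij = (0 : R ⊗[A] P₂) := by
      have e1 : ∀ y : P₂, y = ∑ q, si y q • sπ (Pi.single q 1) := fun y => by
        refine (LinearMap.congr_fun hcomp y).symm.trans ?_
        refine ((congrArg sπ (pi_eq_sum_univ' (si y))).trans (map_sum sπ _ _)).trans ?_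
        exact Finset.sum_congr rfl fun q _ => map_smul _ _ _
      rw [Finset.sum_congr rfl fun ij _ =>
        (congrArg (x ij ⊗ₜ[A] ·) (e1 (Qs l ij))).trans (TensorProduct.tmul_sum _ _ _), Finset.sum_comm]
      refine Finset.sum_eq_zero fun q _ => ?_
      rw [Finset.sum_congr rfl fun ij _ => (TensorProduct.smul_tmul (si (Qs l ij) q) (x ij) _).symm,
        ← TensorProduct.sum_tmul]
      have : ∑ ij, si (Qs l ij) q • x ij = Ideal.Quotient.mk I (rel (l, q)) := by
        rw [map_sum]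
        exact Finset.sum_congr rfl fun ij _ => ((Algebra.smul_def (si (Qs l ij) q) (x ij)).trans (map_mul (Ideal.Quotient.mk I) (MvPolynomial.C _) (MvPolynomial.X ij)).symm)
      rw [this, Ideal.Quotient.eq_zero_iff_mem.2 (Ideal.subset_span (Set.mem_range_self (f := rel) (l, q))), TensorProduct.zero_tmul]
    have h2 := congrArg (FlatStrata.bcLin hsq ((DCoh.tensorRightMod L₂).obj C) ⊤) hzero
    rw [map_sum, map_zero] at h2
    refine Eq.trans ?_ ((congrArg (fun y : Γ(G.obj ((DCoh.tensorRightMod L₂).obj C), (⊤ : Y'.Opens)) =>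
      θ.app ⊤ y) h2).trans (map_zero (θ.app ⊤).hom))
    refine Eq.trans ?_ (map_sum (θ.app ⊤).hom _ _).symm
    exact Finset.sum_congr rfl fun ij _ => (θ.app_smul _ _).symm
  let S := ShortComplex.mk (Sigma.desc k) (Sigma.desc p)
    (Sigma.hom_ext _ _ fun l => by simp [hk0])
  have hS : S.Exact := by
    let S' := ShortComplex.mk (kernel.ι (Sigma.desc p)) (Sigma.desc p) (kernel.condition _)
    let q : S ⟶ S' :=
      { τ₁ := Sigma.desc k', τ₂ := 𝟙 _, τ₃ := 𝟙 _
        comm₁₂ := Sigma.hom_ext _ _ fun l => by simp [S, S', k]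
        comm₂₃ := by simp [S, S'] }
    have : Epi q.τ₁ := hk
    have : IsIso q.τ₂ := inferInstanceAs (IsIso (𝟙 _))
    have : Mono q.τ₃ := inferInstanceAs (Mono (𝟙 _))
    exact (ShortComplex.exact_iff_of_epi_of_isIso_of_mono q).2 (ShortComplex.exact_kernel _)
  have : Epi S.g := hp
  have hSg := hS.map_of_epi_of_preservesCokernel G inferInstance inferInstance
  have : Epi (S.map G).g := inferInstanceAs (Epi (G.map S.g))
  have h0 : (S.map G).f ≫ D = 0 :=
    Cofan.IsColimit.hom_ext (isColimitOfHasCoproductOfPreservesColimit G fun _ : Fin N₂ => E₂) _ _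
      fun l => by
        change G.map (Sigma.ι (fun _ : Fin N₂ => E₂) l) ≫ G.map (Sigma.desc k) ≫ D =
          G.map (Sigma.ι (fun _ : Fin N₂ => E₂) l) ≫ 0
        rw [← Category.assoc, ← Functor.map_comp, Sigma.ι_desc, hkD, comp_zero]
  let v : G.obj M ⟶ G.obj C := hSg.desc D h0
  have hv : G.map (Sigma.desc p) ≫ v = D := hSg.g_desc D h0
  refine ⟨v, fun {K} _ ψ hψ {Y₀} σ π₀ Hσ z => ?_⟩
  let : Algebra A K := ψ.hom.toAlgebra
  let instY₀ : Y₀.Over (Spec (CommRingCat.of K)) := ⟨π₀⟩
  have hsqσ : IsBC (A := A) (A' := K) σ := Hσ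
  let Gσ := Scheme.Modules.pullback σ
  have : Gσ.Additive := FlatStrata.additive_pullback σ
  have : PreservesColimitsOfSize.{0, 0} Gσ :=
    (Scheme.Modules.pullbackPushforwardAdjunction σ).leftAdjoint_preservesColimits
  have hbL := FlatStrata.bcBij_of_vanish hsqσ _ hflL fun q hq => hn₀ d hd q hq
  have hbL₂ := FlatStrata.bcBij_of_vanish hsqσ _ hflL₂ fun q hq => hn₀ d₂ hd₂ q hq
  choose wi hwi using fun i => exists_pullback_map_eq hsqσ hL ε hψ hbL (Gσ.map (p i) ≫ z)
  have hwi' : ∀ i, ∃ α : Fin m → A, wi i = ∑ j, smulEnd _ (toSec A (⊤ : Y.Opens) (α j)) ≫ w j :=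
    fun i => by
    obtain ⟨α, hα⟩ := (Submodule.mem_span_range_iff_exists_fun A).1
      (hgen.ge (Submodule.mem_top (x := (show P from twSec ε (wi i)))))
    refine ⟨α, twSec_injective ε hL ?_⟩
    change twSec ε (wi i) = twSec ε _
    rw [twSec_comb]
    refine hα.symm.trans (Finset.sum_congr rfl fun j _ => ?_)
    rw [hw]
    rfl
  choose α hα using hwi'
  let ev : MvPolynomial (Fin N × Fin m) A →+* K :=
    MvPolynomial.eval₂Hom ψ.hom fun ij => ψ (α ij.1 ij.2)
  have hev : ∀ y ∈ I, ev y = 0 := by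
    intro y hy
    refine (RingHom.mem_ker).1 (Ideal.span_le.2 ?_ hy)
    rintro _ ⟨⟨l, q⟩, rfl⟩
    let u : E₂ ⟶ C := k l ≫ Sigma.desc wi
    have hu0 : Gσ.map u = 0 := by
      have hpz : Gσ.map (Sigma.desc wi) = Gσ.map (Sigma.desc p) ≫ z :=
        Cofan.IsColimit.hom_ext (isColimitOfHasCoproductOfPreservesColimit Gσ fun _ : Fin N => E)
          _ _ fun i => by
            change Gσ.map (Sigma.ι _ i) ≫ Gσ.map _ = Gσ.map (Sigma.ι _ i) ≫ Gσ.map _ ≫ z
            rw [← Functor.map_comp, ← Category.assoc, ← Functor.map_comp, Sigma.ι_desc,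
              Sigma.ι_desc, hwi]
      rw [Functor.map_comp, hpz, ← Category.assoc, ← Functor.map_comp, hk0, Functor.map_zero,
        zero_comp]
    have hu : u = ∑ ij : Fin N × Fin m,
        smulEnd _ (toSec A (⊤ : Y.Opens) (α ij.1 ij.2)) ≫ kc l ij.1 ≫ w ij.2 := by
      change k l ≫ Sigma.desc wi = _
      have hproj : ∑ i, cproj i ≫ Sigma.ι (fun _ : Fin N => E) i = 𝟙 _ := by
        refine Sigma.hom_ext _ _ fun i' => ?_
        rw [Preadditive.comp_sum, Finset.sum_eq_single i']
        · simp [cproj]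
        · intro b _ hb
          simp [cproj, Ne.symm hb]
        · simp
      rw [← Category.comp_id (k l), ← hproj, Preadditive.comp_sum, Preadditive.sum_comp,
        Fintype.sum_prod_type]
      refine Finset.sum_congr rfl fun i _ => ?_
      rw [← Category.assoc, Category.assoc, Sigma.ι_desc, hα, Preadditive.comp_sum]
      refine Finset.sum_congr rfl fun j _ => ?_
      rw [← Category.assoc, ← smulEnd_comm, Category.assoc]
    have hs0 := one_tmul_twSec_eq_zero hsqσ hL₂ ε₂ hbL₂ u hu0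
    have hs : (show P₂ from twSec ε₂ u) = ∑ ij, α ij.1 ij.2 • Qs l ij := by
      rw [hu, twSec_comb]
      exact Finset.sum_congr rfl fun ij _ => rfl
    rw [hs] at hs0
    have h3 := congrArg (fun t => TensorProduct.rid A K (((LinearMap.proj q).comp si).lTensor K t)) hs0
    simp only [LinearMap.lTensor_tmul, TensorProduct.rid_tmul, map_zero] at h3
    rw [SetLike.mem_coe, RingHom.mem_ker, map_sum]
    refine Eq.trans ?_ h3
    rw [map_sum, Finset.sum_smul]
    refine Finset.sum_congr rfl fun ij _ => ?_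
    rw [map_smul, smul_eq_mul, Algebra.smul_def, mul_one, map_mul, map_mul]
    change ev _ * ev _ = _
    simp only [ev, MvPolynomial.eval₂Hom_C, MvPolynomial.eval₂Hom_X']
    exact mul_comm _ _
  let χ : CommRingCat.of R ⟶ CommRingCat.of K := CommRingCat.ofHom (Ideal.Quotient.lift I ev hev)
  refine ⟨χ, ?_, fun σ' h hσ' => ?_⟩
  · ext a
    exact MvPolynomial.eval₂Hom_C _ _ _
  have hfun : ∀ (y : R), σ'.appTop (toSec R (⊤ : Y'.Opens) y) = toSec K (⊤ : Y₀.Opens) (χ y) := by
    intro y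
    change σ'.appTop (QCohMod.resFun _ le_rfl (Coh.toGlobal π' y)) =
      QCohMod.resFun _ le_rfl (Coh.toGlobal π₀ (χ y))
    refine (congrArg σ'.appTop (QCohMod.resFun_self _)).trans (Eq.trans ?_ (QCohMod.resFun_self _).symm)
    change (π'.appTop ≫ σ'.appTop) ((Scheme.ΓSpecIso _).inv y) =
      π₀.appTop ((Scheme.ΓSpecIso _).inv (χ y))
    rw [← Scheme.Hom.comp_appTop, hσ', Scheme.Hom.comp_appTop]
    refine congrArg (fun y => π₀.appTop y) ?_
    exact congr(($(Scheme.ΓSpecIso_inv_naturality χ)).hom y).symm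
  refine pullback_map_eq_of_comb p g σ' σ h w
    (fun i j => toSec R (⊤ : Y'.Opens) (x (i, j))) (fun i j => toSec A (⊤ : Y.Opens) (α i j))
    (fun i j => ?_) v (fun i => ?_) z fun i => (hwi i).symm.trans (congrArg Gσ.map (hα i))
  · rw [hfun, appTop_toSec hsqσ]
    exact congrArg (toSec K (⊤ : Y₀.Opens)) (MvPolynomial.eval₂Hom_X' _ _ _)
  · refine Eq.trans ?_ (hD i)
    rw [← hv, ← Category.assoc, ← Functor.map_comp, Sigma.ι_desc]

end Groth.Misc13.NumTriv
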