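import Groth.Agent.Misc13.NumTriv.Strata
import Groth.Agent.Quot.PushBC
import Groth.Agent.Quot.SquareBC
import Groth.Agent.FlatStrata.Vanish
import Groth.Agent.CohTwo.PushClosed
import Groth.Agent.Inter.PushProper
import Groth.Agent.PnCoh.VanishingClosed

/-!
# Direct images of families along a morphism of proper schemes
-/

set_option autoImplicit false
set_option linter.style.haveILetI false

universe u

open CategoryTheory Limits AlgebraicGeometry TopologicalSpace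
open scoped TensorProduct

namespace Groth.Misc13.NumTriv

open Groth.CohBase hiding res res_res

section Tower

variable {A₀ B₀ A A' : Type u} [CommRing A₀] [CommRing B₀] [CommRing A] [CommRing A'] [Algebra A₀ B₀]
  [Algebra A A'] {U U' : Scheme.{u}} [U.Over (Spec (CommRingCat.of A₀))] [U'.Over (Spec (CommRingCat.of B₀))]
  [U.Over (Spec (CommRingCat.of A))] [U'.Over (Spec (CommRingCat.of A'))] {g : U' ⟶ U}

/-- Base change of global sections over a finer base with a surjective base map. -/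
theorem bcBij_of_bcBij (hsq₀ : IsBC (A := A₀) (A' := B₀) g) (hsq : IsBC (A := A) (A' := A') g)
    (F : U.Modules) (h₀ : Function.Surjective (algebraMap A₀ B₀))
    (h₁ : Function.Surjective (algebraMap A A')) (α : A₀ →+* A) (β : B₀ →+* A')
    (hαβ : ∀ r, β (algebraMap A₀ B₀ r) = algebraMap A A' (α r))
    (hα : ∀ r, toSec A₀ (⊤ : U.Opens) r = toSec A (⊤ : U.Opens) (α r))
    (h : FlatStrata.BCBij hsq₀ F) : FlatStrata.BCBij hsq F := by
  refine ⟨(injective_iff_map_eq_zero _).2 fun z hz => ?_, fun y => ?_⟩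
  · obtain ⟨s, rfl⟩ := TensorProduct.mk_surjective A (secA A F ⊤) A' h₁ z
    have h1 : FlatStrata.bcLin hsq₀ F ⊤ ((1 : B₀) ⊗ₜ (show secA A₀ F ⊤ from s)) = 0 :=
      (FlatStrata.bcLin_one_tmul hsq₀ F ⊤ _).trans
        ((FlatStrata.bcLin_one_tmul hsq F ⊤ s).symm.trans hz)
    have h2 := h.1 (h1.trans (map_zero _).symm)
    let Φ : B₀ ⊗[A₀] secA A₀ F ⊤ →+ A' ⊗[A] secA A F ⊤ :=
      TensorProduct.liftAddHom
        (AddMonoidHom.mk' (fun b => AddMonoidHom.mk'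
            (fun s => β b ⊗ₜ[A] (show secA A F ⊤ from s)) fun x y => TensorProduct.tmul_add _ _ _)
          fun a b => by ext s; exact (congrArg (· ⊗ₜ[A] _) (map_add β a b)).trans (TensorProduct.add_tmul _ _ _))
        fun r b s => by
          change β (r • b) ⊗ₜ[A] (show secA A F ⊤ from s) = β b ⊗ₜ[A] (show secA A F ⊤ from r • s)
          rw [Algebra.smul_def, map_mul, hαβ, ← Algebra.smul_def, TensorProduct.smul_tmul]
          congr 1
          change toSec A (⊤ : U.Opens) (α r) • (show Γ(F, (⊤ : U.Opens)) from s) =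
            toSec A₀ (⊤ : U.Opens) r • (show Γ(F, (⊤ : U.Opens)) from s)
          rw [hα]
    have h3 := congrArg Φ h2
    rw [map_zero] at h3
    change β 1 ⊗ₜ[A] s = 0 at h3
    rwa [map_one] at h3
  · obtain ⟨z, hz⟩ := h.2 y
    obtain ⟨s, rfl⟩ := TensorProduct.mk_surjective A₀ (secA A₀ F ⊤) B₀ h₀ z
    refine ⟨(1 : A') ⊗ₜ (show secA A F ⊤ from s), ?_⟩
    exact (FlatStrata.bcLin_one_tmul hsq F ⊤ _).trans
      ((FlatStrata.bcLin_one_tmul hsq₀ F ⊤ s).symm.trans hz)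

end Tower

variable (k : Type u) [Field k] {X Y : Scheme.{u}} [X.Over (Spec (CommRingCat.of k))]
  [Y.Over (Spec (CommRingCat.of k))] (ψ : Y ⟶ X)
  (hψ : ψ ≫ (X ↘ Spec (CommRingCat.of k)) = Y ↘ Spec (CommRingCat.of k))
  {T : Scheme.{u}} (q : T ⟶ Spec (CommRingCat.of k))

/-- `ψ × 1`. -/
noncomputable def famMap : Pic13.prodK k Y q ⟶ Pic13.prodK k X q :=
  pullback.map _ _ _ _ ψ (𝟙 T) (𝟙 _) (by simp [hψ]) (by simp)

theorem famMap_fst : famMap k ψ hψ q ≫ pullback.fst _ _ = pullback.fst _ _ ≫ ψ := pullback.lift_fst _ _ _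

theorem famMap_snd : famMap k ψ hψ q ≫ pullback.snd _ _ = pullback.snd _ _ :=
  (pullback.lift_snd _ _ _).trans (Category.comp_id _)

theorem isPullback_famMap :
    IsPullback (pullback.fst _ _ : Pic13.prodK k Y q ⟶ Y) (famMap k ψ hψ q) ψ
      (pullback.fst _ _ : Pic13.prodK k X q ⟶ X) := by
  refine IsPullback.of_bot ?_ (famMap_fst k ψ hψ q).symm (IsPullback.of_hasPullback _ _)
  rw [famMap_snd, hψ]
  exact IsPullback.of_hasPullback _ _

theorem slice_famMap (t : Spec (CommRingCat.of k) ⟶ T) (ht : t ≫ q = 𝟙 _) :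
    Pic13.sliceAt k Y q t ht ≫ famMap k ψ hψ q = ψ ≫ Pic13.sliceAt k X q t ht := by
  apply pullback.hom_ext
  · rw [Category.assoc, famMap_fst, Category.assoc, Pic13.sliceAt, Pic13.sliceAt]
    erw [pullback.lift_fst_assoc, pullback.lift_fst]
    rw [Category.id_comp, Category.comp_id]
  · rw [Category.assoc, famMap_snd, Category.assoc, Pic13.sliceAt, Pic13.sliceAt]
    erw [pullback.lift_snd, pullback.lift_snd]
    rw [← Category.assoc, hψ]

theorem isPullback_slice_famMap (t : Spec (CommRingCat.of k) ⟶ T) (ht : t ≫ q = 𝟙 _) :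
    IsPullback (Pic13.sliceAt k Y q t ht) ψ (famMap k ψ hψ q) (Pic13.sliceAt k X q t ht) := by
  refine IsPullback.of_right ?_ (slice_famMap k ψ hψ q t ht) (isPullback_famMap k ψ hψ q)
  rw [show Pic13.sliceAt k Y q t ht ≫ pullback.fst _ _ = 𝟙 Y from pullback.lift_fst _ _ _,
    show Pic13.sliceAt k X q t ht ≫ pullback.fst _ _ = 𝟙 X from pullback.lift_fst _ _ _]
  exact IsPullback.of_horiz_isIso ⟨by simp⟩

variable [IsProper (X ↘ Spec (CommRingCat.of k))] [IsProper (Y ↘ Spec (CommRingCat.of k))]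

include hψ in
theorem isProper_of_comp_over : IsProper ψ := by
  have : IsProper (ψ ≫ (X ↘ Spec (CommRingCat.of k))) := hψ ▸ inferInstance
  exact IsProper.of_comp ψ (X ↘ Spec (CommRingCat.of k))

theorem isProper_famMap : IsProper (famMap k ψ hψ q) :=
  MorphismProperty.of_isPullback (isPullback_famMap k ψ hψ q) (isProper_of_comp_over k ψ hψ)

/-- No higher cohomology over the preimages of the members of an affine cover of `X`. -/
def VanishOn (C : (Pic13.prodK k Y q).Modules) : Prop :=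
  ∀ x : X, ∃ V : X.Opens, IsAffineOpen V ∧ x ∈ V ∧ ∀ p : ℕ, 1 ≤ p → Subsingleton (Coh.HH _
    (C.restrict ((famMap k ψ hψ q) ⁻¹ᵁ ((pullback.fst _ _ : Pic13.prodK k X q ⟶ X) ⁻¹ᵁ V)).ι) p)

end Groth.Misc13.NumTriv

namespace Groth.Misc13.NumTriv

open Groth.CohBase hiding res res_res

variable (k : Type u) [Field k] {X Y : Scheme.{u}} [X.Over (Spec (CommRingCat.of k))]
  [Y.Over (Spec (CommRingCat.of k))] [IsProper (X ↘ Spec (CommRingCat.of k))]
  [IsProper (Y ↘ Spec (CommRingCat.of k))] (ψ : Y ⟶ X)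
  (hψ : ψ ≫ (X ↘ Spec (CommRingCat.of k)) = Y ↘ Spec (CommRingCat.of k))

/-- The fibre of the direct image of a flat family without higher cohomology. -/
theorem isIso_bcSq_push {A : CommRingCat.{u}} [IsNoetherianRing A] (q : Spec A ⟶ Spec (CommRingCat.of k))
    (C : (Pic13.prodK k Y q).Modules) (hC : Coh.IsCoh C)
    (hfl : FlatMod.IsFlatOver (pullback.snd _ _ : Pic13.prodK k Y q ⟶ Spec A) C)
    (hvan : VanishOn k ψ hψ q C) (t : Spec (CommRingCat.of k) ⟶ Spec A) (ht : t ≫ q = 𝟙 _) :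
    IsIso (Quot.bcSq (isPullback_slice_famMap k ψ hψ q t ht).w C) := by
  let Φ := famMap k ψ hψ q
  let pr : Pic13.prodK k X q ⟶ X := pullback.fst _ _
  let pY : Pic13.prodK k Y q ⟶ Spec A := pullback.snd _ _
  let sX := Pic13.sliceAt k X q t ht
  let sY := Pic13.sliceAt k Y q t ht
  have H : IsPullback sY ψ Φ sX := isPullback_slice_famMap k ψ hψ q t ht
  have : IsProper ψ := isProper_of_comp_over k ψ hψ
  have : IsProper Φ := isProper_famMap k ψ hψ q
  have : IsAffineHom pr :=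
    MorphismProperty.of_isPullback (IsPullback.of_hasPullback (X ↘ Spec (CommRingCat.of k)) q).flip inferInstance
  have := hC.1
  have : IsProper pY := isProper_snd k q
  refine Quot.isIso_of_bcBij H C _ (Quot.bcSq_pullSec H.w C) fun x => ?_
  obtain ⟨V₀, hV₀, hx, hvan⟩ := hvan x
  let V := pr ⁻¹ᵁ V₀
  have hV : IsAffineOpen V := hV₀.preimage pr
  have hsX : sX ≫ pr = 𝟙 X := pullback.lift_fst _ _ _
  have heq : sX ⁻¹ᵁ V = V₀ := by
    rw [← Scheme.Hom.comp_preimage, hsX]; rfl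
  have e : V₀ ≤ sX ⁻¹ᵁ V := heq.ge
  have he' : sY ⁻¹ᵁ (Φ ⁻¹ᵁ V) = ψ ⁻¹ᵁ V₀ := by
    rw [← Scheme.Hom.comp_preimage, H.w, Scheme.Hom.comp_preimage, heq]
  refine ⟨V, V₀, hV, hV₀, e, he'.ge, hx, ?_⟩
  letI := QCohMod.sectionsAlg sX e
  intro hsq
  letI instA : ((Φ ⁻¹ᵁ V : (Pic13.prodK k Y q).Opens) : Scheme.{u}).Over (Spec (CommRingCat.of A)) :=
    ⟨(Φ ⁻¹ᵁ V).ι ≫ pY⟩
  letI instk : ((ψ ⁻¹ᵁ V₀ : Y.Opens) : Scheme.{u}).Over (Spec (CommRingCat.of k)) :=
    ⟨(ψ ⁻¹ᵁ V₀).ι ≫ (Y ↘ Spec (CommRingCat.of k))⟩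
  obtain ⟨φ, hφ⟩ : ∃ φ : A ⟶ CommRingCat.of k, Spec.map φ = t := ⟨_, Spec.map_preimage t⟩
  let : Algebra A k := φ.hom.toAlgebra
  let g := sY.resLE (Φ ⁻¹ᵁ V) (ψ ⁻¹ᵁ V₀) he'.ge
  have hb : IsPullback sY (Y ↘ Spec (CommRingCat.of k)) pY t := by
    refine IsPullback.of_right ?_ (pullback.lift_snd _ _ _) (IsPullback.of_hasPullback _ _)
    rw [show sY ≫ pullback.fst _ _ = 𝟙 Y from pullback.lift_fst _ _ _, ht]
    exact IsPullback.of_horiz_isIso ⟨by simp⟩
  have hres : ∀ (U' : Y.Opens) (h : sY ⁻¹ᵁ (Φ ⁻¹ᵁ V) = U'),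
      IsPullback (sY.resLE (Φ ⁻¹ᵁ V) U' h.ge) U'.ι (Φ ⁻¹ᵁ V).ι sY := by
    rintro _ rfl
    rw [Scheme.Hom.resLE_eq_morphismRestrict]
    exact isPullback_morphismRestrict sY _
  have hsq₀ : IsBC (A := A) (A' := k) g := by
    have := (hres _ he').paste_vert hb
    change IsPullback g _ _ (Spec.map φ)
    rw [hφ]
    exact this
  have hfl₀ : FlatMod.IsFlatOver ((Φ ⁻¹ᵁ V).ι ≫ pY) (C.restrict (Φ ⁻¹ᵁ V).ι) := fun z => by
    have hflat : ((Φ ⁻¹ᵁ V).ι.stalkMap z).hom.Flat :=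
      RingHom.Flat.of_bijective (ConcreteCategory.bijective_of_isIso ((Φ ⁻¹ᵁ V).ι.stalkMap z))
    exact (FlatMorOne.isFlatOverAt_congr _
      ((Scheme.Modules.restrictFunctorIsoPullback (Φ ⁻¹ᵁ V).ι).app C).symm z).1
      ((Flatmor4.isFlatOverAt_pullback_iff (Φ ⁻¹ᵁ V).ι pY C z hflat).1 (hfl _))
  have : CompactSpace ((Φ ⁻¹ᵁ V : (Pic13.prodK k Y q).Opens) : Scheme.{u}) :=
    isCompact_iff_compactSpace.mp (Φ.isCompact_preimage hV.isCompact)
  have : IsProper (CohBase.preimageToSpec Φ (V := V)) :=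
    MorphismProperty.of_isPullback (CohBase.isPullback_preimageToSpec Φ hV) ‹IsProper Φ›
  have hsep : ((Φ ⁻¹ᵁ V : (Pic13.prodK k Y q).Opens) : Scheme.{u}).IsSeparated :=
    CohFin.isSeparated_of_proper (CohBase.preimageToSpec Φ (V := V))
  have hbij : FlatStrata.BCBij hsq₀ (C.restrict (Φ ⁻¹ᵁ V).ι) :=
    FlatStrata.bcBij_of_vanish hsq₀ _ hfl₀ fun p hp => hvan p hp
  have hsurj : Function.Surjective (sX.appLE V V₀ e) := fun a => by
    refine ⟨pr.appLE V₀ V le_rfl a, ?_⟩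
    rw [← ConcreteCategory.comp_apply, Scheme.Hom.appLE_comp_appLE]
    have : ∀ (f : X ⟶ X) (hf : f = 𝟙 X) (h : V₀ ≤ f ⁻¹ᵁ V₀), f.appLE V₀ V₀ h a = a := by
      rintro _ rfl h
      simp only [Scheme.Hom.appLE, Scheme.Hom.id_app]
      erw [X.presheaf.map_id, Category.comp_id]
      rfl
    exact this _ hsX _
  have hq : Function.Surjective φ := fun a => ⟨(Spec.preimage q) a, by
    have h1 : Spec.preimage q ≫ φ = 𝟙 _ := Spec.map_injective (by
      rw [Spec.map_comp, hφ, Spec.map_preimage, ht, Spec.map_id])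
    exact congr(($h1).hom a)⟩
  have hsnd : sX ≫ (pullback.snd _ _ : Pic13.prodK k X q ⟶ Spec A) =
      (X ↘ Spec (CommRingCat.of k)) ≫ t := pullback.lift_snd _ _ _
  letI : ((Φ ⁻¹ᵁ V : (Pic13.prodK k Y q).Opens) : Scheme.{u}).Over (Spec (CommRingCat.of Γ(Pic13.prodK k X q, V))) :=
    ⟨CohBase.preimageToSpec Φ⟩
  letI : ((ψ ⁻¹ᵁ V₀ : Y.Opens) : Scheme.{u}).Over (Spec (CommRingCat.of Γ(X, V₀))) :=
    ⟨CohBase.preimageToSpec ψ⟩
  refine bcBij_of_bcBij hsq₀ hsq (C.restrict (Φ ⁻¹ᵁ V).ι) hq hsurj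
    (((pullback.snd _ _ : Pic13.prodK k X q ⟶ Spec A).appLE ⊤ V le_top).hom.comp
      (Scheme.ΓSpecIso A).inv.hom)
    (((X ↘ Spec (CommRingCat.of k)).appLE ⊤ V₀ le_top).hom.comp
      (Scheme.ΓSpecIso (CommRingCat.of k)).inv.hom) (fun r => ?_) (fun r => ?_) hbij
  · change (X ↘ Spec (CommRingCat.of k)).appLE ⊤ V₀ le_top ((Scheme.ΓSpecIso _).inv (φ r)) =
      sX.appLE V V₀ e ((pullback.snd _ _ : Pic13.prodK k X q ⟶ Spec A).appLE ⊤ V le_top
        ((Scheme.ΓSpecIso A).inv r))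
    have h2 : (Scheme.ΓSpecIso (CommRingCat.of k)).inv (φ r) =
        t.appTop ((Scheme.ΓSpecIso A).inv r) := by
      rw [← hφ]
      exact congr(($(Scheme.ΓSpecIso_inv_naturality φ)).hom r)
    rw [h2]
    change (t.appTop ≫ (X ↘ Spec (CommRingCat.of k)).appLE ⊤ V₀ le_top).hom ((Scheme.ΓSpecIso A).inv r) =
      ((pullback.snd _ _ : Pic13.prodK k X q ⟶ Spec A).appLE ⊤ V le_top ≫ sX.appLE V V₀ e).hom
        ((Scheme.ΓSpecIso A).inv r)
    refine congrArg (fun f : Γ(Spec A, ⊤) ⟶ _ => f.hom ((Scheme.ΓSpecIso A).inv r)) ?_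
    rw [show t.appTop = t.appLE ⊤ ⊤ le_top from (Scheme.Hom.appLE_eq_app t).symm]
    have hcong : ∀ (f g : X ⟶ Spec A) (_ : f = g) (h₁ : V₀ ≤ f ⁻¹ᵁ ⊤) (h₂ : V₀ ≤ g ⁻¹ᵁ ⊤),
        f.appLE ⊤ V₀ h₁ = g.appLE ⊤ V₀ h₂ := by rintro f _ rfl _ _; rfl
    erw [Scheme.Hom.appLE_comp_appLE, Scheme.Hom.appLE_comp_appLE]
    exact hcong _ _ hsnd.symm _ _
  · change QCohMod.resFun _ le_rfl (Coh.toGlobal ((Φ ⁻¹ᵁ V).ι ≫ pY) r) =
      QCohMod.resFun _ le_rfl (Coh.toGlobal (preimageToSpec Φ (V := V)) _)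
    rw [FlatStrata.toGlobal_preimageToSpec]
    refine (QCohMod.resFun_self _).trans (Eq.trans ?_ (QCohMod.resFun_self _).symm)
    change ((Φ ⁻¹ᵁ V).ι ≫ pY).appTop ((Scheme.ΓSpecIso A).inv r) = _
    rw [show pY = Φ ≫ pullback.snd _ _ from (famMap_snd k ψ hψ q).symm]
    change _ = ((pullback.snd _ _ : Pic13.prodK k X q ⟶ Spec A).appLE ⊤ V le_top ≫ Φ.app V ≫
      (Φ ⁻¹ᵁ V).topIso.inv) _
    refine congrArg (fun f : Γ(Spec A, ⊤) ⟶ _ => f.hom ((Scheme.ΓSpecIso A).inv r)) ?_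
    rw [Scheme.Hom.comp_appTop, Scheme.Hom.comp_appTop, Scheme.Opens.topIso_inv]
    simp only [Scheme.Hom.appLE, Category.assoc]
    erw [Scheme.Hom.naturality_assoc Φ]
    rw [Scheme.Opens.ι_appTop]
    erw [← (Pic13.prodK k Y q).presheaf.map_comp]
    congr 1

/-- Vanishing is stable under change of an affine parameter scheme. -/
theorem vanishOn_prodMap {A R : CommRingCat.{u}} [IsNoetherianRing A]
    (q : Spec A ⟶ Spec (CommRingCat.of k)) (φ : A ⟶ R) {q' : Spec R ⟶ Spec (CommRingCat.of k)}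
    (he : Spec.map φ ≫ q = q') (C : (Pic13.prodK k Y q).Modules) (hC : Coh.IsCoh C)
    (hfl : FlatMod.IsFlatOver (pullback.snd _ _ : Pic13.prodK k Y q ⟶ Spec A) C)
    (hvan : VanishOn k ψ hψ q C) :
    VanishOn k ψ hψ q' ((Scheme.Modules.pullback (prodMap k Y (Spec.map φ) he)).obj C) := by
  intro x
  obtain ⟨V₀, hV₀, hxV₀, hvan⟩ := hvan x
  refine ⟨V₀, hV₀, hxV₀, fun p hp => ?_⟩
  let Φ := famMap k ψ hψ q
  let Φ' := famMap k ψ hψ q'
  let pr : Pic13.prodK k X q ⟶ X := pullback.fst _ _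
  let g := prodMap k Y (Spec.map φ) he
  let U : (Pic13.prodK k Y q).Opens := Φ ⁻¹ᵁ (pr ⁻¹ᵁ V₀)
  let pY : Pic13.prodK k Y q ⟶ Spec A := pullback.snd _ _
  have : IsProper Φ := isProper_famMap k ψ hψ q
  have : IsAffineHom pr :=
    MorphismProperty.of_isPullback (IsPullback.of_hasPullback (X ↘ Spec (CommRingCat.of k)) q).flip inferInstance
  have hV : IsAffineOpen (pr ⁻¹ᵁ V₀) := hV₀.preimage pr
  have hU : g ⁻¹ᵁ U = Φ' ⁻¹ᵁ ((pullback.fst _ _ : Pic13.prodK k X q' ⟶ X) ⁻¹ᵁ V₀) := by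
    simp only [U, Φ, Φ', pr, g, ← Scheme.Hom.comp_preimage]
    rw [← Category.assoc, show (prodMap k Y (Spec.map φ) he ≫ famMap k ψ hψ q) ≫ pullback.fst _ _ =
      famMap k ψ hψ q' ≫ pullback.fst _ _ by
        rw [Category.assoc, famMap_fst, famMap_fst, ← Category.assoc, prodMap_fst]]
  suffices h : ∀ (U' : (Pic13.prodK k Y q').Opens), g ⁻¹ᵁ U = U' →
      Subsingleton (Coh.HH _ (((Scheme.Modules.pullback g).obj C).restrict U'.ι) p) from h _ hU
  rintro _ rfl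
  let instA : (U : Scheme.{u}).Over (Spec (CommRingCat.of A)) := ⟨U.ι ≫ pY⟩
  let instR : ((g ⁻¹ᵁ U : (Pic13.prodK k Y q').Opens) : Scheme.{u}).Over (Spec (CommRingCat.of R)) :=
    ⟨(g ⁻¹ᵁ U).ι ≫ pullback.snd _ _⟩
  let : Algebra A R := φ.hom.toAlgebra
  let g' : ((g ⁻¹ᵁ U : (Pic13.prodK k Y q').Opens) : Scheme.{u}) ⟶ (U : Scheme.{u}) := g ∣_ U
  have hsq : IsBC (A := A) (A' := R) g' :=
    (isPullback_morphismRestrict g U).paste_vert (isPullback_prodMap k (Spec.map φ) he)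
  have hflU : FlatMod.IsFlatOver (U.ι ≫ pY) (C.restrict U.ι) := fun z => by
    have hflat : (U.ι.stalkMap z).hom.Flat :=
      RingHom.Flat.of_bijective (ConcreteCategory.bijective_of_isIso (U.ι.stalkMap z))
    have := hC.1
    exact (FlatMorOne.isFlatOverAt_congr _
      ((Scheme.Modules.restrictFunctorIsoPullback U.ι).app C).symm z).1
      ((Flatmor4.isFlatOverAt_pullback_iff U.ι pY C z hflat).1 (hfl _))
  have : CompactSpace (U : Scheme.{u}) :=
    isCompact_iff_compactSpace.mp (Φ.isCompact_preimage hV.isCompact)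
  have : IsProper (CohBase.preimageToSpec Φ (V := pr ⁻¹ᵁ V₀)) :=
    MorphismProperty.of_isPullback (CohBase.isPullback_preimageToSpec Φ hV) ‹IsProper Φ›
  have hsep : (U : Scheme.{u}).IsSeparated :=
    CohFin.isSeparated_of_proper (CohBase.preimageToSpec Φ (V := pr ⁻¹ᵁ V₀))
  have := hC.1
  have h := FlatStrata.subsingleton_HH_bc_of_vanish (C.restrict U.ι) hsq hflU
    (fun i hi => hvan i hi) p hp
  refine PnCoh.subsingleton_HH_of_iso ((g ⁻¹ᵁ U).ι ≫ pullback.snd _ _) ?_ h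
  exact (Scheme.Modules.pullback g').mapIso ((Scheme.Modules.restrictFunctorIsoPullback U.ι).app C) ≪≫
    (Scheme.Modules.pullbackComp g' U.ι).app C ≪≫
    (Scheme.Modules.pullbackCongr (morphismRestrict_ι g U)).app C ≪≫
    ((Scheme.Modules.pullbackComp (g ⁻¹ᵁ U).ι g).app C).symm ≪≫
    ((Scheme.Modules.restrictFunctorIsoPullback (g ⁻¹ᵁ U).ι).app ((Scheme.Modules.pullback g).obj C)).symm

/-- The direct image of a family is coherent. -/
theorem isCoh_push_fam {T : Scheme.{u}} (q : T ⟶ Spec (CommRingCat.of k)) [LocallyOfFiniteType q]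
    {C : (Pic13.prodK k Y q).Modules} (hC : Coh.IsCoh C) :
    Coh.IsCoh ((Scheme.Modules.pushforward (famMap k ψ hψ q)).obj C) := by
  have : IsLocallyNoetherian T := LocallyOfFiniteType.isLocallyNoetherian q
  have := isProper_snd k (X := X) q
  have : IsLocallyNoetherian (Pic13.prodK k X q) :=
    LocallyOfFiniteType.isLocallyNoetherian (pullback.snd _ _ : Pic13.prodK k X q ⟶ T)
  have := isProper_famMap k ψ hψ q
  exact Groth.Inter.isCoh_push_proper (famMap k ψ hψ q) hC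

end Groth.Misc13.NumTriv
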