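import Groth.Agent.Quot.SquareBC

/-!
# Transposing morphisms along a commutative square
-/

set_option autoImplicit false

universe u

open CategoryTheory Limits AlgebraicGeometry TopologicalSpace
open Groth.QCohMod (res res_res res_self res_app)
open Groth.PicAux (pullSec pullSec_map pullSec_comp res_pullSec)

namespace Groth.Misc13.NumTriv

variable {X S X' T : Scheme.{u}} {f : X ⟶ S} {φ : T ⟶ S} {f' : X' ⟶ T} {g : X' ⟶ X}

/-- The transpose `φ^* G ⟶ f'_* N` of a morphism `g^* f^* G ⟶ N`. -/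
noncomputable def sqTr (w : g ≫ f = f' ≫ φ) {G : S.Modules} {N : X'.Modules}
    (z : (Scheme.Modules.pullback g).obj ((Scheme.Modules.pullback f).obj G) ⟶ N) :
    (Scheme.Modules.pullback φ).obj G ⟶ (Scheme.Modules.pushforward f').obj N :=
  ((Scheme.Modules.pullbackPushforwardAdjunction φ).homEquiv _ _).symm
    ((Scheme.Modules.pullbackPushforwardAdjunction f).homEquiv _ _
        ((Scheme.Modules.pullbackPushforwardAdjunction g).homEquiv _ _ z) ≫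
      (Scheme.Modules.pushforwardComp g f).hom.app _ ≫
      (Scheme.Modules.pushforwardCongr w).hom.app _ ≫
      (Scheme.Modules.pushforwardComp f' φ).inv.app _)

theorem sqTr_bijective (w : g ≫ f = f' ≫ φ) (G : S.Modules) (N : X'.Modules) :
    Function.Bijective (sqTr w (G := G) (N := N)) := by
  have h : sqTr w (G := G) (N := N) =
      ((Scheme.Modules.pullbackPushforwardAdjunction φ).homEquiv _ _).symm ∘
      (fun a => a ≫ (Scheme.Modules.pushforwardComp g f).hom.app _ ≫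
        (Scheme.Modules.pushforwardCongr w).hom.app _ ≫
        (Scheme.Modules.pushforwardComp f' φ).inv.app _) ∘
      ((Scheme.Modules.pullbackPushforwardAdjunction f).homEquiv _ _) ∘
      ((Scheme.Modules.pullbackPushforwardAdjunction g).homEquiv _ _) := rfl
  rw [h]
  refine (Equiv.bijective _).comp ((?_ : Function.Bijective _).comp
    ((Equiv.bijective _).comp (Equiv.bijective _)))
  refine Function.bijective_iff_has_inverse.2 ⟨fun a => a ≫ (Scheme.Modules.pushforwardComp f' φ).hom.app _ ≫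
    (Scheme.Modules.pushforwardCongr w).inv.app _ ≫ (Scheme.Modules.pushforwardComp g f).inv.app _,
    fun a => by simp, fun a => by simp⟩

/-- The transpose on pulled back sections. -/
theorem sqTr_pullSec (w : g ≫ f = f' ≫ φ) {G : S.Modules} {N : X'.Modules}
    (z : (Scheme.Modules.pullback g).obj ((Scheme.Modules.pullback f).obj G) ⟶ N)
    (V : S.Opens) (m : Γ(G, V)) (hle : f' ⁻¹ᵁ (φ ⁻¹ᵁ V) ≤ g ⁻¹ᵁ (f ⁻¹ᵁ V)) :
    (sqTr w z).app (φ ⁻¹ᵁ V) (pullSec φ G m) =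
      (res N hle (z.app (g ⁻¹ᵁ (f ⁻¹ᵁ V)) (pullSec g _ (pullSec f G m))) :
        Γ(N, f' ⁻¹ᵁ (φ ⁻¹ᵁ V))) := by
  have h := ((Scheme.Modules.pullbackPushforwardAdjunction φ).homEquiv _ _).apply_symm_apply
    ((Scheme.Modules.pullbackPushforwardAdjunction f).homEquiv _ _
        ((Scheme.Modules.pullbackPushforwardAdjunction g).homEquiv _ _ z) ≫
      (Scheme.Modules.pushforwardComp g f).hom.app _ ≫
      (Scheme.Modules.pushforwardCongr w).hom.app _ ≫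
      (Scheme.Modules.pushforwardComp f' φ).inv.app _)
  rw [Adjunction.homEquiv_unit] at h
  refine (congr(($h).app V m)).trans ?_
  rfl

variable {T₂ X₂ : Scheme.{u}} {φ₂ : T₂ ⟶ T} {f₂ : X₂ ⟶ T₂} {g₂ : X₂ ⟶ X'}

/-- The transpose of pasted squares. -/
theorem pullback_map_sqTr (w : g ≫ f = f' ≫ φ) (w₂ : g₂ ≫ f' = f₂ ≫ φ₂) {g' : X₂ ⟶ X}
    (hg : g₂ ≫ g = g') {φ' : T₂ ⟶ S} (hφ : φ₂ ≫ φ = φ') (w' : g' ≫ f = f₂ ≫ φ')
    {G : S.Modules} {C : X.Modules}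
    (v : (Scheme.Modules.pullback g).obj ((Scheme.Modules.pullback f).obj G) ⟶
      (Scheme.Modules.pullback g).obj C)
    (z : (Scheme.Modules.pullback g').obj ((Scheme.Modules.pullback f).obj G) ⟶
      (Scheme.Modules.pullback g').obj C)
    (hvz : (Scheme.Modules.pullback g₂).map v ≫
        (Scheme.Modules.pullbackComp g₂ g ≪≫ Scheme.Modules.pullbackCongr hg).hom.app C =
      (Scheme.Modules.pullbackComp g₂ g ≪≫ Scheme.Modules.pullbackCongr hg).hom.app _ ≫ z) :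
    (Scheme.Modules.pullback φ₂).map (sqTr w v) ≫
        Quot.bcSq w₂ ((Scheme.Modules.pullback g).obj C) ≫
        (Scheme.Modules.pushforward f₂).map
          ((Scheme.Modules.pullbackComp g₂ g ≪≫ Scheme.Modules.pullbackCongr hg).hom.app C) =
      (Scheme.Modules.pullbackComp φ₂ φ ≪≫ Scheme.Modules.pullbackCongr hφ).hom.app G ≫
        sqTr w' z := by
  subst hg hφ
  rw [← cancel_epi ((Scheme.Modules.pullbackComp φ₂ φ).inv.app G)]
  conv_rhs => simp [Scheme.Modules.pullbackCongr]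
  refine ((Scheme.Modules.pullbackPushforwardAdjunction (φ₂ ≫ φ)).homEquiv _ _).injective ?_
  ext V m
  simp only [Adjunction.homEquiv_unit]
  let β := Scheme.Modules.pullbackComp g₂ g ≪≫ Scheme.Modules.pullbackCongr (rfl : g₂ ≫ g = _)
  let γ := Scheme.Modules.pullbackComp φ₂ φ
  have hγ : (γ.inv.app G).app ((φ₂ ≫ φ) ⁻¹ᵁ V) (pullSec (φ₂ ≫ φ) G m) =
      (pullSec φ₂ _ (pullSec φ G m) :
        Γ((Scheme.Modules.pullback φ₂).obj ((Scheme.Modules.pullback φ).obj G), φ₂ ⁻¹ᵁ (φ ⁻¹ᵁ V))) := by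
    rw [← pullSec_comp φ₂ φ G m]
    exact congr(($(Iso.hom_inv_id_app γ G)).app (φ₂ ⁻¹ᵁ (φ ⁻¹ᵁ V)) (pullSec φ₂ _ (pullSec φ G m)))
  let a := pullSec g _ (pullSec f G m)
  let b : Γ((Scheme.Modules.pullback g).obj C, g ⁻¹ᵁ (f ⁻¹ᵁ V)) := v.app _ a
  have h1 : ((Scheme.Modules.pullback φ₂).map (sqTr w v)).app (φ₂ ⁻¹ᵁ (φ ⁻¹ᵁ V))
      (pullSec φ₂ _ (pullSec φ G m)) =
      pullSec φ₂ _ (show Γ((Scheme.Modules.pushforward f').obj ((Scheme.Modules.pullback g).obj C),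
        φ ⁻¹ᵁ V) from res _ (Quot.preimage_sq_le w V) b) :=
    (pullSec_map φ₂ (sqTr w v) _).trans (congrArg _ (sqTr_pullSec w v V m _))
  have h2 : (Quot.bcSq w₂ ((Scheme.Modules.pullback g).obj C)).app (φ₂ ⁻¹ᵁ (φ ⁻¹ᵁ V))
      (pullSec φ₂ _ (show Γ((Scheme.Modules.pushforward f').obj ((Scheme.Modules.pullback g).obj C),
        φ ⁻¹ᵁ V) from res _ (Quot.preimage_sq_le w V) b)) =
      (res _ (Quot.preimage_sq_le w' V) (pullSec g₂ _ b) :
        Γ((Scheme.Modules.pullback g₂).obj ((Scheme.Modules.pullback g).obj C),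
          f₂ ⁻¹ᵁ (φ₂ ⁻¹ᵁ (φ ⁻¹ᵁ V)))) := by
    refine (Quot.bcSq_pullSec w₂ _ _ _ (Quot.preimage_sq_le w₂ _)).trans ?_
    exact (congrArg (res _ _) (res_pullSec g₂ _ (Quot.preimage_sq_le w V) b).symm).trans (res_res _ _ _ _)
  have hv : ((Scheme.Modules.pullback g₂).map v).app _ (pullSec g₂ _ a) = pullSec g₂ _ b :=
    pullSec_map g₂ v a
  have h3 : (β.hom.app C).app (g₂ ⁻¹ᵁ (g ⁻¹ᵁ (f ⁻¹ᵁ V))) (pullSec g₂ _ b) =
      z.app _ (pullSec (g₂ ≫ g) _ (pullSec f G m)) := by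
    rw [← hv]
    refine (congr(($hvz).app (g₂ ⁻¹ᵁ (g ⁻¹ᵁ (f ⁻¹ᵁ V))) (pullSec g₂ _ a))).trans ?_
    refine congrArg (z.app _) ?_
    exact pullSec_comp g₂ g ((Scheme.Modules.pullback f).obj G) (pullSec f G m)
  refine Eq.trans ?_ (sqTr_pullSec w' z V m (Quot.preimage_sq_le w' V)).symm
  change ((Scheme.Modules.pushforward f₂).map (β.hom.app C)).app (φ₂ ⁻¹ᵁ (φ ⁻¹ᵁ V))
    ((Quot.bcSq w₂ ((Scheme.Modules.pullback g).obj C)).app (φ₂ ⁻¹ᵁ (φ ⁻¹ᵁ V))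
      (((Scheme.Modules.pullback φ₂).map (sqTr w v)).app (φ₂ ⁻¹ᵁ (φ ⁻¹ᵁ V))
        ((γ.inv.app G).app ((φ₂ ≫ φ) ⁻¹ᵁ V) (pullSec (φ₂ ≫ φ) G m)))) = _
  refine (congrArg (fun y => ((Scheme.Modules.pushforward f₂).map (β.hom.app C)).app (φ₂ ⁻¹ᵁ (φ ⁻¹ᵁ V))
    ((Quot.bcSq w₂ ((Scheme.Modules.pullback g).obj C)).app (φ₂ ⁻¹ᵁ (φ ⁻¹ᵁ V))
      (((Scheme.Modules.pullback φ₂).map (sqTr w v)).app (φ₂ ⁻¹ᵁ (φ ⁻¹ᵁ V)) y))) hγ).trans ?_
  refine (congrArg (fun y => ((Scheme.Modules.pushforward f₂).map (β.hom.app C)).app (φ₂ ⁻¹ᵁ (φ ⁻¹ᵁ V))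
    ((Quot.bcSq w₂ ((Scheme.Modules.pullback g).obj C)).app (φ₂ ⁻¹ᵁ (φ ⁻¹ᵁ V)) y)) h1).trans ?_
  refine (congrArg (fun y => ((Scheme.Modules.pushforward f₂).map (β.hom.app C)).app
    (φ₂ ⁻¹ᵁ (φ ⁻¹ᵁ V)) y) h2).trans ?_
  exact (res_app (β.hom.app C) (Quot.preimage_sq_le w' V) (pullSec g₂ _ b)).symm.trans (congrArg _ h3)

end Groth.Misc13.NumTriv
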