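import Groth.Agent.Misc13.NumTriv.KerFam
import Groth.Agent.Misc13.NumTriv.Push
import Groth.Agent.Misc13.NumTriv.SqTr
import Groth.Agent.Misc13.NumTriv.HomFam

/-!
# Kernels of all morphisms into the direct image of a family
-/

set_option autoImplicit false
set_option linter.style.haveILetI false

universe u

open CategoryTheory Limits AlgebraicGeometry TopologicalSpace

namespace Groth.Misc13.NumTriv

variable (k : Type u) [Field k] {X Y : Scheme.{u}} [X.Over (Spec (CommRingCat.of k))]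
  [Y.Over (Spec (CommRingCat.of k))] [IsProper (X ↘ Spec (CommRingCat.of k))]
  [IsProper (Y ↘ Spec (CommRingCat.of k))] (ψ : Y ⟶ X)
  (hψ : ψ ≫ (X ↘ Spec (CommRingCat.of k)) = Y ↘ Spec (CommRingCat.of k))

/-- The invertible kernels of all morphisms from the fibres of a coherent family to the direct
images of the fibres of a flat family without higher cohomology. -/
theorem covered_hom_kernels {Amp : Y.Modules} (hAmp : CohB1.IsAmple Amp) {A : CommRingCat.{u}}
    [IsNoetherianRing A] (q : Spec A ⟶ Spec (CommRingCat.of k)) [LocallyOfFiniteType q]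
    (G : (Pic13.prodK k X q).Modules) (hG : Coh.IsCoh G) (C : (Pic13.prodK k Y q).Modules)
    (hC : Coh.IsCoh C) (hfl : FlatMod.IsFlatOver (pullback.snd _ _ : Pic13.prodK k Y q ⟶ Spec A) C)
    (hvan : VanishOn k ψ hψ q C) :
    Covered k fun i : Σ t : RatPt k q, Pic13.fibreMod k X q t.1 t.2 G ⟶
        (Scheme.Modules.pushforward ψ).obj (Pic13.fibreMod k Y q t.1 t.2 C) => kernel i.2 := by
  let pr : Pic13.prodK k Y q ⟶ Y := pullback.fst _ _
  have : IsAffineHom q := inferInstance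
  have : IsAffineHom pr :=
    MorphismProperty.of_isPullback (IsPullback.of_hasPullback (Y ↘ Spec (CommRingCat.of k)) q).flip
      inferInstance
  have := isProper_snd k (X := Y) q
  obtain ⟨R, φ, hφ, hpar⟩ := exists_hom_param (pullback.snd _ _ : Pic13.prodK k Y q ⟶ Spec A)
    (Chow.isAmple_pullback_of_isAffineHom pr hAmp)
    (FlatStrata.isCoh_pullback (famMap k ψ hψ q) hG) hC hfl
  let e : Spec R ⟶ Spec A := Spec.map φ
  have : LocallyOfFiniteType e := (HasRingHomProperty.Spec_iff (P := @LocallyOfFiniteType)).2 hφ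
  let : Algebra A R := φ.hom.toAlgebra
  have : Algebra.FiniteType A R := hφ
  have : IsNoetherianRing R := Algebra.FiniteType.isNoetherianRing A R
  let gY := prodMap k Y e (rfl : e ≫ q = e ≫ q)
  let gX := prodMap k X e (rfl : e ≫ q = e ≫ q)
  have w : gY ≫ famMap k ψ hψ q = famMap k ψ hψ (e ≫ q) ≫ gX := by
    apply pullback.hom_ext
    · rw [Category.assoc, Category.assoc, famMap_fst, prodMap_fst, famMap_fst, ← Category.assoc,
        prodMap_fst]
    · rw [Category.assoc, Category.assoc, famMap_snd, prodMap_snd, prodMap_snd, ← Category.assoc,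
        famMap_snd]
  obtain ⟨v, hv⟩ := hpar gY (pullback.snd _ _) (isPullback_prodMap k e rfl)
  obtain ⟨S, hS, hmem⟩ := covered_kernels k (e ≫ q) (FlatStrata.isCoh_pullback gX hG)
    (isCoh_push_fam k ψ hψ (e ≫ q) (FlatStrata.isCoh_pullback gY hC)) (sqTr w v)
  refine ⟨S, hS, fun i hinv => ?_⟩
  obtain ⟨⟨t, ht⟩, u⟩ := i
  obtain ⟨z, hz⟩ := (sqTr_bijective (isPullback_slice_famMap k ψ hψ q t ht).w G
    (Pic13.fibreMod k Y q t ht C)).2 u
  obtain ⟨κ, hκ⟩ : ∃ κ : A ⟶ CommRingCat.of k, Spec.map κ = t := ⟨_, Spec.map_preimage t⟩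
  have hκs : Function.Surjective κ := fun a => ⟨(Spec.preimage q) a, by
    have h1 : Spec.preimage q ≫ κ = 𝟙 _ := Spec.map_injective (by
      rw [Spec.map_comp, hκ, Spec.map_preimage, ht, Spec.map_id])
    exact congr(($h1).hom a)⟩
  obtain ⟨χ, hχ, hfib⟩ := hv κ hκs (Pic13.sliceAt k Y q t ht) (Y ↘ Spec (CommRingCat.of k))
    (by rw [hκ]; exact isPullback_sliceAt k q t ht) z
  let t' : Spec (CommRingCat.of k) ⟶ Spec R := Spec.map χ
  have hte : t' ≫ e = t := by rw [← Spec.map_comp, hχ, hκ]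
  have ht' : t' ≫ e ≫ q = 𝟙 _ := by rw [reassoc_of% hte, ht]
  have hsY := slice_prodMap k (X := Y) e (rfl : e ≫ q = e ≫ q) ht ht' hte
  have hsX := slice_prodMap k (X := X) e (rfl : e ≫ q = e ≫ q) ht ht' hte
  have H := pullback_map_sqTr w (isPullback_slice_famMap k ψ hψ (e ≫ q) t' ht').w hsY hsX
    (isPullback_slice_famMap k ψ hψ q t ht).w v z (hfib _ hsY (pullback.lift_snd _ _ _))
  have := isIso_bcSq_push k ψ hψ (e ≫ q) _ (FlatStrata.isCoh_pullback gY hC)
    (by have := hC.1; exact isFlatOver_prodMap k e rfl C hfl)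
    (vanishOn_prodMap k ψ hψ q φ rfl C hC hfl hvan) t' ht'
  replace H := H.trans (congrArg (_ ≫ ·) hz)
  let e₁ := (kernelCompMono ((Scheme.Modules.pullback (Pic13.sliceAt k X (e ≫ q) t' ht')).map (sqTr w v))
    (Quot.bcSq (isPullback_slice_famMap k ψ hψ (e ≫ q) t' ht').w ((Scheme.Modules.pullback gY).obj C) ≫
      (Scheme.Modules.pushforward ψ).map
        ((Scheme.Modules.pullbackComp _ gY ≪≫ Scheme.Modules.pullbackCongr hsY).hom.app C))).symm ≪≫
    kernelIsoOfEq H ≪≫ @kernelIsIsoComp _ _ _ _ _ _ _ u ((Scheme.Modules.pullbackComp _ gX ≪≫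
      Scheme.Modules.pullbackCongr hsX).app G).isIso_hom _
  obtain ⟨P, hP, hH⟩ := hmem ⟨t', ht'⟩ (PicAux.isInvertible_of_iso hinv e₁.symm)
  exact ⟨P, hP, hH.of_iso k e₁⟩

end Groth.Misc13.NumTriv
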