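import Groth.Agent.Calg5.FibrewiseInvertible
import Groth.Agent.LocFree.Affine
import Groth.Agent.LocFree.Rank
import Groth.Agent.QCohMod.Pullback
import Groth.Agent.QCohMod.Coherent
import Groth.Agent.RefRank.Stalk
import Groth.Agent.Ega2Proj.RelAmple
import Groth.Agent.S9501

/-!
# The locus where a coherent module is invertible
-/

set_option autoImplicit false
set_option linter.style.haveILetI false

universe u

open CategoryTheory Limits AlgebraicGeometry TopologicalSpace TensorProduct

namespace Groth.Misc13.NumTriv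

variable {X : Scheme.{u}}

/-- The stalk is free of rank one. -/
def InvAt (G : X.Modules) (x : X) : Prop :=
  Nonempty (G.presheaf.stalk x ≃ₗ[X.presheaf.stalk x] X.presheaf.stalk x)

theorem invAt_of_isInvertible {G : X.Modules} (h : PicF.IsInvertible G) (x : X) : InvAt G x := by
  have h1 := LocFree.isInvertible_iff_ofRank_one.1 h
  have := KTheory.LocFree.isQCoh (LocFree.isFinLocFree_of_rank h1)
  obtain ⟨U, s, hx, hs⟩ := LocFree.isFinLocFreeOfRank_iff.1 h1 x
  obtain ⟨b⟩ := LocFree.nonempty_stalk_basis hs hx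
  exact ⟨b.equivFun.trans (LinearEquiv.funUnique (Fin 1) _ _)⟩

/-- A coherent module which is free of rank one at a point is invertible near it. -/
theorem exists_open_of_invAt [IsLocallyNoetherian X] {G : X.Modules} (hG : Coh.IsCoh G) {x : X}
    (h : InvAt G x) : ∃ V : X.Opens, x ∈ V ∧ PicF.IsInvertible (G.restrict V.ι) := by
  haveI := hG.1
  obtain ⟨e⟩ := h
  obtain ⟨_, ⟨U, hU, rfl⟩, hxU, -⟩ := X.isBasis_affineOpens.exists_subset_of_mem_open
    (Set.mem_univ x) isOpen_univ
  have : IsNoetherianRing Γ(X, U) := IsLocallyNoetherian.component_noetherian ⟨U, hU⟩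
  have : Module.Finite Γ(X, U) Γ(G, U) := ((QCohMod.isCoh_iff G).1 hG).2 U hU
  have : Module.FinitePresentation Γ(X, U) Γ(G, U) := Module.finitePresentation_of_finite _ _
  have : Module.Free (X.presheaf.stalk x) (G.presheaf.stalk x) := Module.Free.of_equiv e.symm
  obtain ⟨g, n, m, hg, -, hm⟩ := LocFree.exists_basis_of_free_stalk (M := G) hU hxU
  obtain rfl : n = 1 := by
    rw [← LocFree.finrank_stalk_of_basis hm hg, e.finrank_eq, Module.finrank_self]
  obtain ⟨e'⟩ := LocFree.nonempty_iso_of_basis hm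
  exact ⟨X.basicOpen g, hg, LocFree.isInvertible_iff_ofRank_one.2
    (LocFree.isFinLocFreeOfRank_of_iso e'.symm (LocFree.isFinLocFreeOfRank_freeMod _ 1))⟩

/-- The largest open on which `G` is invertible. -/
def invLocus (G : X.Modules) : X.Opens :=
  sSup {V : X.Opens | PicF.IsInvertible (G.restrict V.ι)}

theorem isInvertible_restrict_le {G : X.Modules} {V W : X.Opens} (hVW : V ≤ W)
    (h : PicF.IsInvertible (G.restrict W.ι)) : PicF.IsInvertible (G.restrict V.ι) :=
  PicAux.isInvertible_of_iso (Ega2Proj.isInvertible_restrict (X.homOfLE hVW) h)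
    ((Ega2Proj.restrictRestrictIso (X.homOfLE hVW) W.ι G).symm ≪≫
      (Scheme.Modules.restrictFunctorCongr (X.homOfLE_ι hVW)).app G)

theorem isInvertible_invLocus (G : X.Modules) : PicF.IsInvertible (G.restrict (invLocus G).ι) := by
  refine Ega2Proj.isInvertible_of_cover fun w => ?_
  obtain ⟨V', hV, hwV⟩ := Opens.mem_sSup.1 w.2
  let V : X.Opens := V'
  refine ⟨(invLocus G).ι ⁻¹ᵁ V, hwV, ?_⟩
  let j := IsOpenImmersion.lift V.ι (((invLocus G).ι ⁻¹ᵁ V).ι ≫ (invLocus G).ι) (by
    rintro _ ⟨z, rfl⟩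
    rw [Scheme.Opens.range_ι]
    exact z.2)
  have hj : j ≫ V.ι = ((invLocus G).ι ⁻¹ᵁ V).ι ≫ (invLocus G).ι := IsOpenImmersion.lift_fac _ _ _
  haveI : IsOpenImmersion (j ≫ V.ι) := by rw [hj]; infer_instance
  haveI : IsOpenImmersion j := IsOpenImmersion.of_comp j V.ι
  exact PicAux.isInvertible_of_iso (Ega2Proj.isInvertible_restrict j hV)
    ((Ega2Proj.restrictRestrictIso j V.ι G).symm ≪≫ (Scheme.Modules.restrictFunctorCongr hj).app G ≪≫
      Ega2Proj.restrictRestrictIso _ (invLocus G).ι G)

variable {S : Scheme.{u}} (π : X ⟶ S) [IsLocallyNoetherian X]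

/-- A flat coherent module which is free of rank one at a point of a fibre is so on the total space. -/
theorem invAt_of_fibre [Flat π] {G : X.Modules} (hG : Coh.IsCoh G) (hfl : FlatMod.IsFlatOver π G)
    (y : S) (z : π.fiber y) (h : InvAt ((Scheme.Modules.pullback (π.fiberι y)).obj G) z) :
    InvAt G (π.fiberι y z) := by
  haveI := hG.1
  obtain ⟨hsurj, hker⟩ := Groth.Agent.S9501.result π y z
  obtain ⟨e⟩ := h
  set g := π.fiberι y with hg
  let R := S.presheaf.stalk (π (g z))
  let A := X.presheaf.stalk (g z)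
  let N := G.presheaf.stalk (g z)
  let O' := (π.fiber y).presheaf.stalk z
  letI : Algebra R A := (π.stalkMap (g z)).hom.toAlgebra
  letI : Module R N := FlatMod.moduleStalkOver π G (g z)
  haveI : IsScalarTower R A N := .of_algebraMap_smul fun _ _ => rfl
  haveI : IsLocalHom (algebraMap R A) := inferInstanceAs (IsLocalHom (π.stalkMap (g z)).hom)
  haveI : Module.Flat R N := hfl (g z)
  haveI : Module.Finite A N := RefRank.finite_stalkModule hG (g z)
  letI : Algebra A O' := QCohMod.stalkAlg g z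
  have hs : Function.Surjective (algebraMap A O') := hsurj
  let ν : O' ⊗[A] N ≃ₗ[O'] O' := (QCohMod.pullStalkEquiv g G z).trans e
  have hJ : RingHom.ker (Algebra.ofId A O') =
      (IsLocalRing.maximalIdeal R).map (algebraMap R A) := hker
  let q : (A ⧸ (IsLocalRing.maximalIdeal R).map (algebraMap R A)) ≃ₐ[A] O' :=
    (Ideal.quotientEquivAlgOfEq A hJ.symm).trans
      (Ideal.quotientKerAlgEquivOfSurjective (f := Algebra.ofId A O') hs)
  let ε : ((A ⧸ (IsLocalRing.maximalIdeal R).map (algebraMap R A)) ⊗[A] N) ≃ₗ[A]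
      (A ⧸ (IsLocalRing.maximalIdeal R).map (algebraMap R A)) :=
    ((TensorProduct.congr q.toLinearEquiv (LinearEquiv.refl A N)).trans (ν.restrictScalars A)).trans
      q.toLinearEquiv.symm
  haveI : Module.Invertible (A ⧸ (IsLocalRing.maximalIdeal R).map (algebraMap R A))
      ((A ⧸ (IsLocalRing.maximalIdeal R).map (algebraMap R A)) ⊗[A] N) :=
    Module.Invertible.congr (ε.extendScalarsOfSurjective Ideal.Quotient.mk_surjective).symm
  exact Calg5.FibrewiseInvertible.exists_equiv_of_local R

/-- A flat coherent module which is invertible on a fibre is invertible over a neighbourhood. -/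
theorem exists_open_base [IsProper π] [Flat π] {G : X.Modules} (hG : Coh.IsCoh G)
    (hfl : FlatMod.IsFlatOver π G) (y : S)
    (h : PicF.IsInvertible ((Scheme.Modules.pullback (π.fiberι y)).obj G)) :
    ∃ U : S.Opens, y ∈ U ∧ PicF.IsInvertible (G.restrict (π ⁻¹ᵁ U).ι) := by
  let C : Set X := (invLocus G : Set X)ᶜ
  have hC : IsClosed (π '' C) := π.isClosedMap _ (invLocus G).2.isClosed_compl
  refine ⟨⟨(π '' C)ᶜ, hC.isOpen_compl⟩, ?_, ?_⟩
  · rintro ⟨x, hx, hxy⟩
    obtain ⟨z, rfl⟩ : x ∈ Set.range (π.fiberι y) := by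
      rw [Scheme.Hom.range_fiberι]; exact hxy
    obtain ⟨V, hV, hinv⟩ := exists_open_of_invAt hG
      (invAt_of_fibre π hG hfl y z (invAt_of_isInvertible h z))
    exact hx (Opens.mem_sSup.2 ⟨V, hinv, hV⟩)
  · refine isInvertible_restrict_le (fun x hx => ?_) (isInvertible_invLocus G)
    by_contra hn
    exact hx ⟨x, hn, rfl⟩

end Groth.Misc13.NumTriv
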