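import Groth.Agent.Misc13.NumTriv.InvLocus
import Groth.Agent.FlatStrata.Main
import Groth.Agent.Inter.EulerFamily
import Groth.Agent.Chow.AmpleComp
import Groth.Agent.Misc3Fib.Basic
import Groth.Agent.PropsBasic2.LocNoeth
import Groth.Agent.Pic13Aux.BoundedRegular

/-!
# A bounded family of invertible modules lies in finitely many connected families of invertible modules
-/

set_option autoImplicit false
set_option linter.style.haveILetI false

universe u

open CategoryTheory Limits AlgebraicGeometry TopologicalSpace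

namespace Groth.Misc13.NumTriv

variable (k : Type u) [Field k] {X : Scheme.{u}} [X.Over (Spec (CommRingCat.of k))]

/-- A connected family of invertible modules on `X`. -/
structure Piece (k : Type u) [Field k] (X : Scheme.{u}) [X.Over (Spec (CommRingCat.of k))] :
    Type (u + 1) where
  W : Scheme.{u}
  q : W ⟶ Spec (CommRingCat.of k)
  conn : ConnectedSpace W
  lft : LocallyOfFiniteType q
  qc : QuasiCompact q
  M : (Pic13.prodK k X q).Modules
  inv : PicF.IsInvertible M

/-- The module is a member of the connected family. -/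
def Piece.Has {k : Type u} [Field k] {X : Scheme.{u}} [X.Over (Spec (CommRingCat.of k))]
    (P : Piece k X) (L : X.Modules) : Prop :=
  ∃ (t : Spec (CommRingCat.of k) ⟶ P.W) (ht : t ≫ P.q = 𝟙 _), Nonempty (Pic13.fibreMod k X P.q t ht P.M ≅ L)

/-- A rational point has residue field `k`. -/
theorem fromSpecResidueField_comp {T : Scheme.{u}} (q : T ⟶ Spec (CommRingCat.of k))
    (t : Spec (CommRingCat.of k) ⟶ T) (ht : t ≫ q = 𝟙 _) :
    T.fromSpecResidueField (t (IsLocalRing.closedPoint k)) ≫ q ≫ t =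
      T.fromSpecResidueField (t (IsLocalRing.closedPoint k)) := by
  let y := t (IsLocalRing.closedPoint k)
  let ι : T.residueField y ⟶ CommRingCat.of k := T.descResidueField (Scheme.stalkClosedPointTo t)
  have hσ : Spec.map ι ≫ T.fromSpecResidueField y = t :=
    Scheme.descResidueField_stalkClosedPointTo_fromSpecResidueField k T t
  obtain ⟨c, hc⟩ : ∃ c : CommRingCat.of k ⟶ T.residueField y,
      Spec.map c = T.fromSpecResidueField y ≫ q := ⟨_, Spec.map_preimage _⟩
  have hcι : c ≫ ι = 𝟙 _ := by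
    apply Spec.map_injective
    rw [Spec.map_comp, hc, reassoc_of% hσ, ht, Spec.map_id]
  have hιc : ι ≫ c = 𝟙 _ := by
    ext a
    apply ι.hom.injective
    exact congrArg (fun f => f.hom (ι a)) hcι
  calc T.fromSpecResidueField y ≫ q ≫ t = Spec.map c ≫ Spec.map ι ≫ T.fromSpecResidueField y := by
        rw [hσ, hc, Category.assoc]
    _ = T.fromSpecResidueField y := by rw [← Spec.map_comp_assoc, hιc, Spec.map_id, Category.id_comp]

/-- The fibre at a rational point of an invertible fibre module is invertible. -/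
theorem isInvertible_fiber {T : Scheme.{u}} (q : T ⟶ Spec (CommRingCat.of k))
    (t : Spec (CommRingCat.of k) ⟶ T) (ht : t ≫ q = 𝟙 _) (G : (Pic13.prodK k X q).Modules)
    (h : PicF.IsInvertible (Pic13.fibreMod k X q t ht G)) :
    PicF.IsInvertible ((Scheme.Modules.pullback
      ((pullback.snd _ _ : Pic13.prodK k X q ⟶ T).fiberι (t (IsLocalRing.closedPoint k)))).obj G) := by
  let π : Pic13.prodK k X q ⟶ T := pullback.snd _ _
  let y := t (IsLocalRing.closedPoint k)
  let φ : π.fiber y ⟶ X := π.fiberι y ≫ pullback.fst _ _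
  have hfib : π.fiberι y ≫ π = π.fiberToSpecResidueField y ≫ T.fromSpecResidueField y :=
    pullback.condition
  have hφ : φ ≫ Pic13.sliceAt k X q t ht = π.fiberι y := by
    apply pullback.hom_ext
    · rw [Category.assoc, Pic13.sliceAt]
      erw [pullback.lift_fst, Category.comp_id]
    · rw [Category.assoc, Pic13.sliceAt]
      erw [pullback.lift_snd]
      change (π.fiberι y ≫ pullback.fst _ _) ≫ (X ↘ Spec (CommRingCat.of k)) ≫ t = π.fiberι y ≫ π
      rw [Category.assoc, pullback.condition_assoc]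
      change π.fiberι y ≫ π ≫ q ≫ t = _
      rw [reassoc_of% hfib, fromSpecResidueField_comp k q t ht, hfib]
  exact PicAux.isInvertible_of_iso (PicAux.isInvertible_pullback φ h)
    ((Scheme.Modules.pullbackComp _ _).app G ≪≫ (Scheme.Modules.pullbackCongr hφ).app G)

variable [IsProper (X ↘ Spec (CommRingCat.of k))]

/-- A flat family: finitely many connected pieces of its invertible locus. -/
theorem exists_pieces_flat {T : Scheme.{u}} (q : T ⟶ Spec (CommRingCat.of k)) [LocallyOfFiniteType q]
    [QuasiCompact q] (G : (Pic13.prodK k X q).Modules) (hG : Coh.IsCoh G)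
    (hfl : FlatMod.IsFlatOver (pullback.snd _ _ : Pic13.prodK k X q ⟶ T) G) :
    ∃ s : Set (Piece k X), s.Finite ∧
      ∀ (t : Spec (CommRingCat.of k) ⟶ T) (ht : t ≫ q = 𝟙 _),
        PicF.IsInvertible (Pic13.fibreMod k X q t ht G) →
          ∃ P ∈ s, Piece.Has P (Pic13.fibreMod k X q t ht G) := by
  let π : Pic13.prodK k X q ⟶ T := pullback.snd _ _
  have hsqπ : IsPullback (pullback.fst _ _ : Pic13.prodK k X q ⟶ X) π (X ↘ Spec (CommRingCat.of k)) q :=
    IsPullback.of_hasPullback _ _
  have : IsProper π := MorphismProperty.of_isPullback hsqπ inferInstance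
  have : Flat π := MorphismProperty.of_isPullback hsqπ (Misc3Fib.flat_of_field _)
  have : IsLocallyNoetherian T := LocallyOfFiniteType.isLocallyNoetherian q
  have : CompactSpace T := QuasiCompact.compactSpace_of_compactSpace q
  have : IsNoetherian T := {}
  have : IsLocallyNoetherian (Pic13.prodK k X q) := LocallyOfFiniteType.isLocallyNoetherian π
  let U : T.Opens := sSup {U : T.Opens | PicF.IsInvertible (G.restrict (π ⁻¹ᵁ U).ι)}
  have hU : π ⁻¹ᵁ U ≤ invLocus G := by
    intro x hx
    obtain ⟨V, hV, hxV⟩ := Opens.mem_sSup.1 (show π x ∈ U from hx)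
    exact Opens.mem_sSup.2 ⟨_, hV, hxV⟩
  have : NoetherianSpace U := U.ι.isOpenEmbedding.isInducing.noetherianSpace
  have : LocallyConnectedSpace U := Groth.PropsBasic2.locallyConnectedSpace fun x => by
    exact ⟨Set.univ, Filter.univ_mem, (Homeomorph.Set.univ _).isInducing.noetherianSpace⟩
  have : CompactSpace U := NoetherianSpace.compactSpace _
  let W : _root_.ConnectedComponents U → U.toScheme.Opens := fun c =>
    ⟨_root_.ConnectedComponents.mk ⁻¹' {c}, (isOpen_discrete _).preimage _root_.ConnectedComponents.continuous_coe⟩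
  have hW : ∀ c, ConnectedSpace (W c) := fun c => by
    obtain ⟨x, rfl⟩ := _root_.ConnectedComponents.surjective_coe c
    have : ((W ↑x : U.toScheme.Opens) : Set U) = connectedComponent x :=
      connectedComponents_preimage_singleton
    exact Subtype.connectedSpace (this ▸ isConnected_connectedComponent)
  let ι : ∀ c, (W c : Scheme.{u}) ⟶ T := fun c => (W c).ι ≫ U.ι
  let g : ∀ c, Pic13.prodK k X (ι c ≫ q) ⟶ Pic13.prodK k X q := fun c =>
    pullback.map _ _ _ _ (𝟙 X) (ι c) (𝟙 _) (by simp) (by simp)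
  have hgπ : ∀ c, g c ≫ π = pullback.snd _ _ ≫ ι c := fun c => pullback.lift_snd _ _ _
  have hginv : ∀ c, PicF.IsInvertible ((Scheme.Modules.pullback (g c)).obj G) := fun c => by
    have hr : Set.range (g c) ⊆ Set.range (invLocus G).ι := by
      rintro _ ⟨w, rfl⟩
      rw [Scheme.Opens.range_ι]
      refine hU ?_
      change π (g c w) ∈ U
      rw [← Scheme.Hom.comp_apply, hgπ c]
      exact ((W c).ι _).2
    exact PicAux.isInvertible_of_iso (PicAux.isInvertible_pullback (IsOpenImmersion.lift _ _ hr)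
      (PicAux.isInvertible_of_iso (isInvertible_invLocus G) (Ega2Proj.restrictIsoPullback _ G)))
      ((Scheme.Modules.pullbackComp _ _).app G ≪≫
        (Scheme.Modules.pullbackCongr (IsOpenImmersion.lift_fac _ _ hr)).app G)
  have hqc : ∀ c, QuasiCompact (ι c ≫ q) := fun c => by
    have : IsLocallyNoetherian (U : Scheme.{u}) := inferInstance
    infer_instance
  refine ⟨Set.range fun c : _root_.ConnectedComponents U =>
    (⟨W c, ι c ≫ q, hW c, inferInstance, hqc c, _, hginv c⟩ : Piece k X), Set.finite_range _,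
    fun t ht hinv => ?_⟩
  let y := t (IsLocalRing.closedPoint k)
  obtain ⟨U', hyU', hU'⟩ := exists_open_base π hG hfl y (isInvertible_fiber k q t ht G hinv)
  let yU : U := ⟨y, Opens.mem_sSup.2 ⟨U', hU', hyU'⟩⟩
  let c : _root_.ConnectedComponents U := _root_.ConnectedComponents.mk yU
  have hr : Set.range t ⊆ Set.range (ι c) := by
    rintro _ ⟨z, rfl⟩
    have : Subsingleton ↥(Spec (CommRingCat.of k)) := inferInstanceAs (Subsingleton (PrimeSpectrum k))
    rw [Subsingleton.elim z (IsLocalRing.closedPoint k)]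
    exact ⟨⟨yU, show _root_.ConnectedComponents.mk yU ∈ ({c} : Set _) from rfl⟩, rfl⟩
  let t' := IsOpenImmersion.lift (ι c) t hr
  have ht' : t' ≫ ι c = t := IsOpenImmersion.lift_fac _ _ _
  have ht'q : t' ≫ (ι c ≫ q) = 𝟙 _ := by rw [reassoc_of% ht', ht]
  refine ⟨_, ⟨c, rfl⟩, t', ht'q, ⟨(Scheme.Modules.pullbackComp _ _).app G ≪≫
    (Scheme.Modules.pullbackCongr ?_).app G⟩⟩
  apply pullback.hom_ext
  · rw [Category.assoc, Pic13.sliceAt, Pic13.sliceAt]
    erw [pullback.lift_fst, pullback.lift_fst_assoc, pullback.lift_fst]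
    exact Category.comp_id _
  · rw [Category.assoc, Pic13.sliceAt, Pic13.sliceAt]
    erw [pullback.lift_snd, pullback.lift_snd_assoc, pullback.lift_snd]
    rw [Category.assoc, ht']

/-- A family over an affine parameter scheme. -/
theorem exists_pieces_affine {A : X.Modules} (hA : CohB1.IsAmple A) {T : Scheme.{u}} [IsAffine T]
    (q : T ⟶ Spec (CommRingCat.of k)) [LocallyOfFiniteType q]
    (F : (Pic13.prodK k X q).Modules) (hF : Coh.IsCoh F) :
    ∃ s : Set (Piece k X), s.Finite ∧
      ∀ (t : Spec (CommRingCat.of k) ⟶ T) (ht : t ≫ q = 𝟙 _),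
        PicF.IsInvertible (Pic13.fibreMod k X q t ht F) →
          ∃ P ∈ s, Piece.Has P (Pic13.fibreMod k X q t ht F) := by
  let π : Pic13.prodK k X q ⟶ T := pullback.snd _ _
  let pr : Pic13.prodK k X q ⟶ X := pullback.fst _ _
  have hsqπ : IsPullback (pullback.fst _ _ : Pic13.prodK k X q ⟶ X) π (X ↘ Spec (CommRingCat.of k)) q :=
    IsPullback.of_hasPullback _ _
  have : IsProper π := MorphismProperty.of_isPullback hsqπ inferInstance
  have : IsLocallyNoetherian T := LocallyOfFiniteType.isLocallyNoetherian q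
  have : IsNoetherian T := {}
  have : IsAffineHom q := inferInstance
  have : IsAffineHom pr := MorphismProperty.of_isPullback hsqπ.flip inferInstance
  have hLB : CohB1.IsAmple ((Scheme.Modules.pullback pr).obj A) :=
    Groth.Chow.isAmple_pullback_of_isAffineHom pr hA
  have hrel : RelAmple.IsRelAmple π ((Scheme.Modules.pullback pr).obj A) :=
    Ega2Proj.isRelAmple_of_local π fun x =>
      ⟨⊤, _, 𝟙 _, inferInstance, trivial, fun z _ => ⟨z, rfl⟩,
        Ega2Proj.isAmple_of_iso ((Scheme.Modules.pullbackId _).symm.app _ ≪≫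
          (Ega2Proj.restrictIsoPullback (𝟙 _) _).symm) hLB⟩
  obtain ⟨N, I, St, e, himm, hpt, -, hrng, huniv, -, hflat⟩ :=
    FlatStrata.exists_flatStrata π hrel F hF
  let g : ∀ h, Pic13.prodK k X (e h ≫ q) ⟶ Pic13.prodK k X q := fun h =>
    pullback.map _ _ _ _ (𝟙 X) (e h) (𝟙 _) (by simp) (by simp)
  have hlft : ∀ h, LocallyOfFiniteType (e h ≫ q) := fun h => by
    have := himm h
    infer_instance
  have hqc : ∀ h, QuasiCompact (e h ≫ q) := fun h => by
    have := himm h
    have : NoetherianSpace (St h) := (e h).isEmbedding.isInducing.noetherianSpace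
    infer_instance
  have hsq : ∀ h, IsPullback (g h) (pullback.snd _ _) π (e h) := fun h => by
    refine IsPullback.of_right ?_ (pullback.lift_snd _ _ _) (IsPullback.of_hasPullback _ _)
    rw [show g h ≫ pullback.fst _ _ = pullback.fst _ _ ≫ 𝟙 X from pullback.lift_fst _ _ _,
      Category.comp_id]
    exact IsPullback.of_hasPullback _ _
  have hpieces : ∀ h, ∃ s : Set (Piece k X), s.Finite ∧
      ∀ (t : Spec (CommRingCat.of k) ⟶ St h) (ht : t ≫ e h ≫ q = 𝟙 _),
        PicF.IsInvertible (Pic13.fibreMod k X (e h ≫ q) t ht ((Scheme.Modules.pullback (g h)).obj F)) →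
          ∃ P ∈ s, Piece.Has P
            (Pic13.fibreMod k X (e h ≫ q) t ht ((Scheme.Modules.pullback (g h)).obj F)) := fun h => by
    have := hlft h
    have := hqc h
    have := himm h
    have : IsLocallyNoetherian (St h) := LocallyOfFiniteType.isLocallyNoetherian (e h ≫ q)
    exact exists_pieces_flat k _ _ (FlatStrata.isCoh_pullback (g h) hF)
      ((hflat (St h) (e h) _ (g h) _ (hsq h)).2 ⟨Sigma.ι St h, Sigma.ι_desc _ _⟩)
  choose s hs hmem using hpieces
  refine ⟨⋃ h, s h, Set.finite_iUnion hs, fun t ht hinv => ?_⟩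
  obtain ⟨h, hh⟩ := hpt (t (IsLocalRing.closedPoint k))
  have hht : FlatStrata.HasRank π F ((Scheme.Modules.pullback pr).obj A) N h t := by
    have := hh.comp (Spec.map (T.descResidueField (Scheme.stalkClosedPointTo t)))
    rwa [Scheme.descResidueField_stalkClosedPointTo_fromSpecResidueField] at this
  obtain ⟨t', ht'⟩ := (huniv h _ t).2 hht
  have ht'q : t' ≫ e h ≫ q = 𝟙 _ := by rw [reassoc_of% ht', ht]
  have heq : Pic13.sliceAt k X (e h ≫ q) t' ht'q ≫ g h = Pic13.sliceAt k X q t ht := by
    apply pullback.hom_ext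
    · rw [Category.assoc, Pic13.sliceAt, Pic13.sliceAt]
      erw [pullback.lift_fst, pullback.lift_fst_assoc, pullback.lift_fst]
      exact Category.comp_id _
    · rw [Category.assoc, Pic13.sliceAt, Pic13.sliceAt]
      erw [pullback.lift_snd, pullback.lift_snd_assoc, pullback.lift_snd]
      rw [Category.assoc, ht']
  let ei : Pic13.fibreMod k X (e h ≫ q) t' ht'q ((Scheme.Modules.pullback (g h)).obj F) ≅
      Pic13.fibreMod k X q t ht F :=
    (Scheme.Modules.pullbackComp _ _).app F ≪≫ (Scheme.Modules.pullbackCongr heq).app F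
  obtain ⟨P, hP, t'', ht'', ⟨e''⟩⟩ := hmem h t' ht'q (PicAux.isInvertible_of_iso hinv ei.symm)
  exact ⟨P, Set.mem_iUnion.2 ⟨h, hP⟩, t'', ht'', ⟨e'' ≪≫ ei⟩⟩

/-- A bounded family of invertible modules on a projective scheme lies in finitely many connected
families of invertible modules. -/
theorem exists_pieces {A : X.Modules} (hA : CohB1.IsAmple A) {P : X.Modules → Prop}
    (hP : ∀ L, P L → PicF.IsInvertible L) (hb : Pic13.IsBounded k X P) :
    ∃ s : Set (Piece k X), s.Finite ∧ ∀ L, P L → ∃ Q ∈ s, Piece.Has Q L := by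
  obtain ⟨T, q, _, _, F, hF, hfam⟩ := hb
  have : CompactSpace T := QuasiCompact.compactSpace_of_compactSpace q
  let 𝒰 := T.affineCover.finiteSubcover
  let g : ∀ j, Pic13.prodK k X (𝒰.f j ≫ q) ⟶ Pic13.prodK k X q := fun j =>
    pullback.map _ _ _ _ (𝟙 X) (𝒰.f j) (𝟙 _) (by simp) (by simp)
  have hpieces : ∀ j, ∃ s : Set (Piece k X), s.Finite ∧
      ∀ (t : Spec (CommRingCat.of k) ⟶ 𝒰.X j) (ht : t ≫ 𝒰.f j ≫ q = 𝟙 _),
        PicF.IsInvertible (Pic13.fibreMod k X (𝒰.f j ≫ q) t ht ((Scheme.Modules.pullback (g j)).obj F)) →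
          ∃ P ∈ s, Piece.Has P
            (Pic13.fibreMod k X (𝒰.f j ≫ q) t ht ((Scheme.Modules.pullback (g j)).obj F)) := fun j => by
    have : IsAffine (𝒰.X j) := by dsimp [𝒰]; infer_instance
    exact exists_pieces_affine k hA _ _ (FlatStrata.isCoh_pullback (g j) hF)
  choose s hs hmem using hpieces
  refine ⟨⋃ j, s j, Set.finite_iUnion hs, fun L hL => ?_⟩
  obtain ⟨t, ht, ⟨e⟩⟩ := hfam L hL
  obtain ⟨j, z, hz⟩ := 𝒰.exists_eq (t (IsLocalRing.closedPoint k))
  have hr : Set.range t ⊆ Set.range (𝒰.f j) := by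
    rintro _ ⟨x, rfl⟩
    have : Subsingleton ↥(Spec (CommRingCat.of k)) := inferInstanceAs (Subsingleton (PrimeSpectrum k))
    rw [Subsingleton.elim x (IsLocalRing.closedPoint k)]
    exact ⟨z, hz⟩
  let t' := IsOpenImmersion.lift (𝒰.f j) t hr
  have ht' : t' ≫ 𝒰.f j = t := IsOpenImmersion.lift_fac _ _ _
  have ht'q : t' ≫ 𝒰.f j ≫ q = 𝟙 _ := by rw [reassoc_of% ht', ht]
  have heq : Pic13.sliceAt k X (𝒰.f j ≫ q) t' ht'q ≫ g j = Pic13.sliceAt k X q t ht := by
    apply pullback.hom_ext
    · rw [Category.assoc, Pic13.sliceAt, Pic13.sliceAt]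
      erw [pullback.lift_fst, pullback.lift_fst_assoc, pullback.lift_fst]
      exact Category.comp_id _
    · rw [Category.assoc, Pic13.sliceAt, Pic13.sliceAt]
      erw [pullback.lift_snd, pullback.lift_snd_assoc, pullback.lift_snd]
      rw [Category.assoc, ht']
  let ei : Pic13.fibreMod k X (𝒰.f j ≫ q) t' ht'q ((Scheme.Modules.pullback (g j)).obj F) ≅ L :=
    (Scheme.Modules.pullbackComp _ _).app F ≪≫ (Scheme.Modules.pullbackCongr heq).app F ≪≫ e
  obtain ⟨Q, hQ, t'', ht'', ⟨e''⟩⟩ := hmem j t' ht'q (PicAux.isInvertible_of_iso (hP L hL) ei.symm)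
  exact ⟨Q, Set.mem_iUnion.2 ⟨j, hQ⟩, t'', ht'', ⟨e'' ≪≫ ei⟩⟩

end Groth.Misc13.NumTriv
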