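import Groth.Agent.Misc13.NumTriv.Strata
import Groth.Agent.Misc13.NumTriv.Pieces
import Groth.Agent.Quot.FlatExact
import Groth.Agent.Quot.Regular

/-!
# The invertible kernels of a family of morphisms lie in finitely many pieces
-/

set_option autoImplicit false
set_option linter.style.haveILetI false

universe u

open CategoryTheory Limits AlgebraicGeometry TopologicalSpace

namespace Groth.Misc13.NumTriv

variable (k : Type u) [Field k] {X : Scheme.{u}} [X.Over (Spec (CommRingCat.of k))]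

theorem isPullback_sliceAt {T : Scheme.{u}} (q : T ⟶ Spec (CommRingCat.of k))
    (t : Spec (CommRingCat.of k) ⟶ T) (ht : t ≫ q = 𝟙 _) :
    IsPullback (Pic13.sliceAt k X q t ht) (X ↘ Spec (CommRingCat.of k))
      (pullback.snd _ _ : Pic13.prodK k X q ⟶ T) t := by
  refine IsPullback.of_right ?_ (pullback.lift_snd _ _ _) (IsPullback.of_hasPullback _ _)
  rw [show Pic13.sliceAt k X q t ht ≫ pullback.fst _ _ = 𝟙 X from pullback.lift_fst _ _ _, ht]
  exact IsPullback.of_horiz_isIso ⟨by simp⟩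

/-- Finitely many pieces contain the invertible members of every set of modules obtained from a
family of rational points. -/
def Covered {ι : Type*} (L : ι → X.Modules) : Prop :=
  ∃ s : Set (Piece k X), s.Finite ∧ ∀ i, PicF.IsInvertible (L i) → ∃ P ∈ s, Piece.Has P (L i)

/-- The rational points. -/
abbrev RatPt {T : Scheme.{u}} (q : T ⟶ Spec (CommRingCat.of k)) :=
  {t : Spec (CommRingCat.of k) ⟶ T // t ≫ q = 𝟙 _}

theorem Piece.Has.of_iso {P : Piece k X} {L L' : X.Modules} (h : Piece.Has P L) (e : L ≅ L') :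
    Piece.Has P L' := by
  obtain ⟨t, ht, ⟨e'⟩⟩ := h
  exact ⟨t, ht, ⟨e' ≪≫ e⟩⟩

/-- Reduction to charts. -/
theorem covered_of_charts {T : Scheme.{u}} (q : T ⟶ Spec (CommRingCat.of k))
    (L : RatPt k q → X.Modules) (s : Set (Chart T)) (hs : s.Finite)
    (hcov : ∀ t : RatPt k q, ∃ c ∈ s, ∃ t', t' ≫ c.e = t.1)
    (L' : ∀ c : Chart T, RatPt k (c.e ≫ q) → X.Modules)
    (hiso : ∀ (c : Chart T) (t' : RatPt k (c.e ≫ q)) (t : RatPt k q), t'.1 ≫ c.e = t.1 →
      Nonempty (L' c t' ≅ L t))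
    (h : ∀ c ∈ s, Covered k (L' c)) : Covered k L := by
  classical
  choose! S hS hmem using h
  refine ⟨⋃ c ∈ s, S c, hs.biUnion hS, fun t ht => ?_⟩
  obtain ⟨c, hc, t', ht'⟩ := hcov t
  obtain ⟨e⟩ := hiso c ⟨t', by rw [reassoc_of% ht', t.2]⟩ t ht'
  obtain ⟨P, hP, hH⟩ := hmem c hc _ (PicAux.isInvertible_of_iso ht e.symm)
  exact ⟨P, Set.mem_iUnion₂.2 ⟨c, hc, hP⟩, hH.of_iso k e⟩

/-- Kernels of isomorphic arrows. -/
noncomputable def kernelNatIso {A B : Scheme.{u}} {F₁ F₂ : A.Modules ⥤ B.Modules} (e : F₁ ≅ F₂)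
    {G H : A.Modules} (h : G ⟶ H) : kernel (F₁.map h) ≅ kernel (F₂.map h) :=
  kernel.mapIso _ _ (e.app G) (e.app H) (e.hom.naturality h)

variable [IsProper (X ↘ Spec (CommRingCat.of k))]

/-- The invertible fibres of a coherent family. -/
theorem covered_fibres {T : Scheme.{u}} (q : T ⟶ Spec (CommRingCat.of k)) [LocallyOfFiniteType q]
    [QuasiCompact q] (F : (Pic13.prodK k X q).Modules) (hF : Coh.IsCoh F) :
    Covered k fun t : RatPt k q => Pic13.fibreMod k X q t.1 t.2 F := by
  obtain ⟨s, hs, hfl, hcov⟩ := exists_flat_cover k q F hF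
  refine covered_of_charts k q _ s hs (fun t => hcov t.1 t.2)
    (fun c t' => Pic13.fibreMod k X (c.e ≫ q) t'.1 t'.2
      ((Scheme.Modules.pullback (bcMap k X q c.e)).obj F))
    (fun c t' t h => ⟨fibreProdMapIso k c.e rfl t.2 t'.2 h F⟩) fun c hc => ?_
  have := c.lft
  obtain ⟨S, hS, hmem⟩ := exists_pieces_flat k (c.e ≫ q) _
    (FlatStrata.isCoh_pullback (bcMap k X q c.e) hF) (hfl c hc)
  exact ⟨S, hS, fun t ht => hmem t.1 t.2 ht⟩

section Kernels

/-- Kernels when target and cokernel are flat. -/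
theorem covered_kernels_of_flat {T : Scheme.{u}} (q : T ⟶ Spec (CommRingCat.of k))
    [LocallyOfFiniteType q] [QuasiCompact q] {G H : (Pic13.prodK k X q).Modules} (hG : Coh.IsCoh G)
    (hH : Coh.IsCoh H) (h : G ⟶ H)
    (hHfl : FlatMod.IsFlatOver (pullback.snd _ _ : Pic13.prodK k X q ⟶ T) H)
    (hQfl : FlatMod.IsFlatOver (pullback.snd _ _ : Pic13.prodK k X q ⟶ T) (cokernel h)) :
    Covered k fun t : RatPt k q =>
      kernel ((Scheme.Modules.pullback (Pic13.sliceAt k X q t.1 t.2)).map h) := by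
  have : IsLocallyNoetherian T := LocallyOfFiniteType.isLocallyNoetherian q
  have := isProper_snd k (X := X) q
  have : IsLocallyNoetherian (Pic13.prodK k X q) :=
    LocallyOfFiniteType.isLocallyNoetherian (pullback.snd _ _ : Pic13.prodK k X q ⟶ T)
  have := hG.1
  have := hH.1
  have hQ : Coh.IsCoh (cokernel h) := QCohMod.isCoh_cokernel h hH
  have := hQ.1
  have hI : Coh.IsCoh (Abelian.image h) := QCohMod.isCoh_kernel (cokernel.π h) hH
  have := hI.1
  let p : G ⟶ Abelian.image h := Abelian.factorThruImage h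
  have hK : Coh.IsCoh (kernel p) := QCohMod.isCoh_kernel p hG
  have := hK.1
  let D₂ := ShortComplex.mk (kernel.ι (cokernel.π h)) (cokernel.π h) (kernel.condition _)
  have hD₂ : D₂.ShortExact := { exact := ShortComplex.exact_kernel _ }
  have : D₂.X₁.IsQuasicoherent := hI.1
  have : D₂.X₂.IsQuasicoherent := hH.1
  have : D₂.X₃.IsQuasicoherent := hQ.1
  have hIfl := Quot.isFlatOver_of_shortExact _ D₂ hD₂ hHfl hQfl
  let D₁ := ShortComplex.mk (kernel.ι p) p (kernel.condition _)
  have hD₁ : D₁.ShortExact := { exact := ShortComplex.exact_kernel _ }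
  have : D₁.X₁.IsQuasicoherent := hK.1
  have : D₁.X₂.IsQuasicoherent := hG.1
  have : D₁.X₃.IsQuasicoherent := hI.1
  obtain ⟨S, hS, hmem⟩ := covered_fibres k q _ hK
  have key : ∀ t : RatPt k q, Nonempty
      (Pic13.fibreMod k X q t.1 t.2 (kernel p) ≅
        kernel ((Scheme.Modules.pullback (Pic13.sliceAt k X q t.1 t.2)).map h)) := fun t => by
    let F := Scheme.Modules.pullback (Pic13.sliceAt k X q t.1 t.2)
    have h1 := Quot.shortExact_pullback_of_flat (isPullback_sliceAt k q t.1 t.2) D₁ hD₁ hIfl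
    have : Mono (F.map (kernel.ι (cokernel.π h))) :=
      Quot.mono_pullback_of_flat (isPullback_sliceAt k q t.1 t.2) D₂ hD₂ hQfl
    refine ⟨IsLimit.conePointUniqueUpToIso h1.fIsKernel (limit.isLimit (parallelPair (F.map p) 0)) ≪≫
      (kernelCompMono (F.map p) (F.map (kernel.ι (cokernel.π h)))).symm ≪≫ kernelIsoOfEq ?_⟩
    rw [← Functor.map_comp]
    exact congrArg F.map (Abelian.image.fac h)
  refine ⟨S, hS, fun t ht => ?_⟩
  obtain ⟨e⟩ := key t
  obtain ⟨P, hP, hH'⟩ := hmem t (PicAux.isInvertible_of_iso ht e.symm)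
  exact ⟨P, hP, hH'.of_iso k e⟩

/-- Kernels when the target is flat. -/
theorem covered_kernels_of_flat_target {T : Scheme.{u}} (q : T ⟶ Spec (CommRingCat.of k))
    [LocallyOfFiniteType q] [QuasiCompact q] {G H : (Pic13.prodK k X q).Modules} (hG : Coh.IsCoh G)
    (hH : Coh.IsCoh H) (h : G ⟶ H)
    (hHfl : FlatMod.IsFlatOver (pullback.snd _ _ : Pic13.prodK k X q ⟶ T) H) :
    Covered k fun t : RatPt k q =>
      kernel ((Scheme.Modules.pullback (Pic13.sliceAt k X q t.1 t.2)).map h) := by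
  have := hH.1
  have := hG.1
  obtain ⟨s, hs, hfl, hcov⟩ := exists_flat_cover k q (cokernel h) (QCohMod.isCoh_cokernel h hH)
  refine covered_of_charts k q _ s hs (fun t => hcov t.1 t.2)
    (fun c t' => kernel ((Scheme.Modules.pullback (Pic13.sliceAt k X (c.e ≫ q) t'.1 t'.2)).map
      ((Scheme.Modules.pullback (bcMap k X q c.e)).map h)))
    (fun c t' t h' => ⟨kernelNatIso (Scheme.Modules.pullbackComp _ _ ≪≫
      Scheme.Modules.pullbackCongr (slice_prodMap k c.e rfl t.2 t'.2 h')) h⟩) fun c hc => ?_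
  have := c.lft
  let F := Scheme.Modules.pullback (bcMap k X q c.e)
  have : PreservesColimitsOfSize.{0, 0} F :=
    (Scheme.Modules.pullbackPushforwardAdjunction (bcMap k X q c.e)).leftAdjoint_preservesColimits
  have := FlatStrata.additive_pullback (bcMap k X q c.e)
  refine covered_kernels_of_flat k (c.e ≫ q) (FlatStrata.isCoh_pullback _ hG)
    (FlatStrata.isCoh_pullback _ hH) (F.map h) (isFlatOver_prodMap k c.e rfl H hHfl) fun x => ?_
  exact (FlatMorOne.isFlatOverAt_congr _ (PreservesCokernel.iso F h) x).1 (hfl c hc x)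

/-- The invertible kernels of a family of morphisms between coherent families. -/
theorem covered_kernels {T : Scheme.{u}} (q : T ⟶ Spec (CommRingCat.of k))
    [LocallyOfFiniteType q] [QuasiCompact q] {G H : (Pic13.prodK k X q).Modules} (hG : Coh.IsCoh G)
    (hH : Coh.IsCoh H) (h : G ⟶ H) :
    Covered k fun t : RatPt k q =>
      kernel ((Scheme.Modules.pullback (Pic13.sliceAt k X q t.1 t.2)).map h) := by
  obtain ⟨s, hs, hfl, hcov⟩ := exists_flat_cover k q H hH
  refine covered_of_charts k q _ s hs (fun t => hcov t.1 t.2)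
    (fun c t' => kernel ((Scheme.Modules.pullback (Pic13.sliceAt k X (c.e ≫ q) t'.1 t'.2)).map
      ((Scheme.Modules.pullback (bcMap k X q c.e)).map h)))
    (fun c t' t h' => ⟨kernelNatIso (Scheme.Modules.pullbackComp _ _ ≪≫
      Scheme.Modules.pullbackCongr (slice_prodMap k c.e rfl t.2 t'.2 h')) h⟩) fun c hc => ?_
  have := c.lft
  exact covered_kernels_of_flat_target k (c.e ≫ q) (FlatStrata.isCoh_pullback _ hG)
    (FlatStrata.isCoh_pullback _ hH) _ (hfl c hc)

end Kernels

end Groth.Misc13.NumTriv
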