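import Groth.Agent.SchemeMorphisms.AssFiltration
import Groth.Agent.SchemeMorphisms.AssClosure
import Groth.Agent.FlatStrata.Model
import Groth.Agent.Chow.NonemptyOpen
import Groth.Agent.Chow.General
import Groth.Agent.Chow.VeryAmplePn
import Groth.Agent.QCohMod.ClosedImm

/-!
# Coherent modules embed into direct images from projective schemes
-/

set_option autoImplicit false
set_option linter.style.haveILetI false

universe u

open CategoryTheory Limits AlgebraicGeometry TopologicalSpace

namespace Groth.Misc13.NumTriv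

variable {X : Scheme.{u}} [IsLocallyNoetherian X] [CompactSpace X] [X.IsSeparated]

/-- A morphism killed by the unit of `ψ` is killed by `ψ^*`. -/
theorem pullback_map_eq_zero {Y : Scheme.{u}} (ψ : Y ⟶ X) {K G : X.Modules} (κ : K ⟶ G)
    (h : κ ≫ (Scheme.Modules.pullbackPushforwardAdjunction ψ).unit.app G = 0) :
    (Scheme.Modules.pullback ψ).map κ = 0 := by
  let adj := Scheme.Modules.pullbackPushforwardAdjunction ψ
  apply (adj.homEquiv _ _).injective
  rw [Adjunction.homEquiv_unit, Adjunction.homEquiv_unit]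
  refine ((adj.unit.naturality κ).symm.trans h).trans ?_
  rw [Functor.map_zero, comp_zero]

omit [CompactSpace X] [X.IsSeparated] in
/-- Morphisms into a coprimary module vanishing near its associated point vanish. -/
theorem eq_zero_of_nhd {K G : X.Modules} [K.IsQuasicoherent] [G.IsQuasicoherent] {x : X}
    (hG : AssSch.Ass G ⊆ {x}) (κ : K ⟶ G) {W : X.Opens} (hx : x ∈ W)
    (hκ : ∀ V : X.Opens, V ≤ W → ∀ s, κ.app V s = 0) : κ = 0 := by
  ext V s
  refine TopCat.Presheaf.section_ext ⟨G.presheaf, G.isSheaf⟩ _ _ 0 fun y hy => ?_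
  by_contra hne
  have hsupp : y ∈ CohB1.support (Abelian.image κ) := fun hsub => hne (by
    obtain ⟨s', hs'⟩ : ∃ s' : Γ(Abelian.image κ, V),
        (Abelian.image.ι κ).app V s' = κ.app V s :=
      ⟨(Abelian.factorThruImage κ).app V s, congr(($(Abelian.image.fac κ)).app V s)⟩
    have := hsub.elim (Groth.QCohMod.germ (Abelian.image κ) y hy s') 0
    rw [map_zero]
    refine ((congrArg (G.presheaf.germ V y hy) hs').symm.trans ?_)
    refine (Groth.QCohMod.stalk_map_germ (Abelian.image.ι κ) y hy s').symm.trans ?_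
    exact (congrArg _ this).trans (map_zero _))
  have hI : (Abelian.image κ).IsQuasicoherent := by
    have := QCohMod.isQCoh_cokernel κ
    exact QCohMod.isQCoh_kernel (cokernel.π κ)
  obtain ⟨z, hz, hzy⟩ := SchemeMorphisms.exists_ass_specializes hI hsupp
  obtain rfl : z = x := Set.mem_singleton_iff.1
    (hG (SchemeMorphisms.ass_subset_of_mono (Abelian.image.ι κ) hI inferInstance hz))
  apply SchemeMorphisms.ass_subset_support hz
  refine subsingleton_of_forall_eq 0 fun t => ?_
  obtain ⟨U, hzU, u, rfl⟩ := Groth.QCohMod.exists_germ (Abelian.image κ) z t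
  obtain ⟨_, ⟨A, hA, rfl⟩, hzA, hAW⟩ :=
    X.isBasis_affineOpens.exists_subset_of_mem_open (show z ∈ U ⊓ W from ⟨hzU, hx⟩) (U ⊓ W).isOpen
  replace hA : IsAffineOpen A := hA
  replace hAW : A ≤ U ⊓ W := hAW
  obtain ⟨s₀, hs₀⟩ := QCohMod.app_surjective_of_epi (Abelian.factorThruImage κ) hA
    (QCohMod.res _ (hAW.trans inf_le_left) u)
  have h0 : QCohMod.res (Abelian.image κ) (hAW.trans inf_le_left) u = 0 := by
    refine QCohMod.app_injective_of_mono (Abelian.image.ι κ) A ?_
    rw [map_zero, ← hs₀]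
    exact congr(($(Abelian.image.fac κ)).app A s₀).trans (hκ A (hAW.trans inf_le_right) s₀)
  rw [← Groth.QCohMod.germ_res _ (hAW.trans inf_le_left) z hzA, h0, map_zero]

/-- A coprimary module is detected on a scheme with an immersion in projective space. -/
theorem exists_detect {k : Type u} [Field k] (p : X ⟶ Spec (CommRingCat.of k)) [IsProper p]
    {G : X.Modules} (hG : Coh.IsCoh G) {x : X} (hAss : AssSch.Ass G = {x}) :
    ∃ (N : ℕ) (Y : Scheme.{u}) (ψ : Y ⟶ X)
      (j : Y ⟶ CohB1.ProjSpaceOver N (Spec (CommRingCat.of k))),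
      IsImmersion j ∧ j ≫ CohB1.ProjSpaceOver.toBase N _ = ψ ≫ p ∧ IsProper ψ ∧
      ∀ (K : X.Modules) [K.IsQuasicoherent] (κ : K ⟶ G),
        (Scheme.Modules.pullback ψ).map κ = 0 → κ = 0 := by
  have := hG.1
  let I := QCohMod.annIdeal G hG.2
  let i : I.subscheme ⟶ X := I.subschemeι
  have hunit : IsIso ((Scheme.Modules.pullbackPushforwardAdjunction i).unit.app G) :=
    (QCohMod.isIso_unit_closedImmersion_iff i G).2 fun U a ha s => by
      rw [Scheme.IdealSheafData.ker_subschemeι] at ha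
      exact Module.mem_annihilator.1 ha s
  have hrange : Set.range i = CohB1.support G := by
    rw [Scheme.IdealSheafData.range_subschemeι, QCohMod.support_annIdeal]
  obtain ⟨x₀, hx₀⟩ : x ∈ Set.range i :=
    hrange ▸ SchemeMorphisms.ass_subset_support (hAss.ge rfl)
  have : Nonempty I.subscheme := ⟨x₀⟩
  have : CompactSpace I.subscheme := QuasiCompact.compactSpace_of_compactSpace i
  have : QuasiSeparatedSpace I.subscheme := quasiSeparatedSpace_of_quasiSeparated i
  obtain ⟨N, Y, π, j, hj, hjb, hπ, U, ⟨u, hu⟩, hiso⟩ := Chow.exists_chow_nonempty (i ≫ p)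
  refine ⟨N, Y, π ≫ i, j, hj, by rw [hjb, Category.assoc], inferInstance, fun K _ κ hκ => ?_⟩
  obtain ⟨z, hz, hzu⟩ := SchemeMorphisms.exists_ass_specializes hG.1
    (show i u ∈ CohB1.support G from hrange ▸ Set.mem_range_self u)
  obtain rfl : z = x := Set.mem_singleton_iff.1 (hAss ▸ hz)
  have hx₀U : x₀ ∈ U :=
    ((i.isClosedEmbedding.isInducing.specializes_iff).1 (hx₀ ▸ hzu)).mem_open U.isOpen hu
  obtain ⟨W, hW, hWU⟩ := i.isClosedEmbedding.isInducing.isOpen_iff.1 U.isOpen
  let W' : X.Opens := ⟨W, hW⟩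
  refine eq_zero_of_nhd hAss.le κ (W := W') (show z ∈ W from hx₀ ▸ (hWU.ge hx₀U)) fun V hV s => ?_
  let σ : (U : Scheme.{u}) ⟶ Y := inv (π ∣_ U) ≫ (π ⁻¹ᵁ U).ι
  have hσ : σ ≫ (π ≫ i) = U.ι ≫ i := by
    rw [Category.assoc, ← Category.assoc ((π ⁻¹ᵁ U).ι), ← morphismRestrict_ι, Category.assoc,
      IsIso.inv_hom_id_assoc]
  let κ' := (Scheme.Modules.pullback i).map κ
  have h1 : (Scheme.Modules.restrictFunctor U.ι).map κ' = 0 := by
    let e : Scheme.Modules.pullback (π ≫ i) ⋙ Scheme.Modules.pullback σ ≅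
        Scheme.Modules.pullback i ⋙ Scheme.Modules.restrictFunctor U.ι :=
      Scheme.Modules.pullbackComp σ (π ≫ i) ≪≫ Scheme.Modules.pullbackCongr hσ ≪≫
        (Scheme.Modules.pullbackComp U.ι i).symm ≪≫
        Functor.isoWhiskerLeft _ (Scheme.Modules.restrictFunctorIsoPullback U.ι).symm
    have hn := e.hom.naturality κ
    rw [Functor.comp_map, Functor.comp_map, hκ] at hn
    have := FlatStrata.additive_pullback σ
    rw [Functor.map_zero, zero_comp] at hn
    exact (cancel_epi (e.hom.app K)).1 (hn.symm.trans comp_zero.symm)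
  have hle : i ⁻¹ᵁ V ≤ U := fun y hy => hWU.le (show i y ∈ W from hV hy)
  have h2 : ∀ (T : I.subscheme.Opens), T ≤ U → ∀ a, κ'.app T a = 0 := fun T hT a => by
    obtain ⟨T', rfl⟩ : ∃ T', U.ι ''ᵁ T' = T :=
      ⟨U.ι ⁻¹ᵁ T, (Scheme.Hom.image_preimage_eq_opensRange_inf U.ι T).trans
        ((congrArg (· ⊓ T) U.opensRange_ι).trans (inf_eq_right.2 hT))⟩
    exact congr(($h1).app T' a)
  have h3 := congr(($((Scheme.Modules.pullbackPushforwardAdjunction i).unit.naturality κ)).app V s)
  refine (ConcreteCategory.bijective_of_isIso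
    (((Scheme.Modules.pullbackPushforwardAdjunction i).unit.app G).app V)).1 ?_
  rw [map_zero]
  exact h3.trans (h2 _ hle _)

/-- Every coherent module on a proper scheme embeds by the unit of a morphism from a projective
scheme. -/
theorem exists_proj_mono_unit {k : Type u} [Field k] (p : X ⟶ Spec (CommRingCat.of k)) [IsProper p]
    {C : X.Modules} (hC : Coh.IsCoh C) :
    ∃ (Y : Scheme.{u}) (ψ : Y ⟶ X) (Amp : Y.Modules), IsProper (ψ ≫ p) ∧ CohB1.IsAmple Amp ∧
      Mono ((Scheme.Modules.pullbackPushforwardAdjunction ψ).unit.app C) := by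
  classical
  obtain ⟨G, q, -, hGc, hGA, hjoint⟩ := SchemeMorphisms.exists_decomposition hC
  have : IsNoetherian X := {}
  have hfin : (AssSch.Ass C).Finite := by
    obtain ⟨S, hS, hcov⟩ := isCompact_and_isOpen_iff_finite_and_eq_biUnion_affineOpens.mp
      ⟨(isCompact_univ : IsCompact (Set.univ : Set X)), isOpen_univ⟩
    refine (hS.biUnion fun U _ => SchemeMorphisms.finite_ass_inter hC U.2).subset fun y hy => ?_
    obtain ⟨U, hU, hyU⟩ := Set.mem_iUnion₂.1 (hcov.le (Set.mem_univ y))
    exact Set.mem_iUnion₂.2 ⟨U, hU, hy, hyU⟩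
  have := hfin.to_subtype
  have := Fintype.ofFinite (AssSch.Ass C)
  choose N Y ψ j hj hjb hψ hdet using fun a => exists_detect p (hGc a) (hGA a)
  let σT := Σ a : AssSch.Ass C, Fin (N a + 1)
  let eσ : Option σT ≃ Fin (Fintype.card σT + 1) :=
    (Fintype.equivFin (Option σT)).trans (finCongr Fintype.card_option)
  let b : ∀ a, Fin (N a + 1) → Fin (Fintype.card σT + 1) := fun a c => eσ (some ⟨a, c⟩)
  have hb' : ∀ a, Function.Injective (b a) := fun a c c' h =>
    eq_of_heq (Sigma.mk.inj (Option.some.inj (eσ.injective h))).2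
  have hdisj : ∀ a a', a ≠ a' → Disjoint (Set.range (b a)) (Set.range (b a')) := by
    intro a a' hne
    rw [Set.disjoint_left]
    rintro _ ⟨c, rfl⟩ ⟨c', hc'⟩
    exact hne (Sigma.mk.inj (Option.some.inj (eσ.injective hc'))).1.symm
  let S := Spec (CommRingCat.of k)
  let L : ∀ a, CohB1.ProjSpaceOver (N a) S ⟶ CohB1.ProjSpaceOver (Fintype.card σT) S := fun a =>
    Chow.linS (b a) (hb' a) S
  have : ∀ a, IsClosedImmersion (L a) := fun a => Chow.isClosedImmersion_linS _ _ _
  have : ∀ a, IsImmersion (j a ≫ L a) := fun a => by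
    have := hj a
    infer_instance
  let J : ∐ Y ⟶ CohB1.ProjSpaceOver (Fintype.card σT) S := Sigma.desc fun a => j a ≫ L a
  have hJ : IsImmersion J := Chow.isImmersion_sigmaDesc _ (fun a => Set.range (L a))
    (fun a => (L a).isClosedEmbedding.isClosed_range)
    (fun a => by rintro _ ⟨y, rfl⟩; exact ⟨j a y, rfl⟩)
    fun a a' hne => Chow.disjoint_range_linS _ _ _ _ (hdisj a a' hne) S
  have hJb : J ≫ CohB1.ProjSpaceOver.toBase _ S = Sigma.desc ψ ≫ p := Sigma.hom_ext _ _ fun a => by
    rw [Sigma.ι_desc_assoc, Sigma.ι_desc_assoc, Category.assoc, Chow.linS_toBase, hjb]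
  have hclosed : IsClosed (Set.range J) := by
    have : Set.range J = ⋃ a, Set.range (Sigma.ι Y a ≫ J) := by
      ext z
      constructor
      · rintro ⟨y, rfl⟩
        obtain ⟨a, y', rfl⟩ := (sigmaOpenCover Y).exists_eq y
        exact Set.mem_iUnion.mpr ⟨a, y', rfl⟩
      · intro hz
        obtain ⟨a, y, rfl⟩ := Set.mem_iUnion.mp hz
        exact ⟨Sigma.ι Y a y, rfl⟩
    rw [this]
    refine isClosed_iUnion_of_finite fun a => ?_
    have := hψ a
    have : IsProper ((Sigma.ι Y a ≫ J) ≫ CohB1.ProjSpaceOver.toBase _ S) := by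
      rw [Category.assoc, hJb, Sigma.ι_desc_assoc]
      infer_instance
    have := Groth.Variety2.isProper_projSpaceOver_toBase (Fintype.card σT) S
    have : IsProper (Sigma.ι Y a ≫ J) := IsProper.of_comp _ (CohB1.ProjSpaceOver.toBase _ S)
    exact (Scheme.Hom.isClosedMap _).isClosed_range
  have : IsClosedImmersion J := IsClosedImmersion.of_isPreimmersion J hclosed
  have := Groth.Variety2.isProper_projSpaceOver_toBase (Fintype.card σT) S
  have hprop : IsProper (Sigma.desc ψ ≫ p) := hJb ▸ inferInstance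
  refine ⟨∐ Y, Sigma.desc ψ, _, hprop,
    Chow.isAmple_of_immersion (Sigma.desc ψ ≫ p) _ _ J (Iso.refl _), ?_⟩
  let u := (Scheme.Modules.pullbackPushforwardAdjunction (Sigma.desc ψ)).unit.app C
  have := hC.1
  have : ((Scheme.Modules.pushforward (Sigma.desc ψ)).obj
      ((Scheme.Modules.pullback (Sigma.desc ψ)).obj C)).IsQuasicoherent := by
    have := QCohMod.isQCoh_pullback_obj (Sigma.desc ψ) C
    have : QuasiCompact (Sigma.desc ψ) := by
      have := hprop
      have : IsProper (Sigma.desc ψ) := IsProper.of_comp _ p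
      infer_instance
    have : IsProper (Sigma.desc ψ) := IsProper.of_comp _ p
    exact QCohMod.isQCoh_pushforward _ _
  have : ((𝟭 X.Modules).obj C).IsQuasicoherent := hC.1
  have : ((Scheme.Modules.pullback (Sigma.desc ψ) ⋙ Scheme.Modules.pushforward (Sigma.desc ψ)).obj
      C).IsQuasicoherent := ‹((Scheme.Modules.pushforward (Sigma.desc ψ)).obj _).IsQuasicoherent›
  have : (kernel u).IsQuasicoherent := QCohMod.isQCoh_kernel u
  refine Preadditive.mono_of_kernel_zero (hjoint _ _ _ fun a => ?_)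
  rw [zero_comp]
  refine hdet a _ _ ?_
  have h0 := pullback_map_eq_zero (Sigma.desc ψ) (kernel.ι u) (kernel.condition u)
  let e : Scheme.Modules.pullback (Sigma.desc ψ) ⋙ Scheme.Modules.pullback (Sigma.ι Y a) ≅
      Scheme.Modules.pullback (ψ a) :=
    Scheme.Modules.pullbackComp _ _ ≪≫ Scheme.Modules.pullbackCongr (Sigma.ι_desc ψ a)
  have h1 := e.hom.naturality (kernel.ι u)
  have := FlatStrata.additive_pullback (Sigma.ι Y a)
  rw [Functor.comp_map, h0, Functor.map_zero, zero_comp] at h1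
  rw [Functor.map_comp, ← cancel_epi (e.hom.app _), ← Category.assoc, ← h1, zero_comp, comp_zero]

end Groth.Misc13.NumTriv
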