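import Groth.Agent.Misc13.NumTriv.Pieces
import Groth.Agent.Misc13.NumTriv.Uniform
import Groth.Agent.Variety2.ProjDim
import Groth.Agent.S4285

/-!
# On a projective scheme numerically trivial means τ-equivalent to zero
-/

set_option autoImplicit false
set_option linter.style.haveILetI false

universe u

open CategoryTheory Limits AlgebraicGeometry TopologicalSpace

namespace Groth.Misc13.NumTriv

open Groth.Inter Groth.PicAux Groth.HilbStab Groth.PropsBasic.Ample

variable (k : Type u) [Field k] [IsAlgClosed k] {X : Scheme.{u}} [X.Over (Spec (CommRingCat.of k))]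
  [IsProper (X ↘ Spec (CommRingCat.of k))]

/-- The numerically trivial invertible modules on a projective scheme form a bounded family. -/
theorem isBounded_nt {A : X.Modules} (hA : CohB1.IsAmple A) : Pic13.IsBounded k X (NT k) := by
  obtain ⟨n, p, i, -, hi, hif, -⟩ :=
    PnCoh.exists_closedImmersion_of_isAmple (X ↘ Spec (CommRingCat.of k)) hA
  have := hi
  have hd : topologicalKrullDim X ≤ ((n : ℕ) : WithBot ℕ∞) :=
    (i.isClosedEmbedding.isInducing.topologicalKrullDim_le).trans Variety2.PSpace.dim_projSpace.le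
  have hO : Coh.IsCoh (Coh.structureModule X) :=
    isCoh_of_isInvertible (EulerDeg.isInvertible_structureModule X)
  obtain ⟨-, m, hreg⟩ := goodNT k i hif hA hO
  obtain ⟨φ, hφ⟩ := Groth.Agent.S2426.result k n X i hif _ hO
  have h3 : ∀ (W : Type u) [AddCommGroup W] [Module k W],
      (Module.length k W).toNat = Module.finrank k W := fun W _ _ => by
    by_cases hW : Module.Finite k W
    · rw [Module.length_eq_finrank]; rfl
    · rw [Module.finrank_of_not_finite hW, Module.length_eq_rank, Cardinal.toENat_eq_top.2]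
      · rfl
      · exact not_lt.1 fun hlt => hW (Module.rank_lt_aleph0_iff.1 hlt)
  have hχ : ∀ d : ℤ, (FGA.eulerCharLE k X (Pic13.twistOn k i (Coh.structureModule X) d) n : ℚ) =
      φ.eval (d : ℚ) := fun d => by
    rw [← hφ d]
    simp only [FGA.eulerCharLE, Int.cast_sum, Int.cast_mul, Int.cast_pow, Int.cast_neg, Int.cast_one,
      Int.cast_natCast, h3]
    rfl
  obtain ⟨T, q, hlft, hqc, F, hF, hfam⟩ := Groth.Agent.S4285.result k n X i hif m φ
  refine ⟨T, q, hlft, hqc, F, hF, fun L hL => hfam L ⟨isCoh_of_isInvertible hL.1,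
    mReg_iso k i (tensor_one L).some (hreg L hL), fun d => ?_⟩⟩
  have e : Pic13.twistOn k i L d ≅ CohB1.tensorMod (Pic13.twistOn k i (Coh.structureModule X) d) L :=
    (twistOn_congr k i (tensor_one L).some.symm d).some ≪≫ (twistOn_tensor k i _ L d).some
  rw [← hχ d, Inter.eulerCharLE_eq k hd, Inter.eulerCharLE_eq k hd, EulerDeg.euler_congr k e,
    euler_tensor k hL (isCoh_twistOn k i hO d)]

/-- On a projective scheme a numerically trivial invertible module is τ-equivalent to zero. -/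
theorem isTauEquivZero_of_nt {A : X.Modules} (hA : CohB1.IsAmple A) {L : X.Modules} (hL : NT k L) :
    Pic13.IsTauEquivZero k X L := by
  obtain ⟨s, hs, hmem⟩ := exists_pieces k hA (P := NT k) (fun _ h => h.1) (isBounded_nt k hA)
  choose Q hQs hQ using fun n : ℕ => hmem _ (nt_pow k hL n)
  obtain ⟨a, b, hab, hQab⟩ : ∃ a b : ℕ, a < b ∧ Q a = Q b := by
    haveI := hs.to_subtype
    obtain ⟨a, b, hne, he⟩ :=
      Finite.exists_ne_map_eq_of_infinite (fun n : ℕ => (⟨Q n, hQs n⟩ : s))
    rcases lt_or_gt_of_ne hne with h | h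
    · exact ⟨a, b, h, congrArg Subtype.val he⟩
    · exact ⟨b, a, h, congrArg Subtype.val he.symm⟩
  obtain ⟨tb, htb, ⟨eb⟩⟩ : Piece.Has (Q a) (CohB1.tensorPow L b) := hQab ▸ hQ b
  obtain ⟨ta, hta, ⟨ea⟩⟩ := hQ a
  obtain ⟨M', hM'i, hM'⟩ := PicAux.exists_isInverseOf (isInvertible_tensorPow hL.1 a)
  refine ⟨b - a, by omega, (Q a).W, (Q a).q, (Q a).conn, (Q a).lft, (Q a).qc,
    CohB1.tensorMod (Q a).M ((Scheme.Modules.pullback (pullback.fst _ _)).obj M'),
    isInvertible_tensorMod (Q a).inv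
      (PicAux.isInvertible_pullback _ hM'i),
    tb, ta, htb, hta, ⟨?_⟩, ⟨?_⟩⟩
  all_goals refine (PicAux.exists_pullback_tensorMod (Pic13.sliceAt k X (Q a).q _ _) _ _).choose ≪≫
    (tensor_congr ⟨Iso.refl _⟩ ⟨(Scheme.Modules.pullbackComp _ _).app M' ≪≫
      (Scheme.Modules.pullbackCongr (show Pic13.sliceAt k X (Q a).q _ _ ≫ pullback.fst _ _ = 𝟙 X from
        pullback.lift_fst _ _ _)).app M' ≪≫ (Scheme.Modules.pullbackId _).app M'⟩).some ≪≫ ?_
  · refine (tensor_congr ⟨eb⟩ ⟨Iso.refl _⟩).some ≪≫ ?_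
    refine (tensor_congr ⟨eqToIso (congrArg (CohB1.tensorPow L) (by omega : b = (b - a) + a)) ≪≫
      (PicAux.tensorPow_add L (b - a) a).some⟩ ⟨Iso.refl _⟩).some ≪≫ (tensor_assoc _ _ _).some ≪≫
      (tensor_congr ⟨Iso.refl _⟩ hM').some ≪≫ (tensor_comm _ _).some ≪≫ (tensor_one _).some
  · exact (tensor_congr ⟨ea⟩ ⟨Iso.refl _⟩).some ≪≫ hM'.some

end Groth.Misc13.NumTriv
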