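import Groth.Agent.Ega2Proj.TensorGen
import Groth.Agent.Ega2Proj.TwistExtend
import Groth.Agent.Ega2Proj.SpansFinite
import Groth.Agent.Curves1.RR.RankOne
import Groth.Agent.CohBase.HomNearFibre
import Groth.Agent.PicAux.Pullback

/-!
# A module embeds in a finite sum of copies of its twist
-/

set_option autoImplicit false
set_option linter.style.haveILetI false

universe u

open CategoryTheory Limits AlgebraicGeometry TopologicalSpace
open Groth.PicAux (tmulSec tmulSec_add_left tmulSec_smul_left res_tmulSec res res_res resX Gen)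

namespace Groth.Misc13.NumTriv

/-- Multiplication by a global section. -/
noncomputable def mulSecHom {X : Scheme.{u}} (D : X.Modules) {B : X.Modules} (s : Γ(B, ⊤)) :
    D ⟶ CohB1.tensorMod D B :=
  ⟨PresheafOfModules.homMk
    { app := fun U => AddCommGrpCat.ofHom
        (AddMonoidHom.mk' (fun x : Γ(D, U.unop) => tmulSec x (res B (le_top : U.unop ≤ ⊤) s))
          (fun x y => tmulSec_add_left _ _ _))
      naturality := fun U V g => AddCommGrpCat.ext fun (x : Γ(D, U.unop)) => by
        change tmulSec (res D g.unop.le x) (res B (le_top : V.unop ≤ ⊤) s) =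
          res (CohB1.tensorMod D B) g.unop.le (tmulSec x (res B (le_top : U.unop ≤ ⊤) s))
        rw [res_tmulSec, res_res] }
    fun U (r : Γ(X, U.unop)) (x : Γ(D, U.unop)) => by
      change tmulSec (r • x) (res B (le_top : U.unop ≤ ⊤) s) =
        r • tmulSec x (res B (le_top : U.unop ≤ ⊤) s)
      exact tmulSec_smul_left _ _ _⟩

theorem mulSecHom_app {X : Scheme.{u}} (D : X.Modules) {B : X.Modules} (s : Γ(B, ⊤)) (U : X.Opens)
    (x : Γ(D, U)) : (mulSecHom D s).app U x = tmulSec x (res B le_top s) := rfl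

/-- Multiplication by generating sections is a monomorphism. -/
theorem mono_mulSecHom {X : Scheme.{u}} (D : X.Modules) {B : X.Modules} (hB : PicF.IsInvertible B)
    {N : ℕ} (s : Fin N → Γ(B, ⊤))
    (hs : ∀ x : X, Submodule.span (X.presheaf.stalk x)
      (Set.range fun l => Groth.QCohMod.germ B x (Set.mem_univ x : x ∈ (⊤ : X.Opens)) (s l)) = ⊤)
    {T : X.Modules} (g : T ⟶ D) (hg : ∀ l, g ≫ mulSecHom D (s l) = 0) : g = 0 := by
  ext V a
  refine TopCat.Presheaf.section_ext ⟨D.presheaf, D.isSheaf⟩ _ _ 0 fun x hx => ?_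
  obtain ⟨U, e, hxU, he⟩ : ∃ (U : X.Opens) (e : Γ(B, U)), x ∈ U ∧ Gen B U e := by
    obtain ⟨U, e, h1, h2⟩ := (PicAux.isInvertible_iff_exists_gen B).1 hB x
    exact ⟨U, e, h1, h2⟩
  let W := V ⊓ U
  have hxW : x ∈ W := ⟨hx, hxU⟩
  let b : Γ(D, W) := g.app W (res T inf_le_left a)
  suffices Groth.QCohMod.germ D x hxW b = 0 by
    have h1 : b = res D (inf_le_left : W ≤ V) (g.app V a) :=
      (Groth.QCohMod.res_app g inf_le_left a).symm
    rw [h1] at this
    refine ((Groth.QCohMod.germ_res D inf_le_left x hxW (g.app V a)).symm.trans this).trans ?_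
    exact (map_zero (D.presheaf.germ V x hx).hom).symm
  have hf : ∀ l, ∃ f : Γ(X, W), f • res B inf_le_right e = res B le_top (s l) := fun l =>
    (he W inf_le_right).2 (res B le_top (s l))
  choose f hf using hf
  have hfb : ∀ l, f l • b = 0 := fun l => by
    refine (Ega2Proj.tmulSec_bijective (M := D) (inf_le_right : W ≤ U) he).1 ?_
    change tmulSec (f l • b) (res B inf_le_right e) = tmulSec 0 (res B inf_le_right e)
    have h0 : (mulSecHom D (s l)).app W b = 0 := congr(($(hg l)).app W (res T inf_le_left a))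
    rw [mulSecHom_app, ← hf l, PicAux.tmulSec_smul_right] at h0
    rw [tmulSec_smul_left, h0]
    have h2 := tmulSec_smul_left (0 : Γ(X, W)) (0 : Γ(D, W)) (res B (inf_le_right : W ≤ U) e)
    rw [zero_smul, zero_smul] at h2
    exact h2.symm
  have key : ∀ z ∈ Submodule.span (X.presheaf.stalk x)
      (Set.range fun l => Groth.QCohMod.germ B x (Set.mem_univ x : x ∈ (⊤ : X.Opens)) (s l)),
      ∃ c : X.presheaf.stalk x, z = c • Groth.QCohMod.germ B x hxW (res B inf_le_right e) ∧
        c • Groth.QCohMod.germ D x hxW b = 0 := by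
    intro z hz
    induction hz using Submodule.span_induction with
    | mem y hy =>
      obtain ⟨l, rfl⟩ := hy
      refine ⟨X.presheaf.germ W x hxW (f l), ?_, ?_⟩
      · rw [← Groth.QCohMod.germ_smul, hf]
        exact (Groth.QCohMod.germ_res B le_top x hxW (s l)).symm
      · rw [← Groth.QCohMod.germ_smul, hfb, map_zero]
    | zero => exact ⟨0, (zero_smul _ _).symm, zero_smul _ _⟩
    | add y y' _ _ hy hy' =>
      obtain ⟨c, rfl, hc⟩ := hy
      obtain ⟨c', rfl, hc'⟩ := hy'
      exact ⟨c + c', (add_smul _ _ _).symm, by rw [add_smul, hc, hc', add_zero]⟩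
    | smul r y _ hy =>
      obtain ⟨c, rfl, hc⟩ := hy
      exact ⟨r * c, (mul_smul _ _ _).symm, by rw [mul_smul, hc, smul_zero]⟩
  obtain ⟨c, hc, hc0⟩ := key _ ((hs x).ge (Submodule.mem_top
    (x := Groth.QCohMod.germ B x hxW (res B inf_le_right e))))
  have hbij : Function.Bijective fun r : Fin 1 → X.presheaf.stalk x =>
      ∑ i, r i • Groth.QCohMod.germ B x hxW (res B inf_le_right e) := by
    refine CohBase.germ_basis_bijective (s := fun _ : Fin 1 => res B inf_le_right e) hxW
      fun V' hV' => ⟨fun r r' h => funext fun i => ?_, fun m => ?_⟩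
    · obtain rfl := Subsingleton.elim i 0
      simp only [Fin.sum_univ_one, res_res] at h
      exact (he V' (hV'.trans inf_le_right)).1 h
    · obtain ⟨r, hr⟩ := (he V' (hV'.trans inf_le_right)).2 m
      exact ⟨fun _ => r, by simp only [Fin.sum_univ_one, res_res]; exact hr⟩
  have h1 : (fun _ : Fin 1 => c) = fun _ => 1 := hbij.1 (by
    simp only [Fin.sum_univ_one]
    exact hc.symm.trans (one_smul _ _).symm)
  rw [congrFun h1 0, one_smul] at hc0
  exact hc0

/-- A module embeds in a finite sum of its twists by a globally generated high power. -/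
theorem exists_mono_twist {Y : Scheme.{u}} [CompactSpace Y] {Amp : Y.Modules}
    (hAmp : CohB1.IsAmple Amp) (D : Y.Modules) :
    ∃ n₀ : ℕ, ∀ d, n₀ ≤ d → ∃ (N : ℕ)
      (m : D ⟶ ∐ fun _ : Fin N => CohB1.tensorMod D (CohB1.tensorPow Amp d)), Mono m := by
  classical
  have hOi : PicF.IsInvertible (Coh.structureModule Y) := PicLoc.isInvertible_structureModule _
  have := PicAux.isQCoh_of_isInvertible hOi
  obtain ⟨n₀, hn₀⟩ := Ega2Proj.exists_spans_twist hAmp (Coh.structureModule Y)
    (Ega2Proj.isFT_of_isInvertible hOi)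
  refine ⟨n₀, fun d hd => ?_⟩
  have hP := PicAux.isInvertible_tensorPow hAmp.1 d
  have := PicAux.isQCoh_of_isInvertible hP
  let e : CohB1.tensorMod (Coh.structureModule Y) (CohB1.tensorPow Amp d) ≅ CohB1.tensorPow Amp d :=
    (PicAux.exists_braiding _ _).choose ≪≫ SecTwist.unitorR _
  have hOP := PicAux.isInvertible_of_iso hP e.symm
  have := PicAux.isQCoh_of_isInvertible hOP
  obtain ⟨S, hS⟩ := Ega2Proj.exists_finset_spans _ (Ega2Proj.isFT_of_isInvertible hOP) (hn₀ d hd)
  let s : Fin S.card → Γ(CohB1.tensorPow Amp d, (⊤ : Y.Opens)) := fun l =>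
    e.hom.app ⊤ ((S.equivFin.symm l : S) : Γ(CohB1.tensorMod (Coh.structureModule Y) (CohB1.tensorPow Amp d), (⊤ : Y.Opens)))
  have hs : ∀ x : Y, Submodule.span (Y.presheaf.stalk x)
      (Set.range fun l => Groth.QCohMod.germ (CohB1.tensorPow Amp d) x
        (Set.mem_univ x : x ∈ (⊤ : Y.Opens)) (s l)) = ⊤ := fun x => by
    have hr : (Set.range fun l => Groth.QCohMod.germ (CohB1.tensorPow Amp d) x
        (Set.mem_univ x : x ∈ (⊤ : Y.Opens)) (s l)) =
      RefHull.stalkMapₗ e.hom x '' (Groth.QCohMod.germ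
        (CohB1.tensorMod (Coh.structureModule Y) (CohB1.tensorPow Amp d)) x
        (Set.mem_univ x : x ∈ (⊤ : Y.Opens)) '' (S : Set Γ(CohB1.tensorMod (Coh.structureModule Y) (CohB1.tensorPow Amp d), (⊤ : Y.Opens)))) := by
      ext z
      constructor
      · rintro ⟨l, rfl⟩
        exact ⟨_, ⟨_, (S.equivFin.symm l).2, rfl⟩, by
          exact RefHull.stalkMapₗ_germ e.hom x (Set.mem_univ x : x ∈ (⊤ : Y.Opens)) _⟩
      · rintro ⟨_, ⟨t, ht, rfl⟩, rfl⟩
        refine ⟨S.equivFin ⟨t, ht⟩, ?_⟩
        simp only [s, Equiv.symm_apply_apply]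
        exact (RefHull.stalkMapₗ_germ e.hom x _ _).symm
    rw [hr, Submodule.span_image]
    change Submodule.map _ (Ega2Proj.spanSet _ _ x) = ⊤
    rw [hS x, Submodule.map_top, LinearMap.range_eq_top]
    exact ((Groth.QCohMod.stalk x).mapIso e).addCommGroupIsoToAddEquiv.surjective
  refine ⟨S.card, ∑ l, mulSecHom D (s l) ≫
    Sigma.ι (fun _ : Fin S.card => CohB1.tensorMod D (CohB1.tensorPow Amp d)) l,
    Preadditive.mono_of_cancel_zero _ fun g hg => mono_mulSecHom D hP s hs g fun l => ?_⟩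
  have h := congrArg (fun φ => φ ≫ Sigma.desc fun i => if i = l then
    𝟙 (CohB1.tensorMod D (CohB1.tensorPow Amp d)) else 0) hg
  simp only [Preadditive.comp_sum, Preadditive.sum_comp, Category.assoc, Sigma.ι_desc, zero_comp] at h
  rw [Finset.sum_eq_single l (fun i _ hi => by simp [hi]) (fun hl => absurd (Finset.mem_univ l) hl)] at h
  simpa using h

/-- Vanishing for a finite sum under an additive functor. -/
theorem subsingleton_HH_map_sigma {k : Type u} [Field k] {Y U : Scheme.{u}}
    [U.Over (Spec (CommRingCat.of k))] (F : Y.Modules ⥤ U.Modules) [F.Additive] {N : ℕ}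
    (M : Fin N → Y.Modules) (p : ℕ) (h : ∀ i, Subsingleton (Coh.HH U (F.obj (M i)) p)) :
    Subsingleton (Coh.HH U (F.obj (∐ M)) p) := by
  classical
  let π : ∀ i, (∐ M) ⟶ M i := fun i =>
    Sigma.desc fun j => if hji : j = i then eqToHom (congrArg M hji) else 0
  have hid : ∑ i, π i ≫ Sigma.ι M i = 𝟙 _ := by
    refine Sigma.hom_ext _ _ fun j => ?_
    rw [Preadditive.comp_sum, Finset.sum_eq_single j]
    · simp [π]
    · intro b _ hb
      simp [π, Ne.symm hb]
    · simp
  let ev : (x : Coh.HH U (F.obj (∐ M)) p) →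
      ((F.obj (∐ M) ⟶ F.obj (∐ M)) →+ Coh.HH U (F.obj (∐ M)) p) := fun x =>
    AddMonoidHom.mk' (fun φ => EulerDeg.hMap k φ p x) fun f g => Curves1.RR.hMap_add k f g p x
  refine subsingleton_of_forall_eq 0 fun x => ?_
  have h1 : ev x (𝟙 _) = x := LinearMap.congr_fun (EulerDeg.hMap_id k (F.obj (∐ M)) p) x
  rw [← h1, ← F.map_id, ← hid, Functor.map_sum, map_sum]
  refine Finset.sum_eq_zero fun i _ => ?_
  change EulerDeg.hMap k (F.map (π i ≫ Sigma.ι M i)) p x = 0
  rw [Functor.map_comp, EulerDeg.hMap_comp, LinearMap.comp_apply,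
    (h i).elim (EulerDeg.hMap k (F.map (π i)) p x) 0, map_zero]

end Groth.Misc13.NumTriv
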