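import Groth.Agent.Misc13.NumTriv.HomKer
import Groth.Agent.Misc13.NumTriv.ProjEmbed
import Groth.Agent.Misc13.NumTriv.TwistMono
import Groth.Agent.Misc13.NumTriv.TauNT
import Groth.Agent.PnCoh.ProjectionFormula
import Groth.Agent.Inter.EulerFamily
import Groth.Agent.FlatMorOne.FlatBaseChangeScheme

/-!
# On a proper scheme the numerically trivial modules lie in finitely many pieces
-/

set_option autoImplicit false
set_option linter.style.haveILetI false

universe u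

open CategoryTheory Limits AlgebraicGeometry TopologicalSpace

namespace Groth.Misc13.NumTriv

open Groth.Inter Groth.PicAux Groth.HilbStab Groth.PropsBasic.Ample

variable (k : Type u) [Field k]

/-- A family of invertible modules over an affine scheme of finite type. -/
structure AffFam (Y : Scheme.{u}) [Y.Over (Spec (CommRingCat.of k))] : Type (u + 1) where
  A : CommRingCat.{u}
  noeth : IsNoetherianRing A
  q : Spec A ⟶ Spec (CommRingCat.of k)
  lft : LocallyOfFiniteType q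
  M : (Pic13.prodK k Y q).Modules
  inv : PicF.IsInvertible M

variable {k} in
/-- Membership in an affine family. -/
def AffFam.Has {Y : Scheme.{u}} [Y.Over (Spec (CommRingCat.of k))] (P : AffFam k Y) (L : Y.Modules) :
    Prop :=
  ∃ (t : Spec (CommRingCat.of k) ⟶ Spec P.A) (ht : t ≫ P.q = 𝟙 _),
    Nonempty (Pic13.fibreMod k Y P.q t ht P.M ≅ L)

theorem isNoetherianRing_of_lft {A : CommRingCat.{u}} (q : Spec A ⟶ Spec (CommRingCat.of k))
    [LocallyOfFiniteType q] : IsNoetherianRing A := by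
  have : IsLocallyNoetherian (Spec A) := LocallyOfFiniteType.isLocallyNoetherian q
  have : IsNoetherianRing Γ(Spec A, ⊤) :=
    IsLocallyNoetherian.component_noetherian ⟨⊤, isAffineOpen_top _⟩
  exact isNoetherianRing_of_ringEquiv Γ(Spec A, ⊤) (Scheme.ΓSpecIso A).commRingCatIsoToRingEquiv

variable {Y : Scheme.{u}} [Y.Over (Spec (CommRingCat.of k))] [IsProper (Y ↘ Spec (CommRingCat.of k))]

/-- Finitely many affine families contain every numerically trivial module of a projective scheme. -/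
theorem exists_affFams [IsAlgClosed k] {Amp : Y.Modules} (hAmp : CohB1.IsAmple Amp) :
    ∃ s : Set (AffFam k Y), s.Finite ∧ ∀ L : Y.Modules, NT k L → ∃ P ∈ s, P.Has L := by
  obtain ⟨s, hs, hmem⟩ := exists_pieces k hAmp (P := NT k) (fun _ h => h.1) (isBounded_nt k hAmp)
  have hP : ∀ P : Piece k Y, ∃ S : Set (AffFam k Y), S.Finite ∧
      ∀ L, P.Has L → ∃ Q ∈ S, Q.Has L := by
    intro P
    have := P.lft
    have := P.qc
    have : CompactSpace P.W := QuasiCompact.compactSpace_of_compactSpace P.q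
    obtain ⟨S, hS, hcov⟩ := isCompact_and_isOpen_iff_finite_and_eq_biUnion_affineOpens.mp
      ⟨(isCompact_univ : IsCompact (Set.univ : Set P.W)), isOpen_univ⟩
    let mk : P.W.affineOpens → AffFam k Y := fun V =>
      have : IsOpenImmersion V.2.fromSpec := V.2.isOpenImmersion_fromSpec
      { A := Γ(P.W, V.1)
        noeth := isNoetherianRing_of_lft k (V.2.fromSpec ≫ P.q)
        q := V.2.fromSpec ≫ P.q
        lft := inferInstance
        M := (Scheme.Modules.pullback (bcMap k Y P.q V.2.fromSpec)).obj P.M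
        inv := PicAux.isInvertible_pullback _ P.inv }
    refine ⟨mk '' S, hS.image _, fun L ⟨t, ht, ⟨e⟩⟩ => ?_⟩
    obtain ⟨V, hVS, hV⟩ := Set.mem_iUnion₂.1 (hcov.le (Set.mem_univ (t (IsLocalRing.closedPoint k))))
    have : IsOpenImmersion V.2.fromSpec := V.2.isOpenImmersion_fromSpec
    let t' := IsOpenImmersion.lift V.2.fromSpec t (by
      rintro _ ⟨y, rfl⟩
      have : Subsingleton ↥(Spec (CommRingCat.of k)) := inferInstanceAs (Subsingleton (PrimeSpectrum k))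
      rw [V.2.range_fromSpec]
      rwa [Subsingleton.elim y (IsLocalRing.closedPoint k)])
    have h' : t' ≫ V.2.fromSpec = t := IsOpenImmersion.lift_fac _ _ _
    exact ⟨mk V, ⟨V, hVS, rfl⟩, t', by rw [reassoc_of% h', ht],
      ⟨fibreProdMapIso k V.2.fromSpec rfl ht _ h' P.M ≪≫ e⟩⟩
  choose S hS hSmem using hP
  refine ⟨⋃ P ∈ s, S P, hs.biUnion fun P _ => hS P, fun L hL => ?_⟩
  obtain ⟨P, hPs, hPL⟩ := hmem L hL
  obtain ⟨Q, hQ, hQL⟩ := hSmem P L hPL
  exact ⟨Q, Set.mem_iUnion₂.2 ⟨P, hPs, hQ⟩, hQL⟩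

variable {X : Scheme.{u}} [X.Over (Spec (CommRingCat.of k))] [IsProper (X ↘ Spec (CommRingCat.of k))]
  (ψ : Y ⟶ X) (hψ : ψ ≫ (X ↘ Spec (CommRingCat.of k)) = Y ↘ Spec (CommRingCat.of k))

omit [IsProper (Y ↘ Spec (CommRingCat.of k))] [IsProper (X ↘ Spec (CommRingCat.of k))] in
theorem vanishOn_iso {T : Scheme.{u}} {q : T ⟶ Spec (CommRingCat.of k)}
    {C C' : (Pic13.prodK k Y q).Modules} (e : C ≅ C') (h : VanishOn k ψ hψ q C) :
    VanishOn k ψ hψ q C' := fun x => by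
  obtain ⟨V, hV, hx, hvan⟩ := h x
  exact ⟨V, hV, hx, fun p hp => PnCoh.subsingleton_HH_of_iso
    (Scheme.Opens.ι _ ≫ (pullback.fst _ _ : Pic13.prodK k Y q ⟶ Y) ≫ (Y ↘ Spec (CommRingCat.of k)))
    ((Scheme.Modules.restrictFunctor _).mapIso e) (hvan p hp)⟩

/-- The family `D ⊗ M`. -/
noncomputable abbrev twFam {T : Scheme.{u}} (q : T ⟶ Spec (CommRingCat.of k)) (D : Y.Modules)
    (M : (Pic13.prodK k Y q).Modules) : (Pic13.prodK k Y q).Modules :=
  CohB1.tensorMod ((Scheme.Modules.pullback (pullback.fst _ _ : Pic13.prodK k Y q ⟶ Y)).obj D) M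

theorem isCoh_twFam {T : Scheme.{u}} (q : T ⟶ Spec (CommRingCat.of k)) {D : Y.Modules}
    (hD : Coh.IsCoh D) {M : (Pic13.prodK k Y q).Modules} (hM : PicF.IsInvertible M) :
    Coh.IsCoh (twFam k q D M) :=
  RefRank.isCoh_tensorMod (FlatStrata.isCoh_pullback _ hD) (Inter.isCoh_of_isInvertible hM)

theorem isFlatOver_twFam {T : Scheme.{u}} (q : T ⟶ Spec (CommRingCat.of k)) {D : Y.Modules}
    (hD : Coh.IsCoh D) {M : (Pic13.prodK k Y q).Modules} (hM : PicF.IsInvertible M) :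
    FlatMod.IsFlatOver (pullback.snd _ _ : Pic13.prodK k Y q ⟶ T) (twFam k q D M) := by
  have := hD.1
  have := (FlatStrata.isCoh_pullback (pullback.fst _ _ : Pic13.prodK k Y q ⟶ Y) hD).1
  exact FlatTwist.isFlatOver_tensorMod hM (FlatMorOne.isFlatOver_baseChange
    (IsPullback.of_hasPullback (Y ↘ Spec (CommRingCat.of k)) q) D (Inter.isFlatOver_field k _ D))

/-- The fibre of `D ⊗ M`. -/
theorem nonempty_fibre_twFam {T : Scheme.{u}} (q : T ⟶ Spec (CommRingCat.of k)) (D : Y.Modules)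
    (M : (Pic13.prodK k Y q).Modules) (t : Spec (CommRingCat.of k) ⟶ T) (ht : t ≫ q = 𝟙 _)
    {L : Y.Modules} (e : Pic13.fibreMod k Y q t ht M ≅ L) :
    Nonempty (Pic13.fibreMod k Y q t ht (twFam k q D M) ≅ CohB1.tensorMod D L) :=
  ⟨(exists_pullback_tensorMod _ _ _).choose ≪≫ PicGrp.tensorModIso
    ((Scheme.Modules.pullbackComp _ _).app D ≪≫
      (Scheme.Modules.pullbackCongr (show Pic13.sliceAt k Y q t ht ≫ pullback.fst _ _ = 𝟙 Y from
        pullback.lift_fst _ _ _)).app D ≪≫ (Scheme.Modules.pullbackId _).app D) e⟩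

/-- High twists make all families vanish on a cover. -/
theorem exists_vanish {Amp : Y.Modules} (hAmp : CohB1.IsAmple Amp) (P : AffFam k Y) {D : Y.Modules}
    (hD : Coh.IsCoh D) :
    ∃ n : ℕ, ∀ d, n ≤ d → ∀ N : ℕ, VanishOn k ψ hψ P.q
      (twFam k P.q (∐ fun _ : Fin N => CohB1.tensorMod D (CohB1.tensorPow Amp d)) P.M) := by
  have := P.noeth
  have := P.lft
  let Φ := famMap k ψ hψ P.q
  let pr : Pic13.prodK k X P.q ⟶ X := pullback.fst _ _
  let prY : Pic13.prodK k Y P.q ⟶ Y := pullback.fst _ _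
  have : IsProper Φ := isProper_famMap k ψ hψ P.q
  have : IsAffineHom pr :=
    MorphismProperty.of_isPullback (IsPullback.of_hasPullback (X ↘ Spec (CommRingCat.of k)) P.q).flip
      inferInstance
  have : IsAffineHom prY :=
    MorphismProperty.of_isPullback (IsPullback.of_hasPullback (Y ↘ Spec (CommRingCat.of k)) P.q).flip
      inferInstance
  have hN : IsNoetherian X := Inter.isNoetherian k
  have := isProper_snd k (X := X) P.q
  have := isProper_snd k (X := Y) P.q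
  have : IsLocallyNoetherian (Pic13.prodK k X P.q) :=
    LocallyOfFiniteType.isLocallyNoetherian (pullback.snd _ _ : Pic13.prodK k X P.q ⟶ Spec P.A)
  have : X.IsSeparated := CohFin.isSeparated_of_proper (X ↘ Spec (CommRingCat.of k))
  have key : ∀ V : X.affineOpens, ∃ n : ℕ, ∀ d, n ≤ d → ∀ (N : ℕ) (p : ℕ), 1 ≤ p →
      Subsingleton (Coh.HH _ ((twFam k P.q
        (∐ fun _ : Fin N => CohB1.tensorMod D (CohB1.tensorPow Amp d)) P.M).restrict
          (Φ ⁻¹ᵁ (pr ⁻¹ᵁ V.1)).ι) p) := by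
    intro V
    let U : (Pic13.prodK k Y P.q).Opens := Φ ⁻¹ᵁ (pr ⁻¹ᵁ V.1)
    have hV : IsAffineOpen (pr ⁻¹ᵁ V.1) := V.2.preimage pr
    let f := CohBase.preimageToSpec Φ (V := pr ⁻¹ᵁ V.1)
    have : IsProper f :=
      MorphismProperty.of_isPullback (CohBase.isPullback_preimageToSpec Φ hV) ‹IsProper Φ›
    have : IsNoetherianRing Γ(Pic13.prodK k X P.q, pr ⁻¹ᵁ V.1) :=
      IsLocallyNoetherian.component_noetherian ⟨_, hV⟩
    let a : (U : Scheme.{u}) ⟶ Y := U.ι ≫ prY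
    have : IsAffineHom U.ι := by
      have : IsAffine (V.1 : Scheme.{u}) := V.2
      have hc : IsAffineHom (V.1.ι ≫ (X ↘ Spec (CommRingCat.of k))) := inferInstance
      have hι : IsAffineHom V.1.ι :=
        MorphismProperty.of_postcomp (W' := @IsSeparated) @IsAffineHom V.1.ι
          (X ↘ Spec (CommRingCat.of k)) inferInstance hc
      exact MorphismProperty.of_isPullback
        (isPullback_morphismRestrict (Φ ≫ pr) V.1) hι
    have hAU : CohB1.IsAmple ((Scheme.Modules.pullback a).obj Amp) :=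
      Chow.isAmple_pullback_of_isAffineHom a hAmp
    let C₀ := twFam k P.q D P.M
    obtain ⟨n, hn⟩ := PnCoh.exists_subsingleton_of_isAmple f hAU
      ((Scheme.Modules.pullback U.ι).obj C₀) (FlatStrata.isCoh_pullback _ (isCoh_twFam k P.q hD P.inv))
    refine ⟨n, fun d hd N p hp => ?_⟩
    let instU : (U : Scheme.{u}).Over (Spec (CommRingCat.of k)) := ⟨a ≫ (Y ↘ Spec (CommRingCat.of k))⟩
    have := FlatStrata.additive_pullback prY
    have := FlatStrata.additive_pullback U.ι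
    have : (DCoh.tensorRightMod P.M).Additive := DCoh.additive_tensorRightMod _
    let F : Y.Modules ⥤ (U : Scheme.{u}).Modules :=
      Scheme.Modules.pullback prY ⋙ DCoh.tensorRightMod P.M ⋙ Scheme.Modules.pullback U.ι
    refine PnCoh.subsingleton_HH_of_iso f
      ((Scheme.Modules.restrictFunctorIsoPullback U.ι).app _).symm ?_
    refine subsingleton_HH_map_sigma (k := k) F (fun _ : Fin N => CohB1.tensorMod D (CohB1.tensorPow Amp d))
      p fun _ => PnCoh.subsingleton_HH_of_iso f ?_ (hn d hd p hp)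
    refine Iso.symm ?_
    exact (Scheme.Modules.pullback U.ι).mapIso
        (PicGrp.tensorModIso (exists_pullback_tensorMod prY D (CohB1.tensorPow Amp d)).choose (Iso.refl P.M) ≪≫
          (exists_associator _ _ _).choose ≪≫
          PicGrp.tensorModIso (Iso.refl _) (exists_braiding _ _).choose ≪≫
          (exists_associator _ _ _).choose.symm) ≪≫
      (exists_pullback_tensorMod U.ι C₀ _).choose ≪≫
      PicGrp.tensorModIso (Iso.refl _) ((Scheme.Modules.pullbackComp U.ι prY).app _ ≪≫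
        (pullback_tensorPow a Amp d).some)
  choose n hn using key
  obtain ⟨S, hS, hcov⟩ := isCompact_and_isOpen_iff_finite_and_eq_biUnion_affineOpens.mp
    ⟨(isCompact_univ : IsCompact (Set.univ : Set X)), isOpen_univ⟩
  refine ⟨hS.toFinset.sup n, fun d hd N x => ?_⟩
  obtain ⟨V, hVS, hxV⟩ := Set.mem_iUnion₂.1 (hcov.le (Set.mem_univ x))
  exact ⟨V.1, V.2, hxV, fun p hp =>
    hn V d ((Finset.le_sup (hS.mem_toFinset.2 hVS)).trans hd) N p hp⟩

include hψ in
/-- An embedding whose twists by all numerically trivial modules vanish on a cover. -/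
theorem exists_stage {Amp : Y.Modules} (hAmp : CohB1.IsAmple Amp) (s : Set (AffFam k Y)) (hs : s.Finite)
    {C : X.Modules} (hC : Coh.IsCoh C)
    (hmono : Mono ((Scheme.Modules.pullbackPushforwardAdjunction ψ).unit.app C)) :
    ∃ (D : Y.Modules) (m : C ⟶ (Scheme.Modules.pushforward ψ).obj D), Coh.IsCoh D ∧ Mono m ∧
      ∀ P ∈ s, VanishOn k ψ hψ P.q (twFam k P.q D P.M) := by
  classical
  have := CohFin.compactSpace_of_proper (Y ↘ Spec (CommRingCat.of k))
  have hD : Coh.IsCoh ((Scheme.Modules.pullback ψ).obj C) := FlatStrata.isCoh_pullback ψ hC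
  choose n hn using fun P : AffFam k Y => exists_vanish k ψ hψ hAmp P hD
  obtain ⟨n₀, hn₀⟩ := exists_mono_twist hAmp ((Scheme.Modules.pullback ψ).obj C)
  let d := max n₀ (hs.toFinset.sup n)
  obtain ⟨N, m, hm⟩ := hn₀ d (le_max_left _ _)
  refine ⟨_, (Scheme.Modules.pullbackPushforwardAdjunction ψ).unit.app C ≫
    (Scheme.Modules.pushforward ψ).map m, ?_, ?_, fun P hP =>
      hn P d ((Finset.le_sup (hs.mem_toFinset.2 hP)).trans (le_max_right _ _)) N⟩
  · have : IsLocallyNoetherian Y := LocallyOfFiniteType.isLocallyNoetherian (Y ↘ Spec (CommRingCat.of k))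
    exact PnCoh.isCoh_sigma _ fun _ => RefRank.isCoh_tensorMod hD
      (Inter.isCoh_of_isInvertible (PicAux.isInvertible_tensorPow hAmp.1 d))
  · have : Mono ((Scheme.Modules.pushforward ψ).map m) := inferInstance
    exact @mono_comp _ _ _ _ _ _ hmono _ this

omit [Y.Over (Spec (CommRingCat.of k))] [IsProper (Y ↘ Spec (CommRingCat.of k))] in
/-- Numerically trivial modules lie in finitely many pieces. -/
theorem exists_pieces_nt [IsAlgClosed k] :
    ∃ s : Set (Piece k X), s.Finite ∧ ∀ L : X.Modules, NT k L → ∃ P ∈ s, P.Has L := by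
  let p := X ↘ Spec (CommRingCat.of k)
  have hN : IsNoetherian X := Inter.isNoetherian k
  have : X.IsSeparated := CohFin.isSeparated_of_proper p
  have hO : Coh.IsCoh (Coh.structureModule X) :=
    Inter.isCoh_of_isInvertible (EulerDeg.isInvertible_structureModule X)
  obtain ⟨Y₁, ψ₁, A₁, hp₁, hA₁, hmono₁⟩ := exists_proj_mono_unit p hO
  let : Y₁.Over (Spec (CommRingCat.of k)) := ⟨ψ₁ ≫ p⟩
  have : IsProper (Y₁ ↘ Spec (CommRingCat.of k)) := hp₁
  have : IsProper ψ₁ := isProper_of_comp_over k ψ₁ rfl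
  obtain ⟨s₁, hs₁, hmem₁⟩ := exists_affFams k hA₁
  obtain ⟨D₁, m₁, hD₁, hm₁, hv₁⟩ := exists_stage k ψ₁ rfl hA₁ s₁ hs₁ hO hmono₁
  have hP₁ := Inter.isCoh_push_proper ψ₁ hD₁
  have := hO.1
  have := hP₁.1
  have hQ : Coh.IsCoh (cokernel m₁) := QCohMod.isCoh_cokernel m₁ hP₁
  obtain ⟨Y₂, ψ₂, A₂, hp₂, hA₂, hmono₂⟩ := exists_proj_mono_unit p hQ
  let : Y₂.Over (Spec (CommRingCat.of k)) := ⟨ψ₂ ≫ p⟩
  have : IsProper (Y₂ ↘ Spec (CommRingCat.of k)) := hp₂
  have : IsProper ψ₂ := isProper_of_comp_over k ψ₂ rfl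
  obtain ⟨s₂, hs₂, hmem₂⟩ := exists_affFams k hA₂
  obtain ⟨D₂, m₂, hD₂, hm₂, hv₂⟩ := exists_stage k ψ₂ rfl hA₂ s₂ hs₂ hQ hmono₂
  let δ := cokernel.π m₁ ≫ m₂
  have hker : Nonempty (kernel δ ≅ Coh.structureModule X) :=
    ⟨kernelCompMono (cokernel.π m₁) m₂ ≪≫
      (IsLimit.conePointUniqueUpToIso (Abelian.monoIsKernelOfCokernel (CokernelCofork.ofπ (cokernel.π m₁)
        (cokernel.condition m₁)) (cokernelIsCokernel m₁)) (limit.isLimit _)).symm⟩
  have hpair : ∀ c : AffFam k Y₁ × AffFam k Y₂, c.1 ∈ s₁ → c.2 ∈ s₂ →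
      ∃ S : Set (Piece k X), S.Finite ∧ ∀ L : X.Modules, PicF.IsInvertible L →
        c.1.Has ((Scheme.Modules.pullback ψ₁).obj L) → c.2.Has ((Scheme.Modules.pullback ψ₂).obj L) →
          ∃ P ∈ S, P.Has L := by
    rintro ⟨P₁, P₂⟩ hP₁s hP₂s
    have := P₁.noeth
    have := P₁.lft
    have := P₂.noeth
    have := P₂.lft
    let T := pullback P₁.q P₂.q
    have : IsAffineHom P₁.q := inferInstance
    have : IsAffineHom P₂.q := inferInstance
    let φ₁ : P₁.A ⟶ Γ(T, ⊤) := Spec.preimage (T.isoSpec.inv ≫ pullback.fst _ _)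
    let φ₂ : P₂.A ⟶ Γ(T, ⊤) := Spec.preimage (T.isoSpec.inv ≫ pullback.snd _ _)
    have hφ₁ : Spec.map φ₁ = T.isoSpec.inv ≫ pullback.fst _ _ := Spec.map_preimage _
    have hφ₂ : Spec.map φ₂ = T.isoSpec.inv ≫ pullback.snd _ _ := Spec.map_preimage _
    let q := Spec.map φ₁ ≫ P₁.q
    have he₂ : Spec.map φ₂ ≫ P₂.q = q := by
      simp only [q, hφ₁, hφ₂, Category.assoc, pullback.condition]
    have : LocallyOfFiniteType q := by
      simp only [q, hφ₁]
      infer_instance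
    have := isNoetherianRing_of_lft k q
    let g₁ := prodMap k Y₁ (Spec.map φ₁) (rfl : Spec.map φ₁ ≫ P₁.q = q)
    let g₂ := prodMap k Y₂ (Spec.map φ₂) he₂
    let M₁ := (Scheme.Modules.pullback g₁).obj P₁.M
    let M₂ := (Scheme.Modules.pullback g₂).obj P₂.M
    have hM₁ : PicF.IsInvertible M₁ := PicAux.isInvertible_pullback _ P₁.inv
    have hM₂ : PicF.IsInvertible M₂ := PicAux.isInvertible_pullback _ P₂.inv
    have hw₁ : VanishOn k ψ₁ rfl q (twFam k q D₁ M₁) :=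
      vanishOn_iso k ψ₁ rfl
        ((exists_pullback_tensorMod g₁ _ _).choose ≪≫ PicGrp.tensorModIso
          ((Scheme.Modules.pullbackComp _ _).app D₁ ≪≫
            (Scheme.Modules.pullbackCongr (prodMap_fst k (Spec.map φ₁) rfl)).app D₁) (Iso.refl _))
        (vanishOn_prodMap k ψ₁ rfl P₁.q φ₁ rfl _ (isCoh_twFam k P₁.q hD₁ P₁.inv)
          (isFlatOver_twFam k P₁.q hD₁ P₁.inv) (hv₁ P₁ hP₁s))
    have hw₂ : VanishOn k ψ₂ rfl q (twFam k q D₂ M₂) :=
      vanishOn_iso k ψ₂ rfl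
        ((exists_pullback_tensorMod g₂ _ _).choose ≪≫ PicGrp.tensorModIso
          ((Scheme.Modules.pullbackComp _ _).app D₂ ≪≫
            (Scheme.Modules.pullbackCongr (prodMap_fst k (Spec.map φ₂) he₂)).app D₂) (Iso.refl _))
        (vanishOn_prodMap k ψ₂ rfl P₂.q φ₂ he₂ _ (isCoh_twFam k P₂.q hD₂ P₂.inv)
          (isFlatOver_twFam k P₂.q hD₂ P₂.inv) (hv₂ P₂ hP₂s))
    obtain ⟨S, hS, hmemS⟩ := covered_hom_kernels k ψ₂ rfl hA₂ q
      ((Scheme.Modules.pushforward (famMap k ψ₁ rfl q)).obj (twFam k q D₁ M₁))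
      (isCoh_push_fam k ψ₁ rfl q (isCoh_twFam k q hD₁ hM₁)) (twFam k q D₂ M₂)
      (isCoh_twFam k q hD₂ hM₂) (isFlatOver_twFam k q hD₂ hM₂) hw₂
    refine ⟨S, hS, fun L hL h₁ h₂ => ?_⟩
    obtain ⟨t₁, ht₁, ⟨e₁⟩⟩ := h₁
    obtain ⟨t₂, ht₂, ⟨e₂⟩⟩ := h₂
    let tT : Spec (CommRingCat.of k) ⟶ T := pullback.lift t₁ t₂ (ht₁.trans ht₂.symm)
    let t := tT ≫ T.isoSpec.hom
    have hte₁ : t ≫ Spec.map φ₁ = t₁ := by
      simp only [t, hφ₁, Category.assoc, Iso.hom_inv_id_assoc, tT, pullback.lift_fst]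
    have hte₂ : t ≫ Spec.map φ₂ = t₂ := by
      simp only [t, hφ₂, Category.assoc, Iso.hom_inv_id_assoc, tT, pullback.lift_snd]
    have ht : t ≫ q = 𝟙 _ := by rw [reassoc_of% hte₁, ht₁]
    obtain ⟨f₁⟩ := nonempty_fibre_twFam k q D₁ M₁ t ht
      (fibreProdMapIso k (Spec.map φ₁) rfl ht₁ ht hte₁ P₁.M ≪≫ e₁)
    obtain ⟨f₂⟩ := nonempty_fibre_twFam k q D₂ M₂ t ht
      (fibreProdMapIso k (Spec.map φ₂) he₂ ht₂ ht hte₂ P₂.M ≪≫ e₂)
    have := isIso_bcSq_push k ψ₁ rfl q (twFam k q D₁ M₁) (isCoh_twFam k q hD₁ hM₁)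
      (isFlatOver_twFam k q hD₁ hM₁) hw₁ t ht
    obtain ⟨π₁, -⟩ := PnCoh.exists_projectionFormula ψ₁ D₁ hL
    obtain ⟨π₂, -⟩ := PnCoh.exists_projectionFormula ψ₂ D₂ hL
    let a : Pic13.fibreMod k X q t ht ((Scheme.Modules.pushforward (famMap k ψ₁ rfl q)).obj (twFam k q D₁ M₁)) ≅
        (DCoh.tensorRightMod L).obj ((Scheme.Modules.pushforward ψ₁).obj D₁) :=
      @asIso _ _ _ _ (Quot.bcSq (isPullback_slice_famMap k ψ₁ rfl q t ht).w (twFam k q D₁ M₁)) this ≪≫
        (Scheme.Modules.pushforward ψ₁).mapIso f₁ ≪≫ π₁.symm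
    let b : (DCoh.tensorRightMod L).obj ((Scheme.Modules.pushforward ψ₂).obj D₂) ≅
        (Scheme.Modules.pushforward ψ₂).obj (Pic13.fibreMod k Y₂ q t ht (twFam k q D₂ M₂)) :=
      π₂ ≪≫ (Scheme.Modules.pushforward ψ₂).mapIso f₂.symm
    have := isEquivalence_tensorRightMod_of_isInvertible hL
    let u := a.hom ≫ (DCoh.tensorRightMod L).map δ ≫ b.hom
    let κ : kernel u ≅ L :=
      kernelIsIsoComp a.hom _ ≪≫ kernelCompMono _ b.hom ≪≫
        (PreservesKernel.iso (DCoh.tensorRightMod L) δ).symm ≪≫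
        (DCoh.tensorRightMod L).mapIso hker.some ≪≫
        (exists_braiding _ _).choose ≪≫ SecTwist.unitorR L
    obtain ⟨P, hP, hPh⟩ := hmemS ⟨⟨t, ht⟩, u⟩ (isInvertible_of_iso hL κ.symm)
    exact ⟨P, hP, hPh.of_iso k κ⟩
  choose! S hS hSmem using hpair
  refine ⟨⋃ c ∈ s₁ ×ˢ s₂, S c, (hs₁.prod hs₂).biUnion fun c hc => hS c hc.1 hc.2, fun L hL => ?_⟩
  obtain ⟨P₁, hP₁, h₁⟩ := hmem₁ _ (nt_pullback_proper k ψ₁ rfl hL)
  obtain ⟨P₂, hP₂, h₂⟩ := hmem₂ _ (nt_pullback_proper k ψ₂ rfl hL)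
  obtain ⟨P, hP, hPL⟩ := hSmem (P₁, P₂) hP₁ hP₂ L hL.1 h₁ h₂
  exact ⟨P, Set.mem_iUnion₂.2 ⟨(P₁, P₂), ⟨hP₁, hP₂⟩, hP⟩, hPL⟩

end Groth.Misc13.NumTriv
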