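import Groth.Agent.Misc13.NumTriv.ProperNT
import Groth.Agent.S4278
import Groth.Agent.Inter.KleimanCor
import Groth.Agent.QCohMod.Killed

/-!
# Numerically trivial modules on a proper scheme: boundedness and τ-equivalence
-/

set_option autoImplicit false
set_option linter.style.haveILetI false

universe u

open CategoryTheory Limits AlgebraicGeometry TopologicalSpace

namespace Groth.Misc13.NumTriv

open Groth.Inter Groth.PicAux Groth.HilbStab Groth.PropsBasic.Ample

variable (k : Type u) [Field k] {X : Scheme.{u}} [X.Over (Spec (CommRingCat.of k))]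
  [IsProper (X ↘ Spec (CommRingCat.of k))]

/-- The members of finitely many pieces form a bounded family. -/
theorem isBounded_of_pieces (s : Set (Piece k X)) (hs : s.Finite) (P : X.Modules → Prop)
    (hP : ∀ L, P L → ∃ Q ∈ s, Q.Has L) : Pic13.IsBounded k X P := by
  classical
  obtain ⟨n, F, rfl⟩ : ∃ (n : ℕ) (F : Fin n → Piece k X), Set.range F = s := by
    have := hs.to_subtype
    have := Fintype.ofFinite s
    refine ⟨Fintype.card s, fun i => (Fintype.equivFin s).symm i, ?_⟩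
    ext Q
    exact ⟨fun ⟨i, hi⟩ => hi ▸ ((Fintype.equivFin s).symm i).2,
      fun h => ⟨Fintype.equivFin s ⟨Q, h⟩, by simp⟩⟩
  let W : ULift.{u} (Fin n) → Scheme.{u} := fun i => (F i.down).W
  let T : Scheme.{u} := ∐ W
  let q : T ⟶ Spec (CommRingCat.of k) := Sigma.desc fun i => (F i.down).q
  have hlft : LocallyOfFiniteType q := by
    rw [IsZariskiLocalAtSource.iff_of_openCover (P := @LocallyOfFiniteType.{u}) (sigmaOpenCover W)]
    intro i
    change LocallyOfFiniteType (Sigma.ι W i ≫ q)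
    rw [Sigma.ι_desc]
    exact (F i.down).lft
  have hcT : CompactSpace T := by
    have : ∀ i, CompactSpace (W i) := fun i => by
      have := (F i.down).qc
      exact QuasiCompact.compactSpace_of_compactSpace (F i.down).q
    refine ⟨?_⟩
    have : (Set.univ : Set T) = ⋃ i, Set.range (Sigma.ι W i) := by
      ext z
      simp only [Set.mem_univ, Set.mem_iUnion, true_iff]
      obtain ⟨i, y, rfl⟩ := (sigmaOpenCover W).exists_eq z
      exact ⟨i, y, rfl⟩
    rw [this]
    exact isCompact_iUnion fun i => isCompact_range (Scheme.Hom.continuous _)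
  have hqc : QuasiCompact q := by
    rw [HasAffineProperty.iff_of_isAffine (P := @QuasiCompact)]
    exact hcT
  have hdisj : ∀ i l, i ≠ l → ∀ a b, Sigma.ι W i a ≠ Sigma.ι W l b := fun i l h a b hab =>
    (disjoint_opensRange_sigmaι W i l h).le_bot (show Sigma.ι W i a ∈ _ ⊓ _ from
      ⟨⟨a, rfl⟩, ⟨b, hab.symm⟩⟩)
  have hcl : ∀ i, IsClosedImmersion (Sigma.ι W i) := fun i => by
    refine IsClosedImmersion.of_isPreimmersion _ ?_
    have : Set.range (Sigma.ι W i) = (⋃ l ∈ {l | l ≠ i}, Set.range (Sigma.ι W l))ᶜ := by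
      ext z
      constructor
      · rintro ⟨a, rfl⟩ hz
        obtain ⟨l, hl, b, hb⟩ := Set.mem_iUnion₂.1 hz
        exact hdisj l i hl b a hb
      · intro hz
        obtain ⟨l, y, rfl⟩ := (sigmaOpenCover W).exists_eq z
        by_cases hl : l = i
        · exact hl ▸ ⟨y, rfl⟩
        · exact (hz (Set.mem_iUnion₂.2 ⟨l, hl, y, rfl⟩)).elim
    rw [this]
    exact (isOpen_biUnion fun l _ => (Sigma.ι W l).isOpenEmbedding.isOpen_range).isClosed_compl
  let j : ∀ i : ULift.{u} (Fin n), Pic13.prodK k X (F i.down).q ⟶ Pic13.prodK k X q := fun i =>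
    prodMap k X (Sigma.ι W i) (Sigma.ι_desc _ i)
  have hsq : ∀ i, IsPullback (j i) (pullback.snd _ _) (pullback.snd _ _ : Pic13.prodK k X q ⟶ T)
      (Sigma.ι W i) := fun i => isPullback_prodMap k (Sigma.ι W i) _
  have hjc : ∀ i, IsClosedImmersion (j i) := fun i =>
    MorphismProperty.of_isPullback (hsq i).flip (hcl i)
  have hjo : ∀ i, IsOpenImmersion (j i) := fun i =>
    MorphismProperty.of_isPullback (hsq i).flip inferInstance
  have : IsLocallyNoetherian T := LocallyOfFiniteType.isLocallyNoetherian q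
  have := isProper_snd k (X := X) q
  have : IsLocallyNoetherian (Pic13.prodK k X q) :=
    LocallyOfFiniteType.isLocallyNoetherian (pullback.snd _ _ : Pic13.prodK k X q ⟶ T)
  let G : Fin n → (Pic13.prodK k X q).Modules := fun a =>
    (Scheme.Modules.pushforward (j ⟨a⟩)).obj (F a).M
  have hGc : ∀ a, Coh.IsCoh (G a) := fun a => by
    have := hjc ⟨a⟩
    exact Inter.isCoh_push_proper (j ⟨a⟩) (Inter.isCoh_of_isInvertible (F a).inv)
  refine ⟨T, q, hlft, hqc, ∐ G, PnCoh.isCoh_sigma _ hGc, fun L hL => ?_⟩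
  obtain ⟨_, ⟨a, rfl⟩, t, ht, ⟨e⟩⟩ := hP L hL
  let t' := t ≫ Sigma.ι W ⟨a⟩
  have ht' : t' ≫ q = 𝟙 _ := by rw [Category.assoc, Sigma.ι_desc, ht]
  have hslice : Pic13.sliceAt k X (F a).q t ht ≫ j ⟨a⟩ = Pic13.sliceAt k X q t' ht' :=
    slice_prodMap k (Sigma.ι W ⟨a⟩) _ ht' ht rfl
  let J := Scheme.Modules.pullback (j ⟨a⟩)
  have hzero : ∀ b, b ≠ a → IsZero (J.obj (G b)) := fun b hb => by
    have := hjo ⟨a⟩
    refine IsZero.of_iso ?_ ((Scheme.Modules.restrictFunctorIsoPullback (j ⟨a⟩)).app (G b)).symm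
    refine (IsZero.iff_id_eq_zero _).2 ?_
    ext V m
    refine TopCat.Presheaf.section_ext ⟨(F b).M.presheaf, (F b).M.isSheaf⟩
      (j ⟨b⟩ ⁻¹ᵁ (j ⟨a⟩ ''ᵁ V)) _ _ fun z hz => ?_
    obtain ⟨w, -, hw⟩ := hz
    have h1 := congrArg (fun f : Pic13.prodK k X (F a).q ⟶ T => f w) (hsq ⟨a⟩).w
    have h2 := congrArg (fun f : Pic13.prodK k X (F b).q ⟶ T => f z) (hsq ⟨b⟩).w
    simp only [Scheme.Hom.comp_apply] at h1 h2
    refine absurd (h1.symm.trans ((congrArg _ hw).trans h2)) (hdisj ⟨a⟩ ⟨b⟩ ?_ _ _)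
    exact fun h => hb (ULift.up_injective h).symm
  have : J.IsLeftAdjoint := (Scheme.Modules.pullbackPushforwardAdjunction (j ⟨a⟩)).isLeftAdjoint
  have := FlatStrata.additive_pullback (j ⟨a⟩)
  have hcounit : IsIso ((Scheme.Modules.pullbackPushforwardAdjunction (j ⟨a⟩)).counit.app (F a).M) := by
    have := hjc ⟨a⟩
    have := (Inter.isCoh_of_isInvertible (F a).inv).1
    exact QCohMod.isIso_counit_closedImmersion (j ⟨a⟩) (F a).M
  have hι : IsIso (J.map (Sigma.ι G a)) := by
    refine ⟨J.map (Sigma.desc fun b => if hb : b = a then eqToHom (congrArg G hb) else 0), ?_, ?_⟩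
    · rw [← Functor.map_comp, Sigma.ι_desc, dif_pos rfl, eqToHom_refl, CategoryTheory.Functor.map_id]
    · refine Cofan.IsColimit.hom_ext (isColimitOfHasCoproductOfPreservesColimit J G) _ _ fun b => ?_
      change J.map (Sigma.ι G b) ≫ _ = J.map (Sigma.ι G b) ≫ 𝟙 _
      rw [Category.comp_id, ← Category.assoc, ← Functor.map_comp, Sigma.ι_desc]
      by_cases hb : b = a
      · subst hb
        rw [dif_pos rfl, eqToHom_refl, CategoryTheory.Functor.map_id, Category.id_comp]
      · exact (hzero b hb).eq_of_src _ _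
  refine ⟨t', ht', ⟨(Scheme.Modules.pullbackCongr hslice.symm).app _ ≪≫
    ((Scheme.Modules.pullbackComp _ (j ⟨a⟩)).app _).symm ≪≫
    (Scheme.Modules.pullback _).mapIso ((@asIso _ _ _ _ (J.map (Sigma.ι G a)) hι).symm ≪≫
      @asIso _ _ _ _ ((Scheme.Modules.pullbackPushforwardAdjunction (j ⟨a⟩)).counit.app (F a).M) hcounit)
      ≪≫ e⟩⟩

/-- Two members of a piece differ by a module algebraically equivalent to zero. -/
theorem isAlgEquivZero_of_has {P : Piece k X} {L M M' : X.Modules} (hL : P.Has L) (hM : P.Has M)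
    (hM' : PicF.IsInvertible M') (hMM' : ClSub.IsInverseOf M M') :
    Pic13.IsAlgEquivZero k X (CohB1.tensorMod L M') := by
  obtain ⟨tl, htl, ⟨el⟩⟩ := hL
  obtain ⟨tm, htm, ⟨em⟩⟩ := hM
  refine ⟨P.W, P.q, P.conn, P.lft, P.qc,
    CohB1.tensorMod P.M ((Scheme.Modules.pullback (pullback.fst _ _)).obj M'),
    isInvertible_tensorMod P.inv (PicAux.isInvertible_pullback _ hM'), tl, tm, htl, htm, ⟨?_⟩, ⟨?_⟩⟩
  all_goals refine (PicAux.exists_pullback_tensorMod (Pic13.sliceAt k X P.q _ _) _ _).choose ≪≫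
    (tensor_congr ⟨Iso.refl _⟩ ⟨(Scheme.Modules.pullbackComp _ _).app M' ≪≫
      (Scheme.Modules.pullbackCongr (show Pic13.sliceAt k X P.q _ _ ≫ pullback.fst _ _ = 𝟙 X from
        pullback.lift_fst _ _ _)).app M' ≪≫ (Scheme.Modules.pullbackId _).app M'⟩).some ≪≫ ?_
  · exact (tensor_congr ⟨el⟩ ⟨Iso.refl _⟩).some
  · exact (tensor_congr ⟨em⟩ ⟨Iso.refl _⟩).some ≪≫ hMM'.some

/-- Algebraic equivalence to zero is invariant under isomorphism. -/
theorem isAlgEquivZero_iso {L L' : X.Modules} (e : L ≅ L') (h : Pic13.IsAlgEquivZero k X L) :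
    Pic13.IsAlgEquivZero k X L' := by
  obtain ⟨T, q, h1, h2, h3, M, hM, t, t₀, ht, ht₀, ⟨a⟩, hb⟩ := h
  exact ⟨T, q, h1, h2, h3, M, hM, t, t₀, ht, ht₀, ⟨a ≪≫ e⟩, hb⟩

variable [IsAlgClosed k]

/-- On a proper scheme a numerically trivial invertible module is τ-equivalent to zero. -/
theorem isTauEquivZero_of_nt_proper {L : X.Modules} (hL : NT k L) : Pic13.IsTauEquivZero k X L := by
  obtain ⟨s, hs, hmem⟩ := exists_pieces_nt k (X := X)
  choose Q hQs hQ using fun n : ℕ => hmem _ (nt_pow k hL n)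
  obtain ⟨a, b, hab, hQab⟩ : ∃ a b : ℕ, a < b ∧ Q a = Q b := by
    haveI := hs.to_subtype
    obtain ⟨a, b, hne, he⟩ :=
      Finite.exists_ne_map_eq_of_infinite (fun n : ℕ => (⟨Q n, hQs n⟩ : s))
    rcases lt_or_gt_of_ne hne with h | h
    · exact ⟨a, b, h, congrArg Subtype.val he⟩
    · exact ⟨b, a, h, congrArg Subtype.val he.symm⟩
  obtain ⟨M', hM'i, hM'⟩ := PicAux.exists_isInverseOf (isInvertible_tensorPow hL.1 a)
  refine ⟨b - a, by omega, isAlgEquivZero_iso k ?_
    (isAlgEquivZero_of_has k (hQab ▸ hQ b) (hQ a) hM'i hM')⟩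
  exact (tensor_congr ⟨eqToIso (congrArg (CohB1.tensorPow L) (by omega : b = (b - a) + a)) ≪≫
      (PicAux.tensorPow_add L (b - a) a).some⟩ ⟨Iso.refl _⟩).some ≪≫ (tensor_assoc _ _ _).some ≪≫
      (tensor_congr ⟨Iso.refl _⟩ hM').some ≪≫ (tensor_comm _ _).some ≪≫ (tensor_one _).some

/-- τ-equivalence to zero implies numerical triviality. -/
theorem nt_of_tau {L : X.Modules} (hL : PicF.IsInvertible L) (h : Pic13.IsTauEquivZero k X L) :
    NT k L :=
  nt_of_numEquivZero k hL (Groth.Agent.S4278.result k X L hL h)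

/-- Representatives of the τ-trivial modules modulo algebraic equivalence. -/
theorem exists_tau_reps :
    ∃ (q : ℕ) (M : Fin q → X.Modules), ∀ L : X.Modules, PicF.IsInvertible L →
      Pic13.IsTauEquivZero k X L → ∃ (j : Fin q) (N : X.Modules), PicF.IsInvertible N ∧
        Pic13.IsAlgEquivZero k X N ∧ Nonempty (L ≅ CohB1.tensorMod (M j) N) := by
  classical
  obtain ⟨s, hs, hmem⟩ := exists_pieces_nt k (X := X)
  let good : Set (Piece k X) := {P ∈ s | ∃ L, NT k L ∧ P.Has L}
  have hg : good.Finite := hs.subset fun _ h => h.1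
  have := hg.to_subtype
  have := Fintype.ofFinite good
  choose M hM hMP using fun P : good => P.2.2
  refine ⟨Fintype.card good, fun i => M ((Fintype.equivFin good).symm i), fun L hL hτ => ?_⟩
  obtain ⟨P, hP, hPL⟩ := hmem L (nt_of_tau k hL hτ)
  let P' : good := ⟨P, hP, L, nt_of_tau k hL hτ, hPL⟩
  obtain ⟨M', hM'i, hM'⟩ := PicAux.exists_isInverseOf (hM P').1
  refine ⟨Fintype.equivFin good P', CohB1.tensorMod L M', isInvertible_tensorMod hL hM'i,
    isAlgEquivZero_of_has k hPL (hMP P') hM'i hM', ⟨?_⟩⟩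
  simp only [Equiv.symm_apply_apply]
  exact (tensor_one L).some.symm ≪≫ (tensor_comm _ _).some ≪≫ (tensor_congr ⟨Iso.refl L⟩ ⟨hM'.some.symm⟩).some ≪≫
    (tensor_assoc _ _ _).some.symm ≪≫ (tensor_congr (tensor_comm L (M P')) ⟨Iso.refl _⟩).some ≪≫
    (tensor_assoc _ _ _).some

omit [IsAlgClosed k] in
/-- Numerical triviality descends along surjective morphisms. -/
theorem nt_of_pullback_surjective {X' : Scheme.{u}} [X'.Over (Spec (CommRingCat.of k))]
    [IsProper (X' ↘ Spec (CommRingCat.of k))] (f : X' ⟶ X)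
    (hf : f ≫ (X ↘ Spec (CommRingCat.of k)) = X' ↘ Spec (CommRingCat.of k)) [Surjective f]
    {L : X.Modules} (hL : PicF.IsInvertible L) (h : NT k ((Scheme.Modules.pullback f).obj L)) :
    NT k L := by
  obtain ⟨M, hM, hLM⟩ := PicAux.exists_isInverseOf hL
  have h' := nt_inverse k h (PicAux.isInverseOf_pullback f hLM)
  have h1 := nonneg_of_surjective k f hf hL fun F hF hd => (h.2 F hF hd).ge
  have h2 := nonneg_of_surjective k f hf hM fun F hF hd => (h'.2 F hF hd).ge
  refine ⟨hL, fun F hF hd => ?_⟩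
  have a := h1 F hF hd
  have b := h2 F hF hd
  rw [delta_inverse_one k hL hLM hF (by simpa using hd)] at b
  omega

end Groth.Misc13.NumTriv
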