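import Groth.Agent.Misc13.NumTriv.Basic

/-!
# The quotient without sections supported off a locus
-/

set_option autoImplicit false

universe u

open CategoryTheory CategoryTheory.Limits AlgebraicGeometry TopologicalSpace Opposite

namespace Groth.Misc13.NumTriv

open Groth.PicAux Groth.HilbStab Groth.PropsBasic.Ample

variable {X : Scheme.{u}} [IsLocallyNoetherian X] {M : X.Modules}

/-- As `HilbStab.exists_quotient_injective`; the kernel moreover avoids the locus. -/
theorem exists_quotient {F : X.Modules} (hF : Coh.IsCoh F) (s : Γ(M, ⊤))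
    (hqc : QuasiCompact (gloc s).ι) :
    ∃ (G : X.Modules) (q : F ⟶ G), Epi q ∧ Coh.IsCoh G ∧
      (∀ x ∈ gloc s, x ∉ CohB1.support (kernel q)) ∧ Mono (mulSec s G) := by
  haveI := hF.1
  haveI := hqc
  let η : F ⟶ (Scheme.Modules.pushforward (gloc s).ι).obj
      ((Scheme.Modules.restrictFunctor (gloc s).ι).obj F) :=
    (Scheme.Modules.restrictAdjunction (gloc s).ι).unit.app F
  haveI hq1 : ((Scheme.Modules.restrictFunctor (gloc s).ι).obj F).IsQuasicoherent :=
    inferInstance
  haveI hq2 : ((Scheme.Modules.pushforward (gloc s).ι).obj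
      ((Scheme.Modules.restrictFunctor (gloc s).ι).obj F)).IsQuasicoherent :=
    QCohMod.isQCoh_pushforward _ (gloc s).ι
  have hK : Coh.IsCoh (kernel η) := QCohMod.isCoh_kernel η hF
  haveI := hK.1
  have hG : Coh.IsCoh (Abelian.coimage η) := QCohMod.isCoh_cokernel (kernel.ι η) hF
  refine ⟨Abelian.coimage η, Abelian.coimage.π η, inferInstance, hG, fun x hx hxK => hxK ?_, ?_⟩
  · have hinj : Function.Injective ((QCohMod.stalk x).map η) := by
      have h := CohTwo.restrict_stalk_map η (gloc s) ⟨x, hx⟩
      have hsplit : Function.Injective ((QCohMod.stalk (⟨x, hx⟩ : (gloc s : Scheme.{u}))).map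
          ((Scheme.Modules.restrictFunctor (gloc s).ι).map η)) := by
        haveI : IsSplitMono ((Scheme.Modules.restrictFunctor (gloc s).ι).map η) :=
          IsSplitMono.mk' ⟨(Scheme.Modules.restrictAdjunction (gloc s).ι).counit.app _,
            Adjunction.left_triangle_components _ _⟩
        exact (AddCommGrpCat.mono_iff_injective _).1 inferInstance
      rw [h] at hsplit
      have hm := (AddCommGrpCat.mono_iff_injective _).2 hsplit
      exact (AddCommGrpCat.mono_iff_injective _).1 (mono_of_conj
        ((Scheme.Modules.restrictStalkNatIso (gloc s).ι ⟨x, hx⟩).app _)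
        ((Scheme.Modules.restrictStalkNatIso (gloc s).ι ⟨x, hx⟩).app _) _ hm)
    have hinj' : Function.Injective ((QCohMod.stalk x).map (Abelian.coimage.π η)) := fun a b hab =>
      hinj (by
        rw [← Abelian.coimage.fac η, Functor.map_comp, ConcreteCategory.comp_apply,
          ConcreteCategory.comp_apply, hab])
    haveI := (AddCommGrpCat.mono_iff_injective _).2 hinj'
    exact AddCommGrpCat.subsingleton_of_isZero
      ((isZero_kernel_of_mono ((QCohMod.stalk x).map (Abelian.coimage.π η))).of_iso
        (PreservesKernel.iso (QCohMod.stalk x) (Abelian.coimage.π η)))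
  · refine Preadditive.mono_of_kernel_zero ?_
    let m := Abelian.factorThruCoimage η
    have hmono : Mono m := inferInstance
    have hz : IsZero ((Scheme.Modules.restrictFunctor (gloc s).ι).obj (kernel (mulSec s (Abelian.coimage η)))) :=
      (QCohMod.isZero_iff_stalk _).2 fun y => CohTwo.subsingleton_stalk_restrict _ _ y
        fun hy => support_kernel_mulSec_subset s _ hy y.2
    rw [← cancel_mono m, zero_comp]
    exact ((Scheme.Modules.restrictAdjunction (gloc s).ι).homEquiv _ _).symm.injective
      (hz.eq_of_src _ _)

end Groth.Misc13.NumTriv
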