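import Groth.Agent.Misc13.NumTriv.Quot
import Groth.Agent.Variety2.Reg.Closed
import Groth.Agent.KTheory.PushProps

/-!
# Uniform regularity of numerically trivial twists

On a closed subscheme of projective space the twists of a coherent module by numerically trivial
invertible modules are uniformly regular and have constant Euler characteristic.
-/

set_option autoImplicit false
set_option linter.unusedSectionVars false

universe u

open CategoryTheory CategoryTheory.Limits AlgebraicGeometry TopologicalSpace Opposite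

namespace Groth.Misc13.NumTriv

open Groth.Inter Groth.PicAux Groth.HilbStab Groth.PropsBasic.Ample
open Groth.Variety2 (Reg.fT Reg.pF)

variable (k : Type u) [Field k] {X : Scheme.{u}} [instX : X.Over (Spec (CommRingCat.of k))]
  [IsProper (X ↘ Spec (CommRingCat.of k))] {n : ℕ} (i : X ⟶ CohB1.ProjSpace n k) [IsClosedImmersion i]

theorem isInvertible_tw (d : ℤ) :
    PicF.IsInvertible ((Scheme.Modules.pullback i).obj (Twist.twistProjSpace n k d)) :=
  PicAux.isInvertible_pullback i (PnCoh.isInvertible_twist n k d)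

theorem isCoh_twistOn {F : X.Modules} (hF : Coh.IsCoh F) (d : ℤ) : Coh.IsCoh (Pic13.twistOn k i F d) :=
  RefRank.isCoh_tensorMod hF (isCoh_of_isInvertible (isInvertible_tw k i d))

theorem twistOn_add (F : X.Modules) {a b c : ℤ} (h : a + b = c) :
    Nonempty (Pic13.twistOn k i (Pic13.twistOn k i F a) b ≅ Pic13.twistOn k i F c) := by
  subst h
  obtain ⟨e⟩ := Ega2Proj.nonempty_tensor_iso (Variety2.Reg.gen_one n k) a b
  exact ⟨(tensor_assoc _ _ _).some ≪≫ (tensor_congr ⟨Iso.refl F⟩
    ⟨(exists_pullback_tensorMod i _ _).choose.symm ≪≫ (Scheme.Modules.pullback i).mapIso e⟩).some⟩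

theorem twistOn_zero (F : X.Modules) : Nonempty (Pic13.twistOn k i F 0 ≅ F) :=
  ⟨(tensor_congr ⟨Iso.refl F⟩ ⟨(Scheme.Modules.pullback i).mapIso Variety2.Reg.nonempty_twist_zero.some ≪≫
    (pullback_structure_iso i).some⟩).some ≪≫ (tensor_comm F _).some ≪≫ (tensor_one F).some⟩

theorem twistOn_congr {F G : X.Modules} (e : F ≅ G) (d : ℤ) :
    Nonempty (Pic13.twistOn k i F d ≅ Pic13.twistOn k i G d) :=
  tensor_congr ⟨e⟩ ⟨Iso.refl _⟩

theorem twistOn_tensor (F L : X.Modules) (d : ℤ) :
    Nonempty (Pic13.twistOn k i (CohB1.tensorMod F L) d ≅ CohB1.tensorMod (Pic13.twistOn k i F d) L) :=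
  ⟨(tensor_assoc F L _).some ≪≫ (tensor_congr ⟨Iso.refl F⟩ (tensor_comm L _)).some ≪≫
    (tensor_assoc F _ L).some.symm⟩

omit [IsProper (X ↘ Spec (CommRingCat.of k))] in
theorem finrank_twistOn (hi : i ≫ CohB1.ProjSpace.toSpec n k = X ↘ Spec (CommRingCat.of k)) (F : X.Modules)
    [F.IsQuasicoherent] (d : ℤ) (q : ℕ) :
    Module.finrank k (Coh.HH _ (Reg.fT (Reg.pF i F) d) q) =
      Module.finrank k (Coh.HH X (Pic13.twistOn k i F d) q) := by
  cases instX with
  | ofHom g =>
  obtain rfl : i ≫ CohB1.ProjSpace.toSpec n k = g := hi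
  obtain ⟨e⟩ := PnCoh.nonempty_linearEquiv_push_twist n k i F d q
  exact e.finrank_eq

theorem support_subset_of_iso {M N : X.Modules} (e : M ≅ N) :
    CohB1.support M ⊆ CohB1.support N := fun x hx hN => by
  refine hx ?_
  haveI : Subsingleton ((QCohMod.stalk x).obj N) := hN
  exact ((QCohMod.stalk x).mapIso e).addCommGroupIsoToAddEquiv.toEquiv.subsingleton

theorem mReg_mono {F : X.Modules} (hF : Coh.IsCoh F) {m m' : ℤ} (h : Pic13.IsMRegular k i F m)
    (hm : m ≤ m') : Pic13.IsMRegular k i F m' :=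
  haveI := hF.1
  Variety2.Reg.mReg_of_pF i F hF (Variety2.Reg.mReg_pF i F h) hm

theorem mReg_iso {F G : X.Modules} (e : F ≅ G) {m : ℤ} (h : Pic13.IsMRegular k i F m) :
    Pic13.IsMRegular k i G m :=
  fun q hq => Inter.subsingleton_HH_of_iso k (twistOn_congr k i e _).some (h q hq)

/-- Constant Euler characteristic and uniform regularity. -/
def GoodNT (F : X.Modules) : Prop :=
  (∀ L : X.Modules, NT k L → delta k [L] F = 0) ∧
    ∃ m : ℤ, ∀ L : X.Modules, NT k L → Pic13.IsMRegular k i (CohB1.tensorMod F L) m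

theorem goodNT_iso {F G : X.Modules} (e : F ≅ G) (h : GoodNT k i F) : GoodNT k i G := by
  obtain ⟨h1, m, h2⟩ := h
  exact ⟨fun L hL => (delta_congr k [L] ⟨e⟩).symm.trans (h1 L hL),
    m, fun L hL => mReg_iso k i (tensor_congr ⟨e⟩ ⟨Iso.refl L⟩).some (h2 L hL)⟩

theorem goodNT_isZero {F : X.Modules} (h : IsZero F) : GoodNT k i F :=
  ⟨fun L _ => delta_of_isZero k [L] h, 0, fun L _ q _ =>
    Variety2.Reg.subsingleton_of_isZero' k
      ((DCoh.tensorRightMod _).map_isZero ((DCoh.tensorRightMod L).map_isZero h)) q⟩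

theorem goodNT_ext {S : ShortComplex X.Modules} (hS : S.ShortExact) (h₁ : Coh.IsCoh S.X₁)
    (h₂ : Coh.IsCoh S.X₂) (h₃ : Coh.IsCoh S.X₃) (b₁ : GoodNT k i S.X₁) (b₃ : GoodNT k i S.X₃) :
    GoodNT k i S.X₂ := by
  obtain ⟨d₁, m₁, r₁⟩ := b₁
  obtain ⟨d₃, m₃, r₃⟩ := b₃
  refine ⟨fun L hL => ?_, max m₁ m₃, fun L hL q hq => ?_⟩
  · rw [delta_add k (l := [L]) (by simpa using hL.1) hS h₁ h₃, d₁ L hL, d₃ L hL, add_zero]
  · have hc : ∀ {F : X.Modules}, Coh.IsCoh F → Coh.IsCoh (CohB1.tensorMod F L) :=
      fun hF => RefRank.isCoh_tensorMod hF (isCoh_of_isInvertible hL.1)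
    exact Variety2.Reg.subsingleton_mid k
      (shortExact_tensorRightMod (isInvertible_tw k i _) (shortExact_tensorRightMod hL.1 hS))
      (mReg_mono k i (hc h₁) (r₁ L hL) (le_max_left _ _) q hq)
      (mReg_mono k i (hc h₃) (r₃ L hL) (le_max_right _ _) q hq)

theorem int_const {α : Type*} (e : ℤ → α) (h : ∀ d, e d = e (d - 1)) (d : ℤ) : e d = e 0 := by
  induction d using Int.induction_on with
  | zero => rfl
  | succ a ih => rw [h, add_sub_cancel_right, ih]
  | pred a ih => rw [← h, ih]

/-- A module with a regular linear section whose zero locus is good is good. -/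
theorem goodNT_step (hi : i ≫ CohB1.ProjSpace.toSpec n k = X ↘ Spec (CommRingCat.of k))
    {A : X.Modules} (hA : CohB1.IsAmple A) (ξ : X)
    (hsmall : ∀ G : X.Modules, Coh.IsCoh G → CohB1.support G ⊆ closure {ξ} → ξ ∉ CohB1.support G →
      GoodNT k i G)
    {G : X.Modules} (hG : Coh.IsCoh G) (hGY : CohB1.support G ⊆ closure {ξ})
    (t : Γ((Scheme.Modules.pullback i).obj (Twist.twistProjSpace n k 1), (⊤ : X.Opens)))
    (hξt : ξ ∈ gloc t) (hmono : Mono (mulSec t G)) : GoodNT k i G := by
  have hN : IsNoetherian X := isNoetherian k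
  haveI := hG.1
  let G₁ := Pic13.twistOn k i G (-1)
  have hG₁ : Coh.IsCoh G₁ := isCoh_twistOn k i hG _
  haveI := hG₁.1
  have hm₁ : Mono (mulSec t G₁) := by
    obtain ⟨e, he⟩ := exists_swap_mulSec t G
      ((Scheme.Modules.pullback i).obj (Twist.twistProjSpace n k (-1)))
    have h1 : Mono ((DCoh.tensorRightMod ((Scheme.Modules.pullback i).obj
        (Twist.twistProjSpace n k (-1)))).map (mulSec t G)) :=
      (shortExact_tensorRightMod (isInvertible_tw k i _) (CohTwo.cokerSeq_shortExact (mulSec t G))).mono_f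
    have h2 : Mono e.hom := inferInstance
    have h3 := @mono_comp _ _ _ _ _ _ h1 e.hom h2
    rw [he] at h3
    exact h3
  let e₀ : CohB1.tensorMod G₁ ((Scheme.Modules.pullback i).obj (Twist.twistProjSpace n k 1)) ≅ G :=
    (twistOn_add k i G (show (-1 : ℤ) + 1 = 0 by norm_num)).some ≪≫ (twistOn_zero k i G).some
  let ι := mulSec t G₁ ≫ e₀.hom
  have : Mono ι := mono_comp _ _
  let Q := cokernel ι
  have hQ : Coh.IsCoh Q := QCohMod.isCoh_cokernel ι hG
  haveI := hQ.1
  have hQY : CohB1.support Q ⊆ closure {ξ} :=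
    (KTheory.Devissage.support_subset_of_epi (cokernel.π ι)).trans hGY
  have hQξ : ξ ∉ CohB1.support Q := fun h => by
    have h' := support_subset_of_iso (cokernelCompIsIso (mulSec t G₁) e₀.hom) h
    exact support_cokernel_mulSec_subset t G₁ h' hξt
  have hQd : ∀ d : ℤ, GoodNT k i (Pic13.twistOn k i Q d) := fun d =>
    hsmall _ (isCoh_twistOn k i hQ d)
      ((HilbStab.support_tensorMod_subset (isInvertible_tw k i d) Q).trans hQY)
      (fun h => hQξ (HilbStab.support_tensorMod_subset (isInvertible_tw k i d) Q h))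
  obtain ⟨-, m, hm⟩ := hsmall Q hQ hQY hQξ
  -- the facts on projective space
  have hfacts : ∀ L : X.Modules, NT k L →
      (∀ (q : ℕ) (j : ℤ), 2 ≤ q → m - q ≤ j →
        Subsingleton (Coh.HH X (Pic13.twistOn k i (CohB1.tensorMod G L) j) q)) ∧
      (∀ j : ℤ, m - 1 + (Module.finrank k
          (Coh.HH X (Pic13.twistOn k i (CohB1.tensorMod G L) (m - 1)) 1) : ℤ) ≤ j →
        Subsingleton (Coh.HH X (Pic13.twistOn k i (CohB1.tensorMod G L) j) 1)) := by
    intro L hL
    have hc : ∀ {F : X.Modules}, Coh.IsCoh F → Coh.IsCoh (CohB1.tensorMod F L) :=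
      fun hF => RefRank.isCoh_tensorMod hF (isCoh_of_isInvertible hL.1)
    have hGL := hc hG
    haveI := hGL.1
    haveI := (hc hG₁).1
    haveI := (hc hQ).1
    let S := (ShortComplex.mk ι (cokernel.π ι) (cokernel.condition ι)).map (DCoh.tensorRightMod L)
    have hS : S.ShortExact := shortExact_tensorRightMod hL.1 (Variety2.Reg.cokernel_shortExact ι)
    haveI : S.X₁.IsQuasicoherent := (hc hG₁).1
    haveI : S.X₂.IsQuasicoherent := hGL.1
    haveI : S.X₃.IsQuasicoherent := (hc hQ).1
    have hP := KTheory.PushProps.shortExact_push i hS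
    haveI := hP.mono_f
    obtain ⟨θ, -⟩ := PnCoh.exists_projectionFormula i (CohB1.tensorMod G L)
      (PnCoh.isInvertible_twist n k (-1))
    let φ : Reg.fT (Reg.pF i (CohB1.tensorMod G L)) (-1) ≅
        (S.map (Scheme.Modules.pushforward i)).X₁ :=
      θ ≪≫ (Scheme.Modules.pushforward i).mapIso (twistOn_tensor k i G L (-1)).some
    let ι' : CohB1.tensorMod (Reg.pF i (CohB1.tensorMod G L)) (Twist.twistProjSpace n k (-1)) ⟶
        Reg.pF i (CohB1.tensorMod G L) := φ.hom ≫ (S.map (Scheme.Modules.pushforward i)).f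
    haveI hmι : Mono ι' := mono_comp φ.hom (S.map (Scheme.Modules.pushforward i)).f
    let c : cokernel ι' ≅ Reg.pF i (CohB1.tensorMod Q L) :=
      cokernelEpiComp φ.hom (S.map (Scheme.Modules.pushforward i)).f ≪≫
        (cokernelIsCokernel _).coconePointUniqueUpToIso hP.gIsCokernel
    have hreg : Curv2.IsMRegular k n (cokernel ι') m := fun q hq hqn =>
      Variety2.Reg.subsingleton_of_iso (X := CohB1.ProjSpace n k) k
        (tensor_congr ⟨c⟩ ⟨Iso.refl (Twist.twistProjSpace n k (m - q))⟩).some.symm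
        (Variety2.Reg.mReg_pF i _ (hm L hL) q hq hqn)
    obtain ⟨f1, -, f3⟩ := Variety2.Reg.cokernel_twist_facts (Variety2.Reg.isCoh_pF i _ hGL) ι' hreg
    refine ⟨fun q j hq hj => (Variety2.Reg.subsingleton_twistOn_iff i _ j q).2 (f1 q j hq hj),
      fun j hj => (Variety2.Reg.subsingleton_twistOn_iff i _ j 1).2 (f3 j ?_)⟩
    rwa [finrank_twistOn k i hi]
  let W := Pic13.twistOn k i G (m - 1)
  have hW : Coh.IsCoh W := isCoh_twistOn k i hG _
  obtain ⟨C, hC⟩ := bndNT k hA hW
  have hχ : ∀ L : X.Modules, NT k L → Curv2.euler k X (CohB1.tensorMod L W) =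
      (Module.finrank k (Coh.HH X (CohB1.tensorMod W L) 0) : ℤ) -
        (Module.finrank k (Coh.HH X (Pic13.twistOn k i (CohB1.tensorMod G L) (m - 1)) 1) : ℤ) := by
    intro L hL
    rw [EulerDeg.euler_congr k ((tensor_comm L W).some ≪≫ (twistOn_tensor k i G L (m - 1)).some.symm),
      EulerDeg.euler_eq_sum (k := k) (N := 2) fun q hq => (hfacts L hL).1 q (m - 1) hq (by omega)]
    rw [Finset.sum_range_succ, Finset.sum_range_one,
      finrank_h0_congr k (twistOn_tensor k i G L (m - 1)).some]
    ring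
  -- second differences vanish
  have h2 : ∀ (L M : X.Modules), NT k L → NT k M → ∀ {V : X.Modules}, Coh.IsCoh V →
      CohB1.support V ⊆ closure {ξ} → delta k [L] (CohB1.tensorMod M V) = delta k [L] V := by
    intro L M hL hM V hV hVY
    obtain ⟨d, hd⟩ := Variety2.Dim.exists_height_eq (X ↘ Spec (CommRingCat.of k)) ξ
    obtain ⟨Q₁, Q₂, c₁, c₂, d₁, s₁, d₂, s₂, hQ12⟩ := exists_delta_eq_sub k hM.1
      (Y := ⟨closure {ξ}, isClosed_closure⟩) (ξ := ξ) rfl (n := d)
      (by rw [show ((⟨closure {ξ}, isClosed_closure⟩ : Closeds X) : Set X) = closure {ξ} from rfl,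
        Variety2.Dim.dim_closure_singleton, hd]; rfl) hV hVY
    have hnot : ∀ {R : X.Modules}, Coh.IsCoh R →
        topologicalKrullDim (CohB1.support R) < (d : ℕ) → ξ ∉ CohB1.support R := fun {R} hR hlt hξ =>
      absurd hlt (not_lt.2 (le_trans (by rw [Variety2.Dim.dim_closure_singleton, hd]; rfl)
        (LocCohTransform.topologicalKrullDim_mono
          (closure_minimal (Set.singleton_subset_iff.2 hξ) (CohTwo.isClosed_support _ hR)))))
    have h0 := hQ12 [L] (by simpa using hL.1)
    rw [(hsmall Q₁ c₁ s₁ (hnot c₁ d₁)).1 L hL, (hsmall Q₂ c₂ s₂ (hnot c₂ d₂)).1 L hL, delta_cons] at h0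
    omega
  -- the Euler characteristic is constant
  have hWY : CohB1.support W ⊆ closure {ξ} :=
    (HilbStab.support_tensorMod_subset (isInvertible_tw k i _) G).trans hGY
  have hnonneg : ∀ L : X.Modules, NT k L → 0 ≤ delta k [L] W := by
    intro L hL
    have hlin : ∀ a : ℕ, Curv2.euler k X (CohB1.tensorMod (CohB1.tensorPow L a) W) =
        Curv2.euler k X W - (a : ℤ) * delta k [L] W := by
      intro a
      induction a with
      | zero => simp [EulerDeg.euler_congr k (show CohB1.tensorMod (CohB1.tensorPow L 0) W ≅ W from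
          (tensor_one W).some)]
      | succ a ih =>
        have e : delta k [L] (CohB1.tensorMod (CohB1.tensorPow L a) W) = delta k [L] W :=
          h2 L _ hL (nt_pow k hL a) hW hWY
        rw [delta_cons, delta_nil, delta_nil, ih] at e
        have e1 : CohB1.tensorMod (CohB1.tensorPow L (a + 1)) W ≅
            CohB1.tensorMod L (CohB1.tensorMod (CohB1.tensorPow L a) W) :=
          (tensor_assoc _ L W).some ≪≫ (tensor_left_comm _ L W).some
        rw [EulerDeg.euler_congr k e1]
        push_cast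
        linarith
    by_contra hneg
    let a := C + (Curv2.euler k X W).natAbs + 1
    have h1 := hlin a
    rw [hχ _ (nt_pow k hL a)] at h1
    have h3 := hC _ (nt_pow k hL a)
    have h4 : (a : ℤ) * delta k [L] W ≤ (a : ℤ) * (-1) := mul_le_mul_of_nonneg_left (by omega) (by positivity)
    omega
  have hδW : ∀ L : X.Modules, NT k L → delta k [L] W = 0 := by
    intro L hL
    obtain ⟨M, hM, hLM⟩ := exists_isInverseOf hL.1
    have hMnt := nt_inverse k hL hLM
    have e1 := h2 L M hL hMnt hW hWY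
    have e2 : delta k [L] (CohB1.tensorMod M W) = - delta k [M] W := by
      rw [delta_cons, delta_nil, delta_nil, delta_cons, delta_nil, delta_nil,
        EulerDeg.euler_congr k ((tensor_assoc L M W).some.symm ≪≫ (tensor_congr hLM ⟨Iso.refl W⟩).some ≪≫
          (tensor_one W).some)]
      ring
    have := hnonneg L hL
    have := hnonneg M hMnt
    omega
  have hδ : ∀ L : X.Modules, NT k L → ∀ d : ℤ, delta k [L] (Pic13.twistOn k i G d) = delta k [L] G := by
    intro L hL d
    rw [int_const (fun d => delta k [L] (Pic13.twistOn k i G d)) (fun d => ?_) d,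
      delta_congr k [L] (twistOn_zero k i G)]
    have h := delta_add k (l := [L]) (by simpa using hL.1)
      (shortExact_tensorRightMod (isInvertible_tw k i d) (Variety2.Reg.cokernel_shortExact ι))
      (isCoh_twistOn k i hG₁ d) (isCoh_twistOn k i hQ d)
    change delta k [L] (Pic13.twistOn k i G d) =
      delta k [L] (Pic13.twistOn k i (Pic13.twistOn k i G (-1)) d) + delta k [L] (Pic13.twistOn k i Q d) at h
    rw [(hQd d).1 L hL, add_zero, delta_congr k [L] (twistOn_add k i G (show -1 + d = d - 1 by ring))] at h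
    exact h
  have hzero : ∀ L : X.Modules, NT k L → delta k [L] G = 0 := fun L hL =>
    (hδ L hL (m - 1)).symm.trans (hδW L hL)
  refine ⟨hzero, m + ((C + (Curv2.euler k X W).natAbs : ℕ) : ℤ), fun L hL q hq => ?_⟩
  rcases (show q = 1 ∨ 2 ≤ q by omega) with rfl | hq2
  · refine (hfacts L hL).2 _ ?_
    have e := hχ L hL
    have e' := hδW L hL
    rw [delta_cons, delta_nil, delta_nil] at e'
    have := hC L hL
    omega
  · exact (hfacts L hL).1 q _ hq2 (by omega)

/-- Numerically trivial twists of a coherent module: constant Euler characteristic and uniform regularity. -/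
theorem goodNT (hi : i ≫ CohB1.ProjSpace.toSpec n k = X ↘ Spec (CommRingCat.of k))
    {A : X.Modules} (hA : CohB1.IsAmple A) {F : X.Modules} (hF : Coh.IsCoh F) : GoodNT k i F := by
  have hN : IsNoetherian X := isNoetherian k
  have := quasiSeparatedSpace_of_quasiSeparated (X ↘ Spec (CommRingCat.of k))
  refine CohTwo.coh_induction (GoodNT k i) (fun _ _ e h => goodNT_iso k i e.some h)
    (fun _ h => goodNT_isZero k i h) (fun S hS a b c p q => goodNT_ext k i hS a b c p q)
    (CohB1.support F) ?_ (CohTwo.isClosed_support F hF) F hF subset_rfl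
  intro Y ξ hY _ G hG hkill hsmall
  obtain rfl : Y = ⟨closure {ξ}, isClosed_closure⟩ := Closeds.ext hY
  haveI := hG.1
  have hGY : CohB1.support G ⊆ closure {ξ} :=
    hkill.support_subset.trans (by rw [Scheme.IdealSheafData.coe_support_vanishingIdeal]; rfl)
  have hN1 : PicF.IsInvertible (Twist.twistProjSpace n k 1) := PnCoh.isInvertible_twist n k 1
  obtain ⟨t₀, ht₀⟩ := VarietyBC.GGen.exists_mem_gloc hN1
    (Variety2.Reg.DetByGlobal.isGloballyGenerated (Variety2.Reg.detByGlobal_twist (n := n) (k := k) 1)) (i ξ)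
  let t : Γ((Scheme.Modules.pullback i).obj (Twist.twistProjSpace n k 1), (⊤ : X.Opens)) :=
    pullSec i (Twist.twistProjSpace n k 1) t₀
  have hξt : ξ ∈ gloc t := by
    have e := gloc_pullSec i hN1 t₀
    exact e.symm ▸ ht₀
  obtain ⟨G', p, hp, hG', hker, hmono⟩ := exists_quotient hG t inferInstance
  have := hG.1
  have := hG'.1
  have hS : (ShortComplex.mk (kernel.ι p) p (kernel.condition p)).ShortExact :=
    { exact := ShortComplex.exact_of_f_is_kernel _ (kernelIsKernel p) }
  have hK := QCohMod.isCoh_kernel p hG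
  refine goodNT_ext k i (S := ShortComplex.mk (kernel.ι p) p (kernel.condition p)) hS hK hG hG'
    (hsmall _ hK ((KTheory.Devissage.support_subset_of_mono (kernel.ι p)).trans hGY) (hker ξ hξt)) ?_
  exact goodNT_step k i hi hA ξ hsmall hG' ((KTheory.Devissage.support_subset_of_epi p).trans hGY) t hξt hmono

end Groth.Misc13.NumTriv
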