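import Groth.Agent.FlatStrata.Uniform
import Groth.Agent.FlatMorOne.FlatBaseChangeScheme
import Groth.Agent.Pic13Aux.BoundedRegular
import Groth.Prelude.Def_Pic13

/-!
# Covering the rational points of a parameter scheme by affine pieces over which a module is flat
-/

set_option autoImplicit false
set_option linter.style.haveILetI false

universe u

open CategoryTheory Limits AlgebraicGeometry TopologicalSpace

namespace Groth.Misc13.NumTriv

variable (k : Type u) [Field k] {X : Scheme.{u}} [X.Over (Spec (CommRingCat.of k))]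

/-- An affine scheme of finite type over `T`. -/
structure Chart (T : Scheme.{u}) : Type (u + 1) where
  R : CommRingCat.{u}
  e : Spec R ⟶ T
  lft : LocallyOfFiniteType e

variable (X) in
/-- The map `X ×_k T' ⟶ X ×_k T` induced by a map of parameter schemes. -/
noncomputable def prodMap {T T' : Scheme.{u}} {q : T ⟶ Spec (CommRingCat.of k)}
    {q' : T' ⟶ Spec (CommRingCat.of k)} (e : T' ⟶ T) (he : e ≫ q = q') :
    Pic13.prodK k X q' ⟶ Pic13.prodK k X q :=
  pullback.map _ _ _ _ (𝟙 X) e (𝟙 _) (by simp) (by simp [he])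

variable (X) in
/-- The base change of `X ×_k T` along `e`. -/
noncomputable abbrev bcMap {T T' : Scheme.{u}} (q : T ⟶ Spec (CommRingCat.of k)) (e : T' ⟶ T) :
    Pic13.prodK k X (e ≫ q) ⟶ Pic13.prodK k X q :=
  prodMap k X e rfl

section ProdMap

variable {T T' T'' : Scheme.{u}} {q : T ⟶ Spec (CommRingCat.of k)}
  {q' : T' ⟶ Spec (CommRingCat.of k)} {q'' : T'' ⟶ Spec (CommRingCat.of k)}
  (e : T' ⟶ T) (he : e ≫ q = q')

theorem prodMap_fst : prodMap k X e he ≫ pullback.fst _ _ = pullback.fst _ _ :=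
  (pullback.lift_fst _ _ _).trans (Category.comp_id _)

theorem prodMap_snd : prodMap k X e he ≫ pullback.snd _ _ = pullback.snd _ _ ≫ e :=
  pullback.lift_snd _ _ _

theorem isPullback_prodMap :
    IsPullback (prodMap k X e he) (pullback.snd _ _) (pullback.snd _ _ : Pic13.prodK k X q ⟶ T) e := by
  refine IsPullback.of_right ?_ (prodMap_snd k e he) (IsPullback.of_hasPullback _ _)
  rw [prodMap_fst, he]
  exact IsPullback.of_hasPullback _ _

theorem prodMap_comp (e' : T'' ⟶ T') (he' : e' ≫ q' = q'') (he'' : (e' ≫ e) ≫ q = q'') :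
    prodMap k X e' he' ≫ prodMap k X e he = prodMap k X (e' ≫ e) he'' := by
  apply pullback.hom_ext
  · rw [Category.assoc, prodMap_fst, prodMap_fst, prodMap_fst]
  · rw [Category.assoc, prodMap_snd, prodMap_snd, ← Category.assoc, prodMap_snd, Category.assoc]

theorem slice_prodMap {t : Spec (CommRingCat.of k) ⟶ T} (ht : t ≫ q = 𝟙 _)
    {t' : Spec (CommRingCat.of k) ⟶ T'} (ht' : t' ≫ q' = 𝟙 _) (h : t' ≫ e = t) :
    Pic13.sliceAt k X q' t' ht' ≫ prodMap k X e he = Pic13.sliceAt k X q t ht := by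
  apply pullback.hom_ext
  · rw [Category.assoc, prodMap_fst, Pic13.sliceAt, Pic13.sliceAt]
    erw [pullback.lift_fst, pullback.lift_fst]
  · rw [Category.assoc, prodMap_snd, Pic13.sliceAt, Pic13.sliceAt]
    erw [pullback.lift_snd_assoc, pullback.lift_snd]
    rw [Category.assoc, h]

/-- Fibres of the base change. -/
noncomputable def fibreProdMapIso {t : Spec (CommRingCat.of k) ⟶ T} (ht : t ≫ q = 𝟙 _)
    {t' : Spec (CommRingCat.of k) ⟶ T'} (ht' : t' ≫ q' = 𝟙 _) (h : t' ≫ e = t)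
    (F : (Pic13.prodK k X q).Modules) :
    Pic13.fibreMod k X q' t' ht' ((Scheme.Modules.pullback (prodMap k X e he)).obj F) ≅
      Pic13.fibreMod k X q t ht F :=
  (Scheme.Modules.pullbackComp _ _).app F ≪≫
    (Scheme.Modules.pullbackCongr (slice_prodMap k e he ht ht' h)).app F

theorem isFlatOver_prodMap (F : (Pic13.prodK k X q).Modules) [F.IsQuasicoherent]
    (hF : FlatMod.IsFlatOver (pullback.snd _ _ : Pic13.prodK k X q ⟶ T) F) :
    FlatMod.IsFlatOver (pullback.snd _ _) ((Scheme.Modules.pullback (prodMap k X e he)).obj F) :=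
  FlatMorOne.isFlatOver_baseChange (isPullback_prodMap k e he) F hF

end ProdMap

variable [IsProper (X ↘ Spec (CommRingCat.of k))]

theorem isProper_snd {T : Scheme.{u}} (q : T ⟶ Spec (CommRingCat.of k)) :
    IsProper (pullback.snd _ _ : Pic13.prodK k X q ⟶ T) :=
  MorphismProperty.of_isPullback (IsPullback.of_hasPullback (X ↘ Spec (CommRingCat.of k)) q)
    inferInstance

/-- Affine base: the rational points are covered by finitely many flat pieces. -/
theorem exists_flat_cover_affine {A : CommRingCat.{u}} [IsNoetherianRing A]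
    (q : Spec A ⟶ Spec (CommRingCat.of k)) (F : (Pic13.prodK k X q).Modules) (hF : Coh.IsCoh F) :
    ∃ s : Set (Chart (Spec A)), s.Finite ∧
      (∀ c ∈ s, ∀ (q' : Spec c.R ⟶ Spec (CommRingCat.of k)) (h : c.e ≫ q = q'),
        FlatMod.IsFlatOver (pullback.snd _ _)
          ((Scheme.Modules.pullback (prodMap k X c.e h)).obj F)) ∧
      ∀ t : Spec (CommRingCat.of k) ⟶ Spec A, t ≫ q = 𝟙 _ → ∃ c ∈ s, ∃ t', t' ≫ c.e = t := by
  let instO : (Pic13.prodK k X q).Over (Spec (CommRingCat.of A)) := ⟨pullback.snd _ _⟩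
  have : IsProper (Pic13.prodK k X q ↘ Spec (CommRingCat.of A)) := isProper_snd k q
  suffices h : ∀ I : Ideal A, ∃ s : Set (Chart (Spec A)), s.Finite ∧
      (∀ c ∈ s, ∀ (q' : Spec c.R ⟶ Spec (CommRingCat.of k)) (h : c.e ≫ q = q'),
        FlatMod.IsFlatOver (pullback.snd _ _)
          ((Scheme.Modules.pullback (prodMap k X c.e h)).obj F)) ∧
      ∀ φ : A ⟶ CommRingCat.of k, I ≤ RingHom.ker φ.hom → Spec.map φ ≫ q = 𝟙 _ →
        ∃ c ∈ s, ∃ t', t' ≫ c.e = Spec.map φ by
    obtain ⟨s, hs, hfl, hcov⟩ := h ⊥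
    refine ⟨s, hs, hfl, fun t ht => ?_⟩
    obtain ⟨φ, rfl⟩ : ∃ φ, Spec.map φ = t := ⟨Spec.preimage t, Spec.map_preimage t⟩
    exact hcov φ bot_le ht
  intro I
  induction I using WellFoundedGT.induction with
  | ind I ih =>
  by_cases htop : I = ⊤
  · refine ⟨∅, Set.finite_empty, fun _ h => h.elim, fun φ hφ _ => ?_⟩
    exact absurd (top_le_iff.1 (htop ▸ hφ)) (RingHom.ker_ne_top _)
  have hlt : ∀ x, x ∉ I → I < I ⊔ Ideal.span {x} := fun x hx =>
    lt_of_le_of_ne le_sup_left fun h => hx (h.ge (Ideal.mem_sup_right (Ideal.mem_span_singleton_self x)))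
  by_cases hp : I.IsPrime
  swap
  · obtain ⟨x, hx, y, hy, hxy⟩ : ∃ x, x ∉ I ∧ ∃ y, y ∉ I ∧ x * y ∈ I := by
      by_contra hne
      push Not at hne
      exact hp ⟨htop, fun {x y} hxy =>
        or_iff_not_imp_left.2 fun hx => by_contra fun hy => hne x hx y hy hxy⟩
    obtain ⟨s₁, hs₁, hf₁, hc₁⟩ := ih _ (hlt x hx)
    obtain ⟨s₂, hs₂, hf₂, hc₂⟩ := ih _ (hlt y hy)
    refine ⟨s₁ ∪ s₂, hs₁.union hs₂, fun c hc => hc.elim (hf₁ c) (hf₂ c), fun φ hI hφ => ?_⟩
    have h0 : φ.hom x * φ.hom y = 0 := (map_mul φ.hom x y).symm.trans (hI hxy)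
    rcases mul_eq_zero.1 h0 with h | h
    · obtain ⟨c, hc, h'⟩ := hc₁ φ (sup_le hI ((Ideal.span_singleton_le_iff_mem _).2 h)) hφ
      exact ⟨c, Or.inl hc, h'⟩
    · obtain ⟨c, hc, h'⟩ := hc₂ φ (sup_le hI ((Ideal.span_singleton_le_iff_mem _).2 h)) hφ
      exact ⟨c, Or.inr hc, h'⟩
  obtain ⟨a, ha, hpiece⟩ := FlatStrata.exists_flat_piece F hF I
  obtain ⟨s, hs, hf, hc⟩ := ih _ (hlt a ha)
  let b : A ⧸ I := Ideal.Quotient.mk I a
  let α : A →+* Localization.Away b := algebraMap A _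
  have hα : α.FiniteType :=
    RingHom.finiteType_algebraMap.2 (Algebra.FiniteType.trans (S := A ⧸ I) inferInstance inferInstance)
  let e : Spec (CommRingCat.of (Localization.Away b)) ⟶ Spec A := Spec.map (CommRingCat.ofHom α)
  have he : LocallyOfFiniteType e := (HasRingHomProperty.Spec_iff (P := @LocallyOfFiniteType)).2 hα
  let c₀ : Chart (Spec A) := ⟨_, e, he⟩
  refine ⟨insert c₀ s, hs.insert _, ?_, fun φ hI hφ => ?_⟩
  · rintro c (rfl | hc') q' h
    · let instB : (Pic13.prodK k X q').Over (Spec (CommRingCat.of (Localization.Away b))) :=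
        ⟨pullback.snd _ _⟩
      exact hpiece _ b rfl (prodMap k X e h) (isPullback_prodMap k e h)
    · exact hf c hc' q' h
  by_cases hφa : φ.hom a = 0
  · obtain ⟨c, hc', h'⟩ := hc φ (sup_le hI ((Ideal.span_singleton_le_iff_mem _).2 hφa)) hφ
    exact ⟨c, Or.inr hc', h'⟩
  · have hu : IsUnit (Ideal.Quotient.lift I φ.hom (fun x hx => hI hx) b) := isUnit_iff_ne_zero.2 hφa
    refine ⟨c₀, Or.inl rfl, Spec.map (CommRingCat.ofHom (IsLocalization.Away.lift b hu)), ?_⟩
    change _ ≫ Spec.map _ = _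
    rw [← Spec.map_comp]
    congr 1
    ext x
    change IsLocalization.Away.lift b hu (algebraMap A (Localization.Away b) x) = φ.hom x
    rw [IsScalarTower.algebraMap_apply A (A ⧸ I) (Localization.Away b), IsLocalization.Away.lift_eq]
    rfl

/-- The rational points of a parameter scheme of finite type are covered by finitely many affine
pieces over which a given coherent module is flat. -/
theorem exists_flat_cover {T : Scheme.{u}} (q : T ⟶ Spec (CommRingCat.of k)) [LocallyOfFiniteType q]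
    [QuasiCompact q] (F : (Pic13.prodK k X q).Modules) (hF : Coh.IsCoh F) :
    ∃ s : Set (Chart T), s.Finite ∧
      (∀ c ∈ s, FlatMod.IsFlatOver (pullback.snd _ _)
        ((Scheme.Modules.pullback (bcMap k X q c.e)).obj F)) ∧
      ∀ t : Spec (CommRingCat.of k) ⟶ T, t ≫ q = 𝟙 _ → ∃ c ∈ s, ∃ t', t' ≫ c.e = t := by
  have : CompactSpace T := QuasiCompact.compactSpace_of_compactSpace q
  have : IsLocallyNoetherian T := LocallyOfFiniteType.isLocallyNoetherian q
  obtain ⟨S, hS, hcov⟩ := isCompact_and_isOpen_iff_finite_and_eq_biUnion_affineOpens.mp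
    ⟨(isCompact_univ : IsCompact (Set.univ : Set T)), isOpen_univ⟩
  have key : ∀ V : T.affineOpens, ∃ s : Set (Chart T), s.Finite ∧
      (∀ c ∈ s, FlatMod.IsFlatOver (pullback.snd _ _)
        ((Scheme.Modules.pullback (bcMap k X q c.e)).obj F)) ∧
      ∀ t : Spec (CommRingCat.of k) ⟶ T, t ≫ q = 𝟙 _ → Set.range t ⊆ (V.1 : Set T) →
        ∃ c ∈ s, ∃ t', t' ≫ c.e = t := fun V => by
    have : IsNoetherianRing Γ(T, V.1) := IsLocallyNoetherian.component_noetherian V
    let j := V.2.fromSpec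
    have : IsOpenImmersion j := V.2.isOpenImmersion_fromSpec
    obtain ⟨s, hs, hf, hc⟩ := exists_flat_cover_affine k (j ≫ q)
      ((Scheme.Modules.pullback (bcMap k X q j)).obj F) (FlatStrata.isCoh_pullback _ hF)
    have hlft : ∀ c : Chart (Spec Γ(T, V.1)), LocallyOfFiniteType (c.e ≫ j) := fun c => by
      have := c.lft
      infer_instance
    refine ⟨(fun c => (⟨c.R, c.e ≫ j, hlft c⟩ : Chart T)) '' s, hs.image _, ?_, fun t ht hr => ?_⟩
    · rintro _ ⟨c, hc', rfl⟩
      have h := hf c hc' _ (Category.assoc c.e j q).symm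
      intro x
      exact (FlatMorOne.isFlatOverAt_congr _ ((Scheme.Modules.pullbackComp _ _).app F ≪≫
        (Scheme.Modules.pullbackCongr (prodMap_comp k j rfl c.e _ rfl)).app F) x).1 (h x)
    · let t' := IsOpenImmersion.lift j t (by rwa [V.2.range_fromSpec])
      have ht' : t' ≫ j = t := IsOpenImmersion.lift_fac _ _ _
      obtain ⟨c, hc', t'', h''⟩ := hc t' (by rw [reassoc_of% ht', ht])
      exact ⟨_, ⟨c, hc', rfl⟩, t'', by change t'' ≫ c.e ≫ j = t; rw [reassoc_of% h'', ht']⟩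
  choose s hs hf hc using key
  refine ⟨⋃ V ∈ S, s V, hS.biUnion fun V _ => hs V, fun c hc' => ?_, fun t ht => ?_⟩
  · obtain ⟨V, -, hV⟩ := Set.mem_iUnion₂.1 hc'
    exact hf V c hV
  · obtain ⟨V, hVS, hV⟩ := Set.mem_iUnion₂.1 (hcov.le (Set.mem_univ (t (IsLocalRing.closedPoint k))))
    obtain ⟨c, hc', h'⟩ := hc V t ht (by
      rintro _ ⟨y, rfl⟩
      have : Subsingleton ↥(Spec (CommRingCat.of k)) := inferInstanceAs (Subsingleton (PrimeSpectrum k))
      rwa [Subsingleton.elim y (IsLocalRing.closedPoint k)])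
    exact ⟨c, Set.mem_iUnion₂.2 ⟨V, hVS, hc'⟩, h'⟩

end Groth.Misc13.NumTriv
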