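import Groth.Agent.Misc13.NumTriv.FormalRoot
import Groth.Agent.Misc13.NumTriv.CompleteNbhd
import Groth.Agent.Misc13.NumTriv.Strata
import Groth.Agent.PicAux.SeesawAnyBase
import Groth.Agent.PicAux.FibTrivClosed
import Groth.Agent.LimitMod.Modules
import Groth.Agent.EGA43Topo.OpenAt

/-!
# Roots in families near a rational point with trivial fibre

An invertible module on `X ×_k Spec R` trivial on the fibre of a rational point `t` has, on the fibres
of the rational points near `t`, `n`-th roots algebraically equivalent to zero (`n` invertible in `k`).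
-/

set_option autoImplicit false
set_option backward.isDefEq.respectTransparency false
set_option backward.isDefEq.respectTransparency.types false
set_option linter.style.haveILetI false

universe u

open CategoryTheory Limits AlgebraicGeometry TopologicalSpace Topology IsLocalRing Opposite

namespace Groth.Misc13.NumTriv

open Groth.Abvar.PicCalc Groth.SpectralTopology Groth.ModelsGraphs.InvAlg
open Groth.PicAux.SeesawAnyBase

/-- The spectrum of a local ring is preconnected. -/
theorem preconnectedSpace_of_isLocalRing (A : Type u) [CommRing A] [IsLocalRing A] :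
    PreconnectedSpace (PrimeSpectrum A) := by
  refine ⟨isPreconnected_of_forall (IsLocalRing.closedPoint A) fun y _ => ?_⟩
  exact ⟨closure {y}, Set.subset_univ _,
    specializes_iff_mem_closure.1 ((PrimeSpectrum.le_iff_specializes y (IsLocalRing.closedPoint A)).1
      (le_maximalIdeal y.2.ne_top)),
    subset_closure rfl, isPreconnected_singleton.closure⟩

variable (k : Type u) [Field k] [IsAlgClosed k] {X : Scheme.{u}} [X.Over (Spec (CommRingCat.of k))]
  [IsProper (X ↘ Spec (CommRingCat.of k))]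

/-- Roots near a rational point with trivial fibre. -/
theorem exists_nhd_root {R : CommRingCat.{u}} (q : Spec R ⟶ Spec (CommRingCat.of k))
    [LocallyOfFiniteType q] (E : (Pic13.prodK k X q).Modules) (hE : PicF.IsInvertible E)
    (t : Spec (CommRingCat.of k) ⟶ Spec R) (ht : t ≫ q = 𝟙 _)
    (htriv : pull (Pic13.sliceAt k X q t ht) (Abvar.PicCalc.cls hE) = 1) {n : ℕ} (hn : (n : k) ≠ 0) :
    ∃ U : (Spec R).Opens, t (IsLocalRing.closedPoint k) ∈ U ∧
      ∀ (s : Spec (CommRingCat.of k) ⟶ Spec R) (hs : s ≫ q = 𝟙 _), s (IsLocalRing.closedPoint k) ∈ U →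
        ∃ N : X.Modules, PicF.IsInvertible N ∧ Pic13.IsAlgEquivZero k X N ∧
          Nonempty (CohB1.tensorPow N n ≅ Pic13.fibreMod k X q s hs E) := by
  -- the ring maps of the point
  let jc := Spec.preimage q
  let φc := Spec.preimage t
  have hjφ : jc ≫ φc = 𝟙 _ := by
    apply Spec.map_injective
    rw [Spec.map_comp, Spec.map_preimage, Spec.map_preimage, ht, Spec.map_id]
  have : IsLocallyNoetherian (Spec R) := LocallyOfFiniteType.isLocallyNoetherian q
  have : IsNoetherianRing Γ(Spec R, ⊤) :=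
    IsLocallyNoetherian.component_noetherian ⟨⊤, isAffineOpen_top _⟩
  have : IsNoetherianRing R :=
    isNoetherianRing_of_ringEquiv Γ(Spec R, ⊤) (Scheme.ΓSpecIso R).commRingCatIsoToRingEquiv
  obtain ⟨A₀, _, _, _, _, _, ι, ψ, hψι, hker, hnA, hgen⟩ :=
    exists_complete_nbhd jc.hom φc.hom (congrArg CommRingCat.Hom.hom hjφ) hn
  let A : CommRingCat.{u} := CommRingCat.of A₀
  letI : Algebra R A := ι.toAlgebra
  let bR : Spec A ⟶ Spec R := Spec.map (CommRingCat.ofHom (algebraMap R A))
  let bA : Spec (CommRingCat.of k) ⟶ Spec A := Spec.map (CommRingCat.ofHom ψ)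
  have hbA : bA ≫ bR = t := by
    refine (Spec.map_comp _ _).symm.trans ((congrArg Spec.map ?_).trans (Spec.map_preimage t))
    exact CommRingCat.hom_ext hψι
  -- the family over the completion
  let π : Pic13.prodK k X q ⟶ Spec R := pullback.snd _ _
  have : IsProper π := MorphismProperty.of_isPullback
    (IsPullback.of_hasPullback (X ↘ Spec (CommRingCat.of k)) q) inferInstance
  let XA := pullback π bR
  letI : XA.Over (Spec (CommRingCat.of A₀)) := ⟨pullback.snd π bR⟩
  haveI : IsProper (XA ↘ Spec (CommRingCat.of A₀)) :=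
    inferInstanceAs (IsProper (pullback.snd π bR))
  let p : XA ⟶ Pic13.prodK k X q := pullback.fst π bR
  let pX := X ↘ Spec (CommRingCat.of k)
  have hσw : Pic13.sliceAt k X q t ht ≫ π = (pX ≫ bA) ≫ bR := by
    rw [Category.assoc, hbA]
    exact pullback.lift_snd _ _ _
  let σ : X ⟶ XA := pullback.lift (Pic13.sliceAt k X q t ht) (pX ≫ bA) hσw
  let c := pull p (Abvar.PicCalc.cls hE)
  have hσc : pull σ c = 1 := by
    rw [← Abvar.PicCalc.pull_comp, show σ ≫ p = _ from pullback.lift_fst _ _ _, htriv]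
  -- the zeroth level is the fibre
  let I := maximalIdeal A₀
  let e₀ : k →+* A₀ ⧸ I ^ (0 + 1) := (Ideal.Quotient.mk _).comp (ι.comp jc.hom)
  have hψj : ∀ z : k, ψ (ι (jc.hom z)) = z := fun z => by
    rw [show ψ (ι (jc.hom z)) = φc.hom (jc.hom z) from RingHom.congr_fun hψι _]
    exact congr($hjφ z)
  have hfac : e₀.comp ψ = Ideal.Quotient.mk (I ^ (0 + 1)) := by
    ext a
    refine (Ideal.Quotient.eq).2 ?_
    change _ ∈ maximalIdeal A₀ ^ (0 + 1)
    rw [zero_add, pow_one, ← hker, RingHom.mem_ker, map_sub]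
    exact sub_eq_zero.2 (hψj _)
  let ε : Spec (CommRingCat.of (A₀ ⧸ I ^ (0 + 1))) ⟶ Spec (CommRingCat.of k) :=
    Spec.map (CommRingCat.ofHom e₀)
  have hε : ε ≫ bA = CohB1.specQuot I 0 := by
    refine (Spec.map_comp _ _).symm.trans (congrArg Spec.map ?_)
    exact CommRingCat.hom_ext hfac
  let a : lvl I XA 0 ⟶ X := inc I XA 0 ≫ p ≫ pullback.fst _ _
  have hbq : bA ≫ bR ≫ q = 𝟙 _ := by rw [reassoc_of% hbA, ht]
  have hinc : inc I XA 0 ≫ pullback.snd π bR = CohB1.thickToBase _ I 0 ≫ CohB1.specQuot I 0 :=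
    pullback.condition
  have hapX : a ≫ pX = CohB1.thickToBase _ I 0 ≫ ε := by
    calc a ≫ pX = inc I XA 0 ≫ (p ≫ π) ≫ q := by
          simp only [a, pX, π, Category.assoc, pullback.condition]
      _ = CohB1.thickToBase _ I 0 ≫ CohB1.specQuot I 0 ≫ bR ≫ q := by
          rw [show p ≫ π = pullback.snd π bR ≫ bR from pullback.condition, Category.assoc,
            reassoc_of% hinc]
      _ = _ := by rw [← hε, Category.assoc, hbq, Category.comp_id]
  have hdec : inc I XA 0 = a ≫ σ := by
    apply pullback.hom_ext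
    · rw [Category.assoc, show σ ≫ pullback.fst π bR = _ from pullback.lift_fst _ _ _]
      apply pullback.hom_ext
      · rw [Category.assoc, Category.assoc, Pic13.sliceAt]
        erw [pullback.lift_fst, Category.comp_id]
      · rw [Category.assoc, Category.assoc, Pic13.sliceAt]
        erw [pullback.lift_snd]
        rw [reassoc_of% hapX, show pullback.fst π bR ≫ π = pullback.snd π bR ≫ bR from pullback.condition,
          reassoc_of% hinc, ← hε, Category.assoc, hbA]
    · rw [Category.assoc, show σ ≫ pullback.snd π bR = _ from pullback.lift_snd _ _ _,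
        reassoc_of% hapX, hinc, hε]
  have hc0 : pull (inc I XA 0) c = 1 := by rw [hdec, Abvar.PicCalc.pull_comp, hσc, map_one]
  obtain ⟨d, hd0, hdn⟩ := exists_root_of_closedFibre A₀ XA hnA hc0
  have hσd : pull σ d = 1 := by
    let ζ : Spec (CommRingCat.of k) ⟶ Spec (CommRingCat.of (A₀ ⧸ I ^ (0 + 1))) :=
      Spec.map (CommRingCat.ofHom (Ideal.Quotient.lift _ ψ fun z hz => by
        rwa [← RingHom.mem_ker, hker, ← pow_one (maximalIdeal A₀)]))
    have hζ : ζ ≫ CohB1.specQuot I 0 = bA := by
      refine (Spec.map_comp _ _).symm.trans (congrArg Spec.map ?_)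
      exact CommRingCat.hom_ext (Ideal.Quotient.lift_comp_mk _ _ _)
    let l : X ⟶ lvl I XA 0 := pullback.lift σ (pX ≫ ζ) (by
      rw [Category.assoc, hζ]
      exact pullback.lift_snd _ _ _)
    rw [← show l ≫ inc I XA 0 = σ from pullback.lift_fst _ _ _, Abvar.PicCalc.pull_comp, hd0, map_one]
  obtain ⟨Lh, hLh, rfl⟩ := PicGrp.exists_eq_cls d
  -- descent to a finitely generated subalgebra
  let D := stageDiagram (A := A) π
  let cn := stageCone (A := A) π
  obtain ⟨hlim⟩ := nonempty_isLimit_stageCone (A := A) π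
  have : ∀ {s s' : (AlgSub R A)ᵒᵖ} (f : s ⟶ s'), IsAffineHom (D.map f) :=
    isAffineHom_stageDiagram π
  have : ∀ s, IsAffine ((algSchemes R A).obj s) := fun s => inferInstanceAs (IsAffine (Spec _))
  have : ∀ s, CompactSpace (D.obj s) := fun s =>
    QuasiCompact.compactSpace_of_compactSpace (pullback.snd π (algToBase R A s))
  have : ∀ s, QuasiSeparatedSpace (D.obj s) := fun s =>
    quasiSeparatedSpace_of_quasiSeparated (pullback.snd π (algToBase R A s))
  have : Nonempty (AlgSub R A) := ⟨⟨⊥, Subalgebra.fg_bot⟩⟩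
  obtain ⟨i₀⟩ : Nonempty (AlgSub R A)ᵒᵖ := ⟨op ⟨⊥, Subalgebra.fg_bot⟩⟩
  have : IsDirected (AlgSub R A) (· ≤ ·) := ⟨fun s t ↦
    ⟨⟨s.1 ⊔ t.1, s.2.sup t.2⟩, le_sup_left (a := s.1), le_sup_right (a := s.1)⟩⟩
  have : IsFiltered (AlgSub R A) := CategoryTheory.isFiltered_of_directed_le_nonempty _
  have : IsCofiltered (AlgSub R A)ᵒᵖ := CategoryTheory.isCofiltered_op_of_isFiltered _
  obtain ⟨s₀, -, L₀, hL₀, ⟨eL₀⟩⟩ := PicAux.LimitInv.exists_stage_invertible D cn hlim i₀ hLh
  let G₀ := (Scheme.Modules.pullback (pullback.fst π (algToBase R A s₀))).obj E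
  have hG₀ : PicF.IsInvertible G₀ := PicAux.isInvertible_pullback _ hE
  have hF₀ : PicF.IsInvertible (CohB1.tensorPow L₀ n) := PicAux.isInvertible_tensorPow hL₀ n
  have hfst : ∀ s, cn.π.app s ≫ pullback.fst π (algToBase R A s) = p := fun s =>
    (pullback.lift_fst _ _ _).trans (Category.comp_id _)
  have hcls : pull (cn.π.app s₀) (Abvar.PicCalc.cls hL₀) = Abvar.PicCalc.cls hLh := by
    rw [Abvar.PicCalc.pull_cls]
    exact (nonempty_iso_iff _ hLh).1 ⟨eL₀⟩
  have hiso : Nonempty ((Scheme.Modules.pullback (cn.π.app s₀)).obj (CohB1.tensorPow L₀ n) ≅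
      (Scheme.Modules.pullback (cn.π.app s₀)).obj G₀) := by
    refine (nonempty_iso_iff (PicAux.isInvertible_pullback _ hF₀)
      (PicAux.isInvertible_pullback _ hG₀)).2 ?_
    rw [← Abvar.PicCalc.pull_cls _ hF₀, ← Abvar.PicCalc.pull_cls _ hG₀, Abvar.PicCalc.cls_tensorPow,
      map_pow, hcls, hdn, ← Abvar.PicCalc.pull_cls _ hE, ← Abvar.PicCalc.pull_comp, hfst]
    · rfl
    · exact hL₀
  have := (PicAux.isQCoh_of_isInvertible hF₀)
  have := (PicAux.isQCoh_of_isInvertible hG₀)
  obtain ⟨s₁, φ₁, ⟨e₁⟩⟩ := LimitMod.exists_iso_stage hlim (PicAux.FibTrivClosed.isFP_of_isInvertible hF₀)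
    (PicAux.FibTrivClosed.isFP_of_isInvertible hG₀) hiso.some
  let L₁ := (Scheme.Modules.pullback (D.map φ₁)).obj L₀
  have hL₁ : PicF.IsInvertible L₁ := PicAux.isInvertible_pullback _ hL₀
  have hL₁n : Abvar.PicCalc.cls hL₁ ^ n =
      pull (pullback.fst π (algToBase R A s₁)) (Abvar.PicCalc.cls hE) := by
    rw [← show D.map φ₁ ≫ pullback.fst π (algToBase R A s₀) = pullback.fst π (algToBase R A s₁) from
        (pullback.lift_fst _ _ _).trans (Category.comp_id _), Abvar.PicCalc.pull_comp,
      Abvar.PicCalc.pull_cls _ hE, Abvar.PicCalc.pull_cls, ← Abvar.PicCalc.pull_cls _ hL₀, ← map_pow,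
      ← Abvar.PicCalc.cls_tensorPow, Abvar.PicCalc.pull_cls]
    exact (nonempty_iso_iff _ _).1 ⟨e₁⟩
  have hcls₁ : pull (cn.π.app s₁) (Abvar.PicCalc.cls hL₁) = Abvar.PicCalc.cls hLh := by
    rw [← hcls, ← Abvar.PicCalc.pull_cls _ hL₀, ← Abvar.PicCalc.pull_comp, cn.w]
    rfl
  -- the stage as a connected family
  let B := s₁.unop.1
  let S : Scheme.{u} := (algSchemes R A).obj s₁
  let aS : S ⟶ Spec R := algToBase R A s₁
  let r : S ⟶ Spec (CommRingCat.of k) := aS ≫ q
  have : QuasiCompact r := inferInstance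
  let gA : Spec A ⟶ S := (algCone R A).π.app s₁
  have hgA : gA ≫ aS = bR := algCone_π_toBase R A s₁
  have hconn : ConnectedSpace S := by
    have hd : DenseRange gA := by
      change DenseRange (PrimeSpectrum.comap (algebraMap B A₀))
      exact (PrimeSpectrum.denseRange_comap_iff_ker_le_nilRadical (f := algebraMap B A₀)).2
        (by rw [(RingHom.injective_iff_ker_eq_bot _).1 Subtype.val_injective]; exact bot_le)
    have := preconnectedSpace_of_isLocalRing A₀
    have h1 : _root_.IsPreconnected (Set.range gA) := by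
      rw [← Set.image_univ]
      exact (isPreconnected_univ (α := PrimeSpectrum A₀)).image _ gA.continuous.continuousOn
    exact { isPreconnected_univ := hd.closure_range ▸ h1.closure
            toNonempty := ⟨gA (IsLocalRing.closedPoint A₀)⟩ }
  let u : Pic13.prodK k X r ⟶ pullback π aS :=
    pullback.lift (prodMap k X aS rfl) (pullback.snd _ _) (prodMap_snd k aS rfl)
  let M := (Scheme.Modules.pullback u).obj L₁
  have hM : PicF.IsInvertible M := PicAux.isInvertible_pullback _ hL₁
  let b₀ : Spec (CommRingCat.of k) ⟶ S := bA ≫ gA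
  have hb₀ : b₀ ≫ r = 𝟙 _ := by
    simp only [b₀, r, Category.assoc, reassoc_of% hgA]
    exact hbq
  have hsl₀ : Pic13.sliceAt k X r b₀ hb₀ ≫ u = σ ≫ cn.π.app s₁ := by
    apply pullback.hom_ext
    · rw [Category.assoc, show u ≫ pullback.fst π aS = _ from pullback.lift_fst _ _ _,
        slice_prodMap k aS rfl ht hb₀ (show b₀ ≫ aS = t by
          simp only [b₀, Category.assoc, hgA, hbA]),
        Category.assoc, hfst, show σ ≫ p = _ from pullback.lift_fst _ _ _]
    · rw [Category.assoc, show u ≫ pullback.snd π aS = _ from pullback.lift_snd _ _ _,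
        Category.assoc, show cn.π.app s₁ ≫ pullback.snd π aS = pullback.snd π bR ≫ gA from
          pullback.lift_snd _ _ _, ← Category.assoc,
        show σ ≫ pullback.snd π bR = _ from pullback.lift_snd _ _ _, Pic13.sliceAt]
      erw [pullback.lift_snd]
      simp only [b₀, pX, Category.assoc]
  have hfib₀ : Nonempty (Pic13.fibreMod k X r b₀ hb₀ M ≅ Coh.structureModule X) := by
    refine (Abvar.PicCalc.nonempty_iso_structure_iff (PicAux.isInvertible_pullback _ hM)).2 ?_
    rw [← Abvar.PicCalc.pull_cls _ hM, ← Abvar.PicCalc.pull_cls u hL₁, ← Abvar.PicCalc.pull_comp,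
      hsl₀, Abvar.PicCalc.pull_comp]
    exact (congrArg (pull σ) hcls₁).trans hσd
  -- the image of the stage is a neighbourhood
  have hnhd : Set.range aS ∈ 𝓝 (t (IsLocalRing.closedPoint k)) := by
    have : Algebra.FiniteType R B := B.fg_iff_finiteType.1 s₁.unop.2
    have : Algebra.FinitePresentation R B := Algebra.FinitePresentation.of_finiteType.1 inferInstance
    refine EGA43Topo.mem_nhds_of_isConstructible
      (PrimeSpectrum.isConstructible_range_comap (f := algebraMap R B)
        (RingHom.finitePresentation_algebraMap.2 inferInstance)) fun p' hp' => ?_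
    have hle : p'.asIdeal ≤ RingHom.ker φc.hom := by
      have hle' : p'.asIdeal ≤ (t (IsLocalRing.closedPoint k) : PrimeSpectrum R).asIdeal :=
        (PrimeSpectrum.le_iff_specializes p' _).2 hp'
      refine hle'.trans (le_of_eq ?_)
      rw [← Spec.map_preimage t]
      ext z
      change φc.hom z ∈ maximalIdeal k ↔ _
      rw [IsLocalRing.maximalIdeal_eq_bot, Ideal.mem_bot, RingHom.mem_ker]
    obtain ⟨P, hP⟩ := hgen p' hle
    refine ⟨PrimeSpectrum.comap (algebraMap B A₀) P, ?_⟩
    rw [← hP]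
    rfl
  obtain ⟨U, hU, hUo, hyU⟩ := mem_nhds_iff.1 hnhd
  refine ⟨⟨U, hUo⟩, hyU, fun s hs hsU => ?_⟩
  have hsc : IsClosed ({s (IsLocalRing.closedPoint k)} : Set (Spec R)) :=
    ((pointEquivClosedPoint q) ⟨s, hs⟩).2
  have : JacobsonSpace S := LocallyOfFiniteType.jacobsonSpace r
  obtain ⟨w, hw, hwc⟩ := nonempty_inter_closedPoints
    (show (aS ⁻¹' {s (IsLocalRing.closedPoint k)}).Nonempty from
      (hU hsU).imp fun x hx => hx)
    (hsc.preimage aS.continuous).isLocallyClosed
  let b := pointOfClosedPoint r w hwc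
  have hb : b ≫ r = 𝟙 _ := pointOfClosedPoint_comp r w hwc
  have hbs : b ≫ aS = s := ext_of_apply_closedPoint_eq q (by rw [Category.assoc]; exact hb) hs (by
    rw [Scheme.Hom.comp_apply, pointOfClosedPoint_apply]
    exact hw)
  have hsl : Pic13.sliceAt k X r b hb ≫ u ≫ pullback.fst π aS = Pic13.sliceAt k X q s hs := by
    rw [show u ≫ pullback.fst π aS = _ from pullback.lift_fst _ _ _]
    exact slice_prodMap k aS rfl hs hb hbs
  have hN : PicF.IsInvertible (Pic13.fibreMod k X r b hb M) := PicAux.isInvertible_pullback _ hM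
  refine ⟨_, hN, ⟨S, r, hconn, inferInstance, inferInstance, M, hM, b, b₀, hb, hb₀, ⟨Iso.refl _⟩, hfib₀⟩,
    (nonempty_iso_iff (PicAux.isInvertible_tensorPow hN n) (PicAux.isInvertible_pullback _ hE)).2 ?_⟩
  rw [Abvar.PicCalc.cls_tensorPow, ← Abvar.PicCalc.pull_cls _ hM, ← Abvar.PicCalc.pull_cls u hL₁,
    ← Abvar.PicCalc.pull_comp, ← map_pow, hL₁n, ← Abvar.PicCalc.pull_comp, Category.assoc, hsl,
    Abvar.PicCalc.pull_cls]
  exact hN

end Groth.Misc13.NumTriv
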