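import Groth.Agent.Quot.Relations
import Groth.Agent.Ega2Proj.SpansFinite
import Groth.Agent.Ega2Proj.TwistExtend

/-!
# Morphisms out of an invertible module as sections of a twist
-/

set_option autoImplicit false

universe u

open CategoryTheory Limits AlgebraicGeometry TopologicalSpace
open Groth.PicAux (isEquivalence_tensorRightMod_of_isInvertible isInvertible_pullback homOfSection
  oneSec homOfSection_one hom_structure_ext pullSec pullUnit pullSec_map)
open Groth.ThetaAlg (smulEnd smulEnd_comm)

namespace Groth.Misc13.NumTriv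

open Groth.Quot (twSec pullTensorNat tensor_smulEnd homOfSection_smul' evalOne)

variable {Y : Scheme.{u}} {L E F : Y.Modules}
  (ε : (DCoh.tensorRightMod L).obj E ≅ Coh.structureModule Y)

theorem homOfSection_twSec (w : E ⟶ F) :
    homOfSection (twSec ε w) = ε.inv ≫ (DCoh.tensorRightMod L).map w :=
  hom_structure_ext (by rw [homOfSection_one]; rfl)

theorem twSec_injective (hL : PicF.IsInvertible L) :
    Function.Injective (fun w : E ⟶ F => twSec ε w) := by
  intro w w' h
  have := isEquivalence_tensorRightMod_of_isInvertible hL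
  apply (DCoh.tensorRightMod L).map_injective
  rw [← cancel_epi ε.inv, ← homOfSection_twSec, ← homOfSection_twSec]
  exact congrArg homOfSection h

theorem twSec_surjective (hL : PicF.IsInvertible L)
    (s : Γ((DCoh.tensorRightMod L).obj F, (⊤ : Y.Opens))) : ∃ w : E ⟶ F, twSec ε w = s := by
  have := isEquivalence_tensorRightMod_of_isInvertible hL
  refine ⟨(DCoh.tensorRightMod L).preimage (ε.hom ≫ homOfSection s), ?_⟩
  rw [twSec, Functor.map_preimage, Iso.inv_hom_id_assoc]
  exact homOfSection_one s

/-- Sections of twists are linear in the morphism. -/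
theorem twSec_comb {ι : Type*} [Fintype ι] (b : ι → Γ(Y, ⊤)) (w : ι → (E ⟶ F)) :
    twSec ε (∑ l, smulEnd _ (b l) ≫ w l) = ∑ l, b l • twSec ε (w l) := by
  have : (DCoh.tensorRightMod L).Additive := DCoh.additive_tensorRightMod _
  have hl : ∀ l, ε.inv ≫ (DCoh.tensorRightMod L).map (smulEnd _ (b l) ≫ w l) =
      homOfSection (b l • twSec ε (w l)) := fun l => by
    rw [homOfSection_smul', Functor.map_comp, tensor_smulEnd, homOfSection_twSec]
    exact ((Category.assoc _ _ _).symm.trans
      (congrArg (· ≫ _) (smulEnd_comm ε.inv (b l)).symm)).trans (Category.assoc _ _ _)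
  rw [twSec, Functor.map_sum, Preadditive.comp_sum, Finset.sum_congr rfl fun l _ => hl l]
  change evalOne _ _ = _
  rw [map_sum]
  exact Finset.sum_congr rfl fun l _ => homOfSection_one _

/-- The trivialisation pulled back. -/
noncomputable def pullEps {Y' : Scheme.{u}} (g : Y' ⟶ Y) :
    (DCoh.tensorRightMod ((Scheme.Modules.pullback g).obj L)).obj ((Scheme.Modules.pullback g).obj E) ≅
      Coh.structureModule Y' :=
  ((pullTensorNat g L).app E).symm ≪≫ (Scheme.Modules.pullback g).mapIso ε ≪≫
    @asIso _ _ _ _ (pullUnit g) (PicAux.isIso_pullUnit g)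

/-- Sections of twists commute with pullback. -/
theorem twSec_map {Y' : Scheme.{u}} (g : Y' ⟶ Y) (w : E ⟶ F) :
    twSec (pullEps ε g) ((Scheme.Modules.pullback g).map w) =
      ((pullTensorNat g L).hom.app F).app ⊤
        (show Γ((Scheme.Modules.pullback g).obj ((DCoh.tensorRightMod L).obj F), (⊤ : Y'.Opens)) from
          pullSec g _ (twSec ε w)) := by
  have := PicAux.isIso_pullUnit g
  let G := Scheme.Modules.pullback g
  let θ := pullTensorNat g L
  let t : Γ(G.obj ((DCoh.tensorRightMod L).obj F), (⊤ : Y'.Opens)) := pullSec g _ (twSec ε w)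
  refine Eq.trans ?_ (congrArg ((θ.hom.app F).app ⊤) (homOfSection_one t))
  change ((pullEps ε g).inv ≫ _).app ⊤ (oneSec Y' ⊤) = (homOfSection t ≫ θ.hom.app F).app ⊤ (oneSec Y' ⊤)
  congr 3
  have h1 : θ.hom.app E ≫ (DCoh.tensorRightMod (G.obj L)).map (G.map w) =
      G.map ((DCoh.tensorRightMod L).map w) ≫ θ.hom.app F := (θ.hom.naturality w).symm
  have h2 := FlatStrata.pullUnit_homOfSection g (𝟙 _) (twSec ε w) t rfl
  rw [Category.comp_id, homOfSection_twSec] at h2
  simp only [pullEps, Iso.trans_inv, Iso.symm_inv, Iso.app_hom, Functor.mapIso_inv, asIso_inv,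
    Category.assoc]
  rw [IsIso.inv_comp_eq, ← Category.assoc (pullUnit g), ← h2, Functor.map_comp]
  erw [h1]
  exact (Category.assoc _ _ _).symm

end Groth.Misc13.NumTriv
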