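import Groth.Agent.Misc13.NumTriv.VeryAmple
import Groth.Agent.Misc13.Volume

/-!
# Numerical invariance of the volume
-/

set_option autoImplicit false

universe u

open CategoryTheory CategoryTheory.Limits AlgebraicGeometry TopologicalSpace Opposite
open scoped ENNReal

namespace Groth.Misc13.NumTriv

open Groth.Inter Groth.PicAux Filter

variable (k : Type u) [Field k] {X : Scheme.{u}} [X.Over (Spec (CommRingCat.of k))]
  [IsProper (X ↘ Spec (CommRingCat.of k))] [IsIntegral X]

theorem limsup_tensor_le {d : ℕ} (hn : topologicalKrullDim X = (d : WithBot ℕ∞)) {H L N : X.Modules}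
    (hH : CohB1.IsAmple H) (hL : PicF.IsInvertible L) (hN : NT k N) :
    limsup (Volume.ratio k d (CohB1.tensorMod L N)) atTop ≤ limsup (Volume.ratio k d L) atTop := by
  obtain ⟨M, -, hNM⟩ := exists_isInverseOf hN.1
  have hM := nt_inverse k hN hNM
  have hLN := isInvertible_tensorMod hL hN.1
  by_cases hb : HasAmpleSub (CohB1.tensorMod L N)
  swap
  · rw [(Volume.tendsto_ratio_of_not_hasAmpleSub k hn hH hLN hb).limsup_eq]
    exact bot_le
  have hbL : HasAmpleSub L := by
    obtain ⟨ν, A, φ, hν, hA, hφ⟩ := hasAmpleSub_tensor_nt k hM hb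
    let e : CohB1.tensorPow (CohB1.tensorMod (CohB1.tensorMod L N) M) ν ≅ CohB1.tensorPow L ν :=
      (pow_congr ((tensor_assoc L N M).some ≪≫ (tensor_congr ⟨Iso.refl L⟩ hNM).some ≪≫
        (tensor_comm L _).some ≪≫ (tensor_one L).some) ν).some
    have he : Mono e.hom := inferInstance
    exact ⟨ν, A, φ ≫ e.hom, hν, hA, @mono_comp _ _ _ _ _ φ hφ _ he⟩
  obtain ⟨a, ha, heff⟩ := exists_pow_effective k hH hL hbL
  let r : ℕ → ℝ≥0∞ := fun m => (((m + a : ℕ) : ℝ≥0∞) / (m : ℝ≥0∞)) ^ d
  have hr : Tendsto r atTop (nhds 1) := by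
    have h1 : Tendsto (fun m : ℕ => ((m + a : ℕ) : ℝ≥0∞) / (m : ℝ≥0∞)) atTop (nhds 1) := by
      refine tendsto_of_tendsto_of_tendsto_of_le_of_le' tendsto_const_nhds
        (h := fun m : ℕ => 1 + (a : ℝ≥0∞) * (m : ℝ≥0∞)⁻¹) ?_ ?_ ?_
      · simpa using tendsto_const_nhds.add (ENNReal.Tendsto.const_mul
          ENNReal.tendsto_inv_nat_nhds_zero (Or.inr (ENNReal.natCast_ne_top a)))
      · filter_upwards [eventually_ge_atTop 1] with m hm
        refine (ENNReal.le_div_iff_mul_le (Or.inl (by exact_mod_cast (by omega : m ≠ 0)))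
          (Or.inl (ENNReal.natCast_ne_top m))).2 ?_
        rw [one_mul]
        exact_mod_cast Nat.le_add_right m a
      · filter_upwards [eventually_ge_atTop 1] with m hm
        have h0 : (m : ℝ≥0∞) ≠ 0 := by exact_mod_cast (by omega : m ≠ 0)
        refine ENNReal.div_le_of_le_mul ?_
        rw [add_mul, one_mul, mul_assoc, ENNReal.inv_mul_cancel h0 (ENNReal.natCast_ne_top m), mul_one,
          Nat.cast_add]
    have h2 := ((ENNReal.continuous_pow d).tendsto 1).comp h1
    rw [one_pow] at h2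
    exact h2
  have hle : ∀ᶠ m in atTop,
      Volume.ratio k d (CohB1.tensorMod L N) m ≤ ((fun m => Volume.ratio k d L (m + a)) * r) m := by
    filter_upwards [eventually_ge_atTop 1] with m hm
    obtain ⟨s, hs⟩ := exists_ne_zero_of_finrank_pos k (heff 1 one_pos _ (nt_pow k hM m))
    have hE : PicF.IsInvertible (CohB1.tensorMod (CohB1.tensorPow L (a * 1)) (CohB1.tensorPow M m)) :=
      isInvertible_tensorMod (isInvertible_tensorPow hL _) (isInvertible_tensorPow hM.1 m)
    have h4 := Volume.h0_le_of_hasSec k (isInvertible_tensorPow hLN m) hE ⟨s, hs⟩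
    have e : CohB1.tensorMod (CohB1.tensorPow (CohB1.tensorMod L N) m)
        (CohB1.tensorMod (CohB1.tensorPow L (a * 1)) (CohB1.tensorPow M m)) ≅ CohB1.tensorPow L (m + a) :=
      (tensor_congr (tensorPow_tensorMod' L N m) ⟨Iso.refl _⟩).some ≪≫ (tensor_middle _ _ _ _).some ≪≫
        (tensor_congr ⟨(tensorPow_add L m (a * 1)).some.symm⟩
          (isInverseOf_tensorPow hNM m)).some ≪≫ (tensor_comm _ _).some ≪≫ (tensor_one _).some ≪≫
        eqToIso (by rw [mul_one])
    rw [finrank_h0_congr k e] at h4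
    have h0 : (m : ℝ≥0∞) ≠ 0 := by exact_mod_cast (by omega : m ≠ 0)
    have hne : ((m + a : ℕ) : ℝ≥0∞) ^ d ≠ 0 := pow_ne_zero _ (by exact_mod_cast (by omega : m + a ≠ 0))
    show Volume.ratio k d (CohB1.tensorMod L N) m ≤ Volume.ratio k d L (m + a) * r m
    simp only [Volume.ratio, r]
    refine (ENNReal.div_le_div_right (show _ ≤ (Module.finrank k (Coh.HH X (CohB1.tensorPow L (m + a)) 0) : ℝ≥0∞)
      by exact_mod_cast h4) _).trans_eq ?_
    rw [div_eq_mul_inv ((m + a : ℕ) : ℝ≥0∞) (m : ℝ≥0∞), mul_pow, ← mul_assoc,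
      ENNReal.div_mul_cancel hne (ENNReal.pow_ne_top (ENNReal.natCast_ne_top _)), div_eq_mul_inv,
      ← ENNReal.inv_pow]
  refine (limsup_le_limsup hle).trans ((ENNReal.limsup_mul_le' (Or.inr ?_) (Or.inr ?_)).trans ?_)
  · rw [hr.limsup_eq]; exact ENNReal.one_ne_top
  · rw [hr.limsup_eq]; exact one_ne_zero
  · rw [hr.limsup_eq, mul_one]
    exact (limsup_nat_add (Volume.ratio k d L) a).le

/-- The volume is numerical. -/
theorem limsup_tensor_eq {d : ℕ} (hn : topologicalKrullDim X = (d : WithBot ℕ∞)) {H L N : X.Modules}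
    (hH : CohB1.IsAmple H) (hL : PicF.IsInvertible L) (hN : NT k N) :
    limsup (Volume.ratio k d (CohB1.tensorMod L N)) atTop = limsup (Volume.ratio k d L) atTop := by
  refine le_antisymm (limsup_tensor_le k hn hH hL hN) ?_
  obtain ⟨M, -, hNM⟩ := exists_isInverseOf hN.1
  have h := limsup_tensor_le k hn hH (isInvertible_tensorMod hL hN.1) (nt_inverse k hN hNM)
  have e : CohB1.tensorMod (CohB1.tensorMod L N) M ≅ L :=
    (tensor_assoc L N M).some ≪≫ (tensor_congr ⟨Iso.refl L⟩ hNM).some ≪≫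
      (tensor_comm L _).some ≪≫ (tensor_one L).some
  have e' : Volume.ratio k d (CohB1.tensorMod (CohB1.tensorMod L N) M) = Volume.ratio k d L := by
    funext m
    simp only [Volume.ratio, finrank_h0_congr k (pow_congr e m).some]
  rwa [e'] at h

end Groth.Misc13.NumTriv
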